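import Mathlib
import Cfsg.Agent.H62.TE2
import Cfsg.Agent.H93.STDA
import Cfsg.Agent.H86.DblG

/-!
# Involution centralisers with Sylow subgroup `⟨t⟩ × E_q`, I
-/

set_option autoImplicit false
set_option linter.unusedSectionVars false

namespace Cfsg.Agent.H62.AB

open Subgroup Cfsg.Agent.H8 Cfsg.Agent.H52 Cfsg.Agent.H62.TE Cfsg.Agent.H38

universe u v

variable {G : Type u} {F : Type v} [Group G] [Finite G] [Field F] [Finite F] [CharP F 2]

theorem mem_ext {Y : Subgroup G} {d x : G} (d2 : d * d = 1) (hn : d ∈ nz Y) :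
    x ∈ zpowers d ⊔ Y ↔ x ∈ Y ∨ d * x ∈ Y := by
  constructor
  · intro hx
    obtain ⟨a, ha, b, hb, rfl⟩ := (mem_sup_of_le_normalizer (zpowers_le.mpr hn)).mp hx
    rcases (mem_zpowers_invol d2).mp ha with rfl | rfl
    · exact Or.inl (by rwa [one_mul])
    · exact Or.inr (by rwa [← mul_assoc, d2, one_mul])
  · rintro (hx | hx)
    · exact mem_sup_right hx
    · exact (mul_mem_cancel_left (mem_sup_left (mem_zpowers d))).mp (mem_sup_right hx)

theorem card_ext {Y : Subgroup G} {d : G} (d2 : d * d = 1) (hn : d ∈ nz Y) (hd : d ∉ Y) :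
    Nat.card ↥(zpowers d ⊔ Y) = 2 * Nat.card Y := by
  rw [card_sup_eq (zpowers_le.mpr hn) fun g h1 h2 => ((mem_zpowers_invol d2).mp h1).resolve_right
    fun e => hd (e ▸ h2), Nat.card_zpowers, orderOf_two_of_sq d2 fun e => hd (e ▸ one_mem _)]

theorem isConj_conj {t x : G} (h : IsConj t x) (g : G) : IsConj t (g * x * g⁻¹) :=
  h.trans (isConj_iff.mpr ⟨g, rfl⟩)

structure AH (G : Type u) (F : Type v) [Group G] [Field F] where
  t : G
  u : F → G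
  h4 : 4 ≤ Nat.card F
  tt : t * t = 1
  add : ∀ a b, u (a + b) = u a * u b
  inj : Function.Injective u
  tne : ∀ a, t ≠ u a
  tu : ∀ a, t * u a = u a * t
  syl : ∀ D : Subgroup G, IsPGroup 2 D → (∀ d ∈ D, d * t = t * d) →
    ∃ c, c * t = t * c ∧ ∀ d ∈ D, ∃ a, c * d * c⁻¹ = u a ∨ c * d * c⁻¹ = t * u a
  semi : ∀ g, g * t = t * g → (∀ a, ∃ b, g * u a * g⁻¹ = u b ∨ g * u a * g⁻¹ = t * u b) →
    ∃ (c : F) (σ : F ≃+* F), ∀ a, g * u a * g⁻¹ = u (c * σ a)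

namespace AH

variable (H : AH G F)

theorem u0 : H.u 0 = 1 := by simpa using H.add 0 0
theorem usq (a : F) : H.u a * H.u a = 1 := by rw [← H.add, CharTwo.add_self_eq_zero, H.u0]
theorem t1 : H.t ≠ 1 := H.u0 ▸ H.tne 0

/-- the group `U` -/
def U : Subgroup G where
  carrier := Set.range H.u
  mul_mem' := by rintro _ _ ⟨a, rfl⟩ ⟨b, rfl⟩; exact ⟨a + b, H.add a b⟩
  one_mem' := ⟨0, H.u0⟩
  inv_mem' := by rintro _ ⟨a, rfl⟩; exact ⟨a, (inv_eq_of_sq (H.usq a)).symm⟩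

theorem u_mem (a : F) : H.u a ∈ H.U := ⟨a, rfl⟩
theorem card_U : Nat.card H.U = Nat.card F := Nat.card_range_of_injective H.inj
theorem U_sq {x : G} (hx : x ∈ H.U) : x * x = 1 := by obtain ⟨a, rfl⟩ := hx; exact H.usq a
theorem U_two : IsPGroup 2 H.U := isPGroup_two_iff.mpr fun _ hx => is2_of_sq (H.U_sq hx)
theorem U_comm {x y : G} (hx : x ∈ H.U) (hy : y ∈ H.U) : x * y = y * x :=
  comm_of_sq (H.U_sq hx) (H.U_sq hy) (H.U_sq (mul_mem hx hy))
theorem t_cz : H.t ∈ cz H.U := mem_cz.mpr (by rintro _ ⟨a, rfl⟩; exact (H.tu a).symm)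

/-- the Sylow subgroup of `C(t)` -/
def R : Subgroup G := zpowers H.t ⊔ H.U

theorem mem_R {x : G} : x ∈ H.R ↔ x ∈ H.U ∨ H.t * x ∈ H.U := mem_ext H.tt (cz_le_nz _ H.t_cz)

theorem card_R : Nat.card H.R = 2 * Nat.card F := by
  rw [R, card_ext H.tt (cz_le_nz _ H.t_cz) fun ⟨a, e⟩ => H.tne a e.symm, H.card_U]

theorem R_two : IsPGroup 2 H.R :=
  isPGroup_sup (is2_of_sq H.tt).isPGroup_zpowers H.U_two (zpowers_le.mpr (cz_le_nz _ H.t_cz))

theorem R_t : ∀ d ∈ H.R, d * H.t = H.t * d := fun _ hd => mem_c1.mp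
  ((sup_le (zpowers_le.mpr (mem_c1.mpr rfl)) fun _ hx => mem_c1.mpr (cz_comm H.t_cz hx) :
    H.R ≤ c1 H.t) hd)

theorem R_sq {x : G} (hx : x ∈ H.R) : x * x = 1 := by
  rcases H.mem_R.mp hx with e | e
  · exact H.U_sq e
  · have := H.U_sq e
    rwa [mul_assoc, ← mul_assoc x, H.R_t x hx, ← mul_assoc, ← mul_assoc, H.tt, one_mul] at this

theorem into_R {x : G} (hx : IsConj H.t x) {B : Subgroup G} (hB : IsPGroup 2 B)
    (hc : ∀ b ∈ B, b * x = x * b) : ∃ h, h * x * h⁻¹ = H.t ∧ ∀ b ∈ B, h * b * h⁻¹ ∈ H.R := by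
  obtain ⟨g, rfl⟩ := isConj_iff.mp hx
  obtain ⟨c, h1, h2⟩ := H.syl (cnj g⁻¹ B) (hB.map _) (by
    rintro _ ⟨b, hb, rfl⟩
    simpa [mul_assoc] using comm_conj g⁻¹ (hc b hb))
  refine ⟨c * g⁻¹, by nth_rewrite 2 [← conj_eq_of_comm h1]; group, fun b hb => ?_⟩
  obtain ⟨a, e⟩ := h2 _ (conj_mem_cnj hb)
  rw [show c * g⁻¹ * b * (c * g⁻¹)⁻¹ = c * (g⁻¹ * b * g⁻¹⁻¹) * c⁻¹ by group]
  rcases e with e | e <;> rw [e]
  exacts [mem_sup_right (H.u_mem a), mul_mem_sup (mem_zpowers _) (H.u_mem a)]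

theorem big {x : G} (hx : IsConj H.t x) {B : Subgroup G} (hB : IsPGroup 2 B)
    (hc : ∀ b ∈ B, b * x = x * b) : Nat.card B ≤ Nat.card H.R := by
  obtain ⟨h, -, h1⟩ := H.into_R hx hB hc
  exact card_le_of_inj (fun b => h * b * h⁻¹) h1 fun a _ b _ e => MulAut.conj h |>.injective e

theorem R_max (D : Subgroup G) (hD : IsPGroup 2 D) (hR : H.R ≤ D) (hc : ∀ d ∈ D, d * H.t = H.t * d) :
    D ≤ H.R := (eq_of_le_of_card_ge hR (H.big (IsConj.refl _) hD hc)).ge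

theorem D_sq {x : G} (hx : IsConj H.t x) : x * x = 1 := by
  obtain ⟨g, rfl⟩ := isConj_iff.mp hx; exact sq_conj g H.tt

theorem ns (w : G) : ¬ IsConj H.t (w * w) := fun e => by
  obtain ⟨h, h1, h2⟩ := H.into_R e (is2_of_sq (H.D_sq e)).of_sq.isPGroup_zpowers
    fun b hb => mem_c1.mp (zpowers_le.mpr (mem_c1.mpr (mul_assoc w w w).symm) hb)
  refine H.t1 ?_
  rw [← h1, ← H.R_sq (h2 w (mem_zpowers w))]; group

theorem cls_eq {x : G} (hx : IsConj H.t x) {Q B : Subgroup G} (hQ : IsPGroup 2 Q)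
    (hc : Nat.card Q = Nat.card H.R * Nat.card B) (hB : ∀ h ∈ Q, h * x * h⁻¹ * x⁻¹ ∈ B) {b : G}
    (hb : b ∈ B) : IsConj H.t (b * x) := by
  have h1 := H93.GT.ncard_cls Q x
  have h2 := H.big hx (B := Q ⊓ c1 x) (isPGroup_le hQ inf_le_left) fun b hb => mem_c1.mp hb.2
  have h3 := Set.eq_of_subset_of_ncard_le (s := {y : G | ∃ h ∈ Q, y = h * x * h⁻¹})
    (t := (· * x) '' (B : Set G)) (by
      rintro _ ⟨h, hh, rfl⟩; exact ⟨_, hB h hh, by simp⟩) (by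
      rw [Set.ncard_image_of_injective _ (mul_left_injective x), ← Nat.card_coe_set_eq]
      refine Nat.le_of_mul_le_mul_right ?_ (Nat.card_pos (α := H.R))
      rw [mul_comm]
      exact (hc.symm.trans h1.symm).le.trans (Nat.mul_le_mul_left _ h2))
  obtain ⟨h, -, e⟩ := h3.ge ⟨b, hb, rfl⟩
  exact (show b * x = _ from e) ▸ isConj_conj hx h

theorem gtY {Q K Y : Subgroup G} (hK : K.relIndex Q = 2) (hc : Nat.card Q = Nat.card H.R * Nat.card Y)
    (hX : ∀ x, (IsConj H.t x ∧ x ∈ Q ∧ x ∉ K) ↔ H.t * x ∈ Y) : ∃ M : Subgroup G, M.index = 2 := by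
  have hS : IsSylowIn 2 H.R (c1 H.t) := isSylowIn_of_maximal (fun d hd => mem_c1.mpr (H.R_t d hd))
    H.R_two fun Q h1 h2 h3 => H.R_max Q h1 h3 fun d hd => mem_c1.mp (h2 hd)
  refine (H93.GT.gt_two hK H.tt fun e => hS.not_dvd ?_).imp fun _ h => h.1
  have e1 : {x : G | IsConj H.t x ∧ x ∈ Q ∧ x ∉ K} = (H.t * ·) '' (Y : Set G) := by
    ext x
    exact (hX x).trans ⟨fun h => ⟨_, h, by simp [← mul_assoc, H.tt]⟩, by
      rintro ⟨y, hy, rfl⟩; simpa [← mul_assoc, H.tt] using hy⟩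
  rw [e1, Set.ncard_image_of_injective _ (mul_right_injective _), ← Nat.card_coe_set_eq, hc,
    card_eq_card_mul_relIndex hS.le, SetLike.coe_sort_coe] at e
  exact Nat.dvd_of_mul_dvd_mul_left (Nat.mul_pos (Nat.card_pos (α := H.R)) (Nat.card_pos (α := Y)))
    (by convert e using 1 <;> ring)

/-- a torus element -/
def Tor (k : G) (κ : F) : Prop :=
  k * H.t = H.t * k ∧ IsGen κ ∧ ∀ a, k * H.u a * k⁻¹ = H.u (κ * a)

variable {H} in
theorem Tor.pow {k : G} {κ : F} (h : H.Tor k κ) (i : ℕ) :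
    k ^ i * H.t * (k ^ i)⁻¹ = H.t ∧ ∀ a, k ^ i * H.u a * (k ^ i)⁻¹ = H.u (κ ^ i * a) := by
  refine ⟨conj_eq_of_comm (Commute.pow_left h.1 i).eq, fun a => ?_⟩
  induction i with
  | zero => simp
  | succ i ih => rw [pow_succ' κ, mul_assoc κ, ← h.2.2, ← ih, pow_succ']; group

variable {H} in
theorem Tor.tr {k : G} {κ : F} (h : H.Tor k κ) {a b : F} (ha : a ≠ 0) (hb : b ≠ 0) :
    ∃ i : ℕ, κ ^ i * a = b := by
  obtain ⟨i, hi⟩ := h.2.1.2 (b / a) (div_ne_zero hb ha)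
  exact ⟨i, by rw [hi, div_mul_cancel₀ _ ha]⟩

theorem base {k : G} {κ : F} (h : H.Tor k κ) (hn : ¬ IsSylowIn 2 H.R ⊤) :
    (∀ a, ¬ IsConj H.t (H.u a)) ∧ ∀ a, IsConj H.t (H.t * H.u a) := by
  have hRc : ∀ x ∈ H.R, ∀ b ∈ H.R, b * x = x * b := fun x hx b hb =>
    comm_of_sq (H.R_sq hb) (H.R_sq hx) (H.R_sq (mul_mem hb hx))
  have hU : ∀ a b, b ≠ 0 → IsConj H.t (H.u a) → IsConj H.t (H.u b) := fun a b hb e => by
    obtain ⟨i, rfl⟩ := h.tr (a := a) (fun e1 => H.t1 (by simpa [e1, H.u0] using e)) hb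
    exact (h.pow i).2 a ▸ isConj_conj e _
  have hT : ∀ a b, a ≠ 0 → IsConj H.t (H.t * H.u a) → IsConj H.t (H.t * H.u b) := fun a b ha e => by
    by_cases hb : b = 0
    · rw [hb, H.u0, mul_one]
    obtain ⟨i, rfl⟩ := h.tr ha hb
    have := isConj_conj e (k ^ i)
    rwa [← conj_mul, (h.pow i).1, (h.pow i).2] at this
  obtain ⟨S, hS, hRS⟩ := exists_isSylowIn_ge H.R_two (le_top : H.R ≤ ⊤)
  have hlt := lt_inf_normalizer_of_lt hS.isPGroup (lt_of_le_of_ne hRS fun e => hn (e ▸ hS))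
  have hS' := isPGroup_le hS.isPGroup (inf_le_left : S ⊓ nz H.R ≤ S)
  have htR : H.t ∈ H.R := mem_sup_left (mem_zpowers _)
  have h1 : ∀ a, ¬ IsConj H.t (H.u a) := fun a e => by
    have a0 : a ≠ 0 := fun e1 => H.t1 (by simpa [e1, H.u0] using e)
    obtain ⟨c, c0, hc⟩ : ∃ c, c ≠ 0 ∧ IsConj H.t (H.t * H.u c) := by
      obtain ⟨n, h2, h3⟩ := H.into_R e H.R_two (hRc _ (mem_sup_right (H.u_mem a)))
      obtain ⟨b, b0, ba⟩ : ∃ b : F, b ≠ 0 ∧ b ≠ a := by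
        classical
        have := Fintype.ofFinite F
        obtain ⟨b, -, hb⟩ := Finset.exists_mem_notMem_of_card_lt_card (s := {0, a})
          (t := Finset.univ) (Finset.card_le_two.trans_lt (by
            have := H.h4; rw [Finset.card_univ, ← Nat.card_eq_fintype_card]; omega))
        exact ⟨b, by simpa using hb⟩
      have hab : a + b ≠ 0 := fun e => ba (CharTwo.add_eq_zero.mp e).symm
      rcases H.mem_R.mp (h3 _ (mem_sup_right (H.u_mem b))) with ⟨c, e1⟩ | ⟨c, e1⟩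
      · refine ⟨c, fun e2 => conj_ne_one n (fun e => b0 (H.inj (e.trans H.u0.symm)))
          (by rw [← e1, e2, H.u0]), ?_⟩
        have := isConj_conj (hU a _ hab e) n
        rwa [H.add, ← conj_mul, h2, ← e1] at this
      · refine ⟨c, fun e2 => ba (H.inj (MulAut.conj n |>.injective ?_)), ?_⟩
        · rw [e2, H.u0, eq_comm, mul_eq_one_iff_inv_eq, inv_eq_of_sq H.tt] at e1
          exact e1.symm.trans h2.symm
        · rw [e1, ← mul_assoc, H.tt, one_mul]; exact isConj_conj (hU a b b0 e) n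
    obtain ⟨s, hs, -, s1, h2⟩ := fix_invol H.R_two hS' (fun e => H.t1 (mem_bot.mp (e ▸ htR)))
      inf_le_right
    refine (card_lt_of_lt hlt.le (SetLike.exists_of_lt hlt).choose_spec.1
      (SetLike.exists_of_lt hlt).choose_spec.2).not_ge (H.big ?_ hS' h2)
    rcases H.mem_R.mp hs with ⟨b, rfl⟩ | ⟨b, e1⟩
    · exact hU a b (fun e => s1 (by rw [e, H.u0])) e
    · have := hT c b c0 hc
      rwa [e1, ← mul_assoc, H.tt, one_mul] at this
  refine ⟨h1, fun b => ?_⟩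
  obtain ⟨g, hg, hgR⟩ := SetLike.exists_of_lt hlt
  have h2 := isConj_conj (IsConj.refl H.t) g
  rcases H.mem_R.mp (nz_conj hg.2 htR) with ⟨a, e⟩ | ⟨a, e⟩
  · exact absurd (e ▸ h2) (h1 a)
  · refine hT a b (fun e1 => hgR (H.R_max (S ⊓ c1 H.t) (isPGroup_le hS.isPGroup inf_le_left)
      (fun d hd => ⟨hRS hd, mem_c1.mpr (H.R_t d hd)⟩) (fun d hd => mem_c1.mp hd.2)
      ⟨hg.1, mem_c1.mpr (comm_of_conj_eq ?_)⟩)) (by rwa [e, ← mul_assoc, H.tt, one_mul])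
    rw [e1, H.u0, eq_comm, mul_eq_one_iff_inv_eq, inv_eq_of_sq H.tt] at e
    exact e.symm

/-- the action on `U` in coordinates -/
noncomputable def γ (g : G) (a : F) : F := Function.invFun H.u (g * H.u a * g⁻¹)

theorem γ_eq {g : G} {a b : F} (e : g * H.u a * g⁻¹ = H.u b) : H.γ g a = b := by
  rw [γ, e, Function.leftInverse_invFun H.inj]

theorem γ_spec {g : G} (hg : g ∈ nz H.U) (a : F) : g * H.u a * g⁻¹ = H.u (H.γ g a) :=
  (Function.invFun_eq (nz_conj hg (H.u_mem a))).symm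

theorem γ_add {g : G} (hg : g ∈ nz H.U) (a b : F) : H.γ g (a + b) = H.γ g a + H.γ g b :=
  H.γ_eq (by rw [H.add, H.add, ← H.γ_spec hg, ← H.γ_spec hg, conj_mul])

theorem γ_mul {g k : G} (hg : g ∈ nz H.U) (hk : k ∈ nz H.U) (a : F) :
    H.γ (g * k) a = H.γ g (H.γ k a) :=
  H.γ_eq (by rw [← H.γ_spec hg, ← H.γ_spec hk]; group)

theorem γ_cz {g : G} (hg : g ∈ cz H.U) (a : F) : H.γ g a = a :=
  H.γ_eq (conj_eq_of_comm (cz_comm hg (H.u_mem a)).symm)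

theorem cz_of_γ {g : G} (hg : g ∈ nz H.U) (e : ∀ a, H.γ g a = a) : g ∈ cz H.U := mem_cz.mpr (by
  rintro _ ⟨a, rfl⟩
  exact (comm_of_conj_eq (by rw [H.γ_spec hg, e])).symm)

end AH

end Cfsg.Agent.H62.AB
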