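import Mathlib
import Cfsg.Agent.H62.AB1

/-!
# Involution centralisers with Sylow subgroup `⟨t⟩ × E_q`, II: the tower
-/

set_option autoImplicit false
set_option linter.unusedSectionVars false

namespace Cfsg.Agent.H62.AB

open Subgroup Cfsg.Agent.H8 Cfsg.Agent.H52 Cfsg.Agent.H62.TE Cfsg.Agent.H38 Cfsg.Agent.H86.Dbl

universe u v

theorem zmod2' (ε : ZMod 2) : ε = 0 ∨ ε = 1 := by revert ε; decide

section ext
variable {G : Type*} [Group G] [Finite G]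

/-- the group `B ∪ d⁻¹ B` -/
def ext2 (B : Subgroup G) (d : G) (d2 : d * d ∈ B) (hn : d ∈ nz B) : Subgroup G where
  carrier := {x | x ∈ B ∨ d * x ∈ B}
  one_mem' := Or.inl B.one_mem
  mul_mem' := by
    rintro a b (ha | ha) (hb | hb)
    · exact Or.inl (mul_mem ha hb)
    · exact Or.inr (by convert mul_mem (nz_conj hn ha) hb using 1; group)
    · exact Or.inr (by rw [← mul_assoc]; exact mul_mem ha hb)
    · exact Or.inl (by convert mul_mem (mul_mem (nz_conj' hn ha) (inv_mem d2)) hb using 1; group)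
  inv_mem' := by
    rintro a (ha | ha)
    · exact Or.inl (inv_mem ha)
    · exact Or.inr (by convert mul_mem (nz_conj hn (inv_mem ha)) d2 using 1; group)

variable {B : Subgroup G} {d : G} {d2 : d * d ∈ B} {hn : d ∈ nz B}

theorem le_ext2 : B ≤ ext2 B d d2 hn := fun _ => Or.inl
theorem self_ext2 : d ∈ ext2 B d d2 hn := Or.inr d2
theorem ext2_le {C : Subgroup G} (h : B ≤ C) (hd : d ∈ C) : ext2 B d d2 hn ≤ C := by
  rintro x (hx | hx)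
  exacts [h hx, (mul_mem_cancel_left hd).mp (h hx)]

theorem ext2_two (h : IsPGroup 2 B) : IsPGroup 2 (ext2 B d d2 hn) := isPGroup_of_sq h (by
  rintro x (hx | hx)
  · exact mul_mem hx hx
  · convert mul_mem (mul_mem (nz_conj' hn hx) (inv_mem d2)) hx using 1; group)

theorem ext2_relIndex (hd : d ∉ B) : B.relIndex (ext2 B d d2 hn) = 2 :=
  relIndex_eq_two self_ext2 hd fun a ha b hb h1 h2 => by
    convert mul_mem (inv_mem (ha.resolve_left h1)) (hb.resolve_left h2) using 1; group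

theorem ext2_card (hd : d ∉ B) : Nat.card (ext2 B d d2 hn) = 2 * Nat.card B := by
  rw [card_eq_card_mul_relIndex (le_ext2 (d2 := d2) (hn := hn)), ext2_relIndex hd, mul_comm]

theorem ext2_nz {g : G} (hg : g ∈ nz B) (h : g * d * g⁻¹ ∈ ext2 B d d2 hn) :
    g ∈ nz (ext2 B d d2 hn) := mem_nz_of_conj (by
  rintro x (hx | hx)
  · exact Or.inl (nz_conj hg hx)
  · convert mul_mem (inv_mem h) (le_ext2 (nz_conj hg hx)) using 1; group)

end ext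

variable {G : Type u} {F : Type v} [Group G] [Finite G] [Field F] [Finite F] [CharP F 2]

/-- a homocyclic group `Y` inverted by `t` -/
structure Lv (H : AH G F) where
  Y : Subgroup G
  N : ℕ
  π : G → F
  two : IsPGroup 2 Y
  U_le : H.U ≤ Y
  pow : ∀ y ∈ Y, y ^ N = H.u (π y)
  surj : ∀ b, ∃ y ∈ Y, π y = b
  ker : ∀ y ∈ Y, π y = 0 → ∃ w ∈ Y, y = w * w
  conj : ∀ y ∈ Y, IsConj H.t (H.t * y)
  noU : ∀ a, ¬ IsConj H.t (H.u a)
  tor : ∃ k κ, H.Tor k κ ∧ ∀ y ∈ Y, k * y * k⁻¹ ∈ Y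

theorem AH.inv_of {H : AH G F} {y : G} (h : IsConj H.t (H.t * y)) : H.t * y * H.t⁻¹ = y⁻¹ := by
  rw [inv_eq_of_sq H.tt, eq_inv_iff_mul_eq_one, mul_assoc, H.D_sq h]

namespace Lv

variable {H : AH G F} (L : Lv H)

theorem inv (y : G) (hy : y ∈ L.Y) : H.t * y * H.t⁻¹ = y⁻¹ := AH.inv_of (L.conj y hy)
theorem comm {x y : G} (hx : x ∈ L.Y) (hy : y ∈ L.Y) : x * y = y * x :=
  comm_of_inverted L.inv x hx y hy
theorem t_not : H.t ∉ L.Y := fun h => H.t1 (by simpa [H.tt] using L.conj _ h)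
theorem t_nz : H.t ∈ nz L.Y := mem_nz_of_conj fun y hy => L.inv y hy ▸ inv_mem hy

/-- the group `⟨t⟩ Y` -/
def P : Subgroup G := ext2 L.Y H.t (H.tt ▸ one_mem _) L.t_nz

theorem Y_le : L.Y ≤ L.P := le_ext2
theorem t_mem : H.t ∈ L.P := self_ext2
theorem P_two : IsPGroup 2 L.P := ext2_two L.two
theorem R_le : H.R ≤ L.P := sup_le (zpowers_le.mpr L.t_mem) (L.U_le.trans L.Y_le)
theorem P_cz : L.P ≤ cz H.U :=
  ext2_le (fun _ hy => mem_cz.mpr fun _ hx => L.comm (L.U_le hx) hy) H.t_cz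

theorem conj' {x : G} (hx : H.t * x ∈ L.Y) : IsConj H.t x := by
  simpa [← mul_assoc, H.tt] using L.conj _ hx

theorem om {y : G} (hy : y ∈ L.Y) (h : y * y = 1) : y ∈ H.U := by
  refine (H.mem_R.mp (H.R_max (L.P ⊓ c1 H.t) (isPGroup_le L.P_two inf_le_left)
    (fun d hd => ⟨L.R_le hd, mem_c1.mpr (H.R_t d hd)⟩) (fun d hd => mem_c1.mp hd.2)
    ⟨L.Y_le hy, mem_c1.mpr (comm_of_conj_eq ?_).symm⟩)).resolve_right fun e =>
      L.t_not ((mul_mem_cancel_right hy).mp (L.U_le e))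
  rw [L.inv y hy, inv_eq_of_sq h]

theorem noY {y : G} (hy : y ∈ L.Y) : ¬ IsConj H.t y := fun e => by
  obtain ⟨a, rfl⟩ := L.om hy (H.D_sq e); exact L.noU a e

theorem D_P {x : G} (hx : x ∈ L.P) (e : IsConj H.t x) : H.t * x ∈ L.Y :=
  hx.resolve_left fun h => L.noY h e

theorem sqY {w : G} (h : w * w ∈ L.P) : w * w ∈ L.Y :=
  h.resolve_right fun e => H.ns w (L.conj' e)

theorem fix {T : Subgroup G} (hT : IsPGroup 2 T) (hP : L.P ≤ T) {r x : G} (hr : r ∈ T)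
    (hx : H.t * x ∈ L.Y) (h : r * x = x * r) : r ∈ L.P := by
  have hxP : x ∈ L.P := Or.inr hx
  have e := L.conj' hx
  have hU : H.U ≤ L.P := L.U_le.trans L.Y_le
  refine ext2_le (B := H.U) (d2 := H.D_sq e ▸ one_mem _) (hn := cz_le_nz _ (L.P_cz hxP)) hU hxP
    ((eq_of_le_of_card_ge (K := T ⊓ c1 x) (ext2_le (fun b hb => ⟨hP (hU hb),
      mem_c1.mpr (cz_comm (L.P_cz hxP) hb)⟩) ⟨hP hxP, mem_c1.mpr rfl⟩) ?_).ge ⟨hr, mem_c1.mpr h⟩)
  rw [ext2_card fun h => L.noY (L.U_le h) e, H.card_U, ← H.card_R]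
  exact H.big e (isPGroup_le hT inf_le_left) fun b hb => mem_c1.mp hb.2

theorem π_mul (x : G) (hx : x ∈ L.Y) (y : G) (hy : y ∈ L.Y) : L.π (x * y) = L.π x + L.π y :=
  H.inj (by rw [H.add, ← L.pow x hx, ← L.pow y hy, ← L.pow _ (mul_mem hx hy),
    Commute.mul_pow (L.comm hx hy)])

theorem π_sq {y : G} (hy : y ∈ L.Y) : L.π (y * y) = 0 := by
  rw [L.π_mul y hy y hy, CharTwo.add_self_eq_zero]

theorem π_inv {y : G} (hy : y ∈ L.Y) : L.π y⁻¹ = L.π y := by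
  rw [on_inv L.π_mul hy, CharTwo.neg_eq]

theorem π_conj {g y : G} (hy : y ∈ L.Y) (h : g * y * g⁻¹ ∈ L.Y) :
    L.π (g * y * g⁻¹) = H.γ g (L.π y) :=
  (H.γ_eq (by rw [← L.pow _ hy, ← L.pow _ h, conj_pow])).symm

section NP
variable {g : G} (hg : g ∈ nz L.P)
include hg

theorem NP_t : H.t * (g * H.t * g⁻¹) ∈ L.Y :=
  L.D_P (nz_conj hg L.t_mem) (isConj_conj (IsConj.refl _) g)

theorem NP_Y : g ∈ nz L.Y := mem_nz_of_conj fun y hy =>
  (nz_conj hg (L.Y_le hy)).resolve_right fun e => L.noY hy (by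
    simpa [mul_assoc] using isConj_conj (L.conj' e) g⁻¹)

theorem NP_U : g ∈ nz H.U := mem_nz_of_conj fun _ hy =>
  L.om (nz_conj (L.NP_Y hg) (L.U_le hy)) (sq_conj g (H.U_sq hy))

end NP

theorem mem_NP {k : G} (ht : k * H.t = H.t * k) (hk : ∀ y ∈ L.Y, k * y * k⁻¹ ∈ L.Y) : k ∈ nz L.P :=
  ext2_nz (mem_nz_of_conj hk) (by rw [conj_eq_of_comm ht]; exact L.t_mem)

/-- the translation part -/
def τ (g : G) : F := L.π (H.t * (g * H.t * g⁻¹))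

theorem τ_mul (g : G) (hg : g ∈ nz L.P) (k : G) (hk : k ∈ nz L.P) :
    L.τ (g * k) = L.τ g + H.γ g (L.τ k) := by
  have h := nz_conj (L.NP_Y hg) (L.NP_t hk)
  unfold τ
  rw [← L.π_conj (L.NP_t hk) h, ← L.π_mul _ (L.NP_t hg) _ h]
  congr 1
  calc _ = H.t * (g * (H.t * H.t) * (k * H.t * k⁻¹) * g⁻¹) := by rw [H.tt]; group
    _ = _ := by group

theorem τ_of_comm {g : G} (h : g * H.t = H.t * g) : L.τ g = 0 := by
  rw [τ, conj_eq_of_comm h, H.tt, on_one L.π_mul]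

theorem τ_inv {w : G} (h : IsConj H.t (H.t * w)) (hw : w * w ∈ L.Y) : L.τ w = L.π (w * w) := by
  rw [← L.π_inv hw, τ, mul_inv_rev]
  nth_rewrite 2 [← AH.inv_of h]
  rw [inv_eq_of_sq H.tt]; congr 1; group

theorem exists_cent {g : G} (hg : g ∈ nz L.P) (h : L.τ g = 0) :
    ∃ w ∈ L.Y, w * g * H.t = H.t * (w * g) := by
  obtain ⟨w, hw, e⟩ := L.ker _ (L.NP_t hg) h
  refine ⟨w, hw, ?_⟩
  calc _ = w * (H.t⁻¹ * (H.t * (g * H.t * g⁻¹))) * g := by group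
    _ = H.t * (H.t⁻¹ * w * H.t⁻¹) * (w * w) * g := by rw [e]; group
    _ = _ := by
      rw [inv_eq_of_sq H.tt]; nth_rewrite 3 [← inv_eq_of_sq H.tt]; rw [L.inv w hw]; group

theorem dich (h : ¬ H86.IsSylowIn 2 L.P ⊤) :
    (∀ b, ∃ g ∈ nz L.P, (∀ x, H.γ g x = x) ∧ L.τ g = b) ∨
      (Nat.card F = 8 ∧ (∀ g ∈ nz L.P, (∀ x, H.γ g x = x) → L.τ g = 0) ∧
        ∀ φ : F ≃+ F, ∃ g ∈ nz L.P, ∀ x, H.γ g x = φ x) := by
  obtain ⟨k, κ, hk, hkY⟩ := L.tor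
  refine tra H.h4 (nz L.P) H.γ L.τ (fun g hg => H.γ_add (L.NP_U hg)) (H.γ_cz (one_mem _))
    (fun g hg k hk => H.γ_mul (L.NP_U hg) (L.NP_U hk)) L.τ_mul (fun g hg h0 => ?_)
    (fun c hc => ?_) ?_
  · obtain ⟨w, hw, e⟩ := L.exists_cent hg h0
    have hw' := L.P_cz (L.Y_le hw)
    have h2 := mul_mem (cz_le_nz _ hw') (L.NP_U hg)
    obtain ⟨c, σ, h1⟩ := H.semi _ e fun a => ⟨_, Or.inl (H.γ_spec h2 a)⟩
    exact ⟨c, σ, fun x => by
      rw [← H.γ_eq (h1 x), H.γ_mul (cz_le_nz _ hw') (L.NP_U hg), H.γ_cz hw']⟩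
  · obtain ⟨i, rfl⟩ := hk.2.1.2 c hc
    exact ⟨k ^ i, pow_mem (L.mem_NP hk.1 hkY) i, L.τ_of_comm (comm_of_conj_eq (hk.pow i).1),
      fun x => H.γ_eq ((hk.pow i).2 x)⟩
  · obtain ⟨g, hg, h1⟩ := nsyl H.R_max H.R_t L.R_le L.P_two h
    refine ⟨g, hg, fun h0 => ?_⟩
    obtain ⟨w, hw, e⟩ := L.exists_cent hg h0
    refine h1 w⁻¹ (inv_mem (L.Y_le hw)) ?_
    calc _ = w⁻¹ * (H.t * (w * g)) * g⁻¹ := by group
      _ = _ := by rw [← e]; group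

theorem gt {Q K : Subgroup G} (hK : K.relIndex Q = 2) (hc : Nat.card Q = Nat.card H.R * Nat.card L.Y)
    (hP : L.P ≤ Q) (hY : L.Y ≤ K) (ht : H.t ∉ K)
    (h : ∀ x, IsConj H.t x → x ∈ Q → x ∉ K → H.t * x ∈ L.Y) : ∃ M : Subgroup G, M.index = 2 :=
  H.gtY hK hc fun x => ⟨fun e => h x e.1 e.2.1 e.2.2, fun e =>
    ⟨L.conj' e, hP (Or.inr e), fun e1 => ht ((mul_mem_cancel_right e1).mp (hY e))⟩⟩

theorem syl (h : H86.IsSylowIn 2 L.P ⊤) : ∃ M : Subgroup G, M.index = 2 :=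
  (H87.thompson_transfer_involution (H := L.P) (M := L.Y) (by
    simpa [Nat.odd_iff] using h.not_dvd_relIndex) (ext2_relIndex L.t_not) (by rw [pow_two, H.tt])
    fun g e => L.noY e (isConj_conj (IsConj.refl _) g)).imp fun _ e => e.2.1

theorem step (h : ∀ b, ∃ g ∈ nz L.P, (∀ x, H.γ g x = x) ∧ L.τ g = b) :
    (∃ M : Subgroup G, M.index = 2) ∨ ∃ L' : Lv H, L.Y < L'.Y := by
  classical
  obtain ⟨k, κ, hk, hkY⟩ := L.tor
  have hkP := L.mem_NP hk.1 hkY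
  have hτ : ∀ x ∈ nz L.P ⊓ cz H.U, ∀ y ∈ nz L.P ⊓ cz H.U, L.τ (x * y) = L.τ x + L.τ y :=
    fun x hx y hy => by rw [L.τ_mul x hx.1 y hy.1, H.γ_cz hx.2]
  obtain ⟨Q, h1, h2, h3, h4, n, hn, h5, h6⟩ := pu (N := nz L.P ⊓ cz H.U) (σ := L.τ) H.R_max H.R_t
    L.R_le L.P_two (le_inf le_normalizer L.P_cz) hτ
    (fun b => by
      obtain ⟨g, hg, e1, e2⟩ := h b
      exact ⟨g, ⟨hg, H.cz_of_γ (L.NP_U hg) e1⟩, e2⟩)
    (fun g hg h0 => (L.exists_cent hg.1 h0).imp fun w hw => ⟨L.Y_le hw.1, hw.2⟩) hk.1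
    (mem_nz_of_conj fun g hg => ⟨cmem hkP hg.1, mem_cz.mpr fun x hx => by
      simpa [mul_assoc] using comm_conj k (cz_comm hg.2 (nz_conj' (L.NP_U hkP) hx))⟩)
  obtain ⟨m, hm⟩ := exists_odd_pow (n * k)
  have hk1 : H.Tor (n * k) κ := ⟨h6, hk.2.1, fun a => by
    rw [← conj_eq_of_comm (cz_comm hn.2 (H.u_mem (κ * a))).symm, ← hk.2.2]; group⟩
  have hk2 : H.Tor ((n * k) ^ 2 ^ m) (κ ^ 2 ^ m) := ⟨comm_of_conj_eq (hk1.pow _).1,
    hk.2.1.map (iterateFrobeniusEquiv F 2 m), (hk1.pow _).2⟩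
  have h7 : (n * k) ^ 2 ^ m ∈ nz L.P := pow_mem (mul_mem hn.1 hkP) _
  have h8 : (n * k) ^ 2 ^ m ∈ nz Q := pow_mem h5 _
  generalize (n * k) ^ 2 ^ m = k' at hm hk2 h7 h8
  generalize κ ^ 2 ^ m = κ' at hk2
  have hτQ : ∀ x ∈ Q, ∀ y ∈ Q, L.τ (x * y) = L.τ x + L.τ y := fun x hx y hy =>
    hτ x (h1.le hx) y (h1.le hy)
  have hsq : ∀ r ∈ Q, r * r ∈ L.Y := fun r hr =>
    L.sqY (h4 _ (mul_mem hr hr) (by rw [hτQ r hr r hr, CharTwo.add_self_eq_zero]))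
  obtain ⟨δ, d1, d2, d3⟩ := ext_hom (K := ZMod 2) (f := fun x => if x ∈ L.Y then 0 else 1) (l := 1)
    h2 (fun x hx y hy => by
      have := mul_mem_iff_of_index_two (H := L.Y.subgroupOf L.P) (ext2_relIndex L.t_not)
        (a := ⟨x, hx⟩) (b := ⟨y, hy⟩)
      simp only [mem_subgroupOf, coe_mul] at this
      by_cases e1 : x ∈ L.Y <;> by_cases e2 : y ∈ L.Y <;> simp [this, e1, e2]
      decide)
    (fun r hr => ⟨L.Y_le (hsq r hr), if_pos (hsq r hr)⟩) hm (fun x hx => nz_conj h8 hx)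
    (fun x hx => nz_conj h7 hx) (fun x _ => by
      rw [one_mul]; exact if_congr (mem_normalizer_iff.mp (L.NP_Y h7) x).symm rfl rfl) (one_pow _)
  have ht := h2 L.t_mem
  have dt : δ H.t = 1 := (d2 _ L.t_mem).trans (if_neg L.t_not)
  have hYK : L.Y ≤ onKer d1 := fun y hy => ⟨h2 (L.Y_le hy), (d2 _ (L.Y_le hy)).trans (if_pos hy)⟩
  have τt : L.τ H.t = 0 := L.τ_of_comm rfl
  have hKY : ∀ w ∈ onKer d1, L.τ w = 0 → w ∈ L.Y := fun w hw e => by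
    by_contra e1
    exact one_ne_zero ((if_neg e1).symm.trans ((d2 _ (h4 w hw.1 e)).symm.trans hw.2))
  have hK : ∀ x ∈ Q, x ∉ onKer d1 → δ x = 1 := fun x hx e =>
    (zmod2' (δ x)).resolve_left fun e1 => e ⟨hx, e1⟩
  have hc : Nat.card Q = Nat.card H.R * Nat.card L.Y := by
    have e : onKer hτQ = L.P := le_antisymm (fun x hx => h4 x hx.1 hx.2) (ext2_le (fun y hy =>
      ⟨h2 (L.Y_le hy), by rw [L.τ_inv (L.conj y hy) (mul_mem hy hy), L.π_sq hy]⟩) ⟨ht, τt⟩)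
    rw [card_eq_card_mul_relIndex h2, ← e, relIndex_onKer hτQ h3, e, H.card_R, P,
      ext2_card L.t_not]; ring
  by_cases hX : ∀ x, IsConj H.t x → x ∈ Q → x ∉ onKer d1 → H.t * x ∈ L.Y
  · refine Or.inl (L.gt ?_ hc h2 hYK (fun e => one_ne_zero (dt.symm.trans e.2)) hX)
    rw [relIndex_onKer d1 fun b => (zmod2' b).elim (fun e => ⟨1, one_mem _, e ▸ on_one d1⟩)
      fun e => ⟨_, ht, e ▸ dt⟩, Nat.card_zmod]
  push Not at hX
  obtain ⟨x, x1, x2, x3, x4⟩ := hX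
  have hw : H.t * x ∈ onKer d1 := ⟨mul_mem ht x2, by rw [d1 _ ht _ x2, dt, hK x x2 x3]; rfl⟩
  have τx : L.τ x ≠ 0 := fun e => x4 (hKY _ hw (by rw [hτQ _ ht _ x2, τt, e, add_zero]))
  have τk : ∀ r ∈ Q, L.τ (k' * r * k'⁻¹) = κ' * L.τ r := fun r hr => by
    have hr' := (h1.le hr).1
    rw [L.τ_mul _ (mul_mem h7 hr') _ (inv_mem h7), L.τ_of_comm (comm_inv_left hk2.1),
      H.γ_eq (b := 0) (by rw [H.u0, mul_one, mul_inv_cancel]), add_zero, L.τ_mul _ h7 _ hr',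
      L.τ_of_comm hk2.1, zero_add, H.γ_eq (hk2.2.2 _)]
  have hD : ∀ w ∈ onKer d1, IsConj H.t (H.t * w) := fun w hw => by
    by_cases e : L.τ w = 0
    · exact L.conj w (hKY w hw e)
    obtain ⟨i, hi⟩ := hk2.tr τx e
    have e1 := conj_pow_mem (fun x hx => nz_conj h8 hx) i x2
    have e2 := on_conj_pow (fun x hx => nz_conj h8 hx) τk i x2
    have e3 := on_conj_pow (fun x hx => nz_conj h8 hx) d3 i x2
    have := H.cls_eq (isConj_conj x1 (k' ^ i)) h1.isPGroup hc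
      (fun h hh => comm_mem_of_sq hsq hh e1) (hKY (H.t * w * (k' ^ i * x * (k' ^ i)⁻¹)⁻¹)
      ⟨mul_mem (mul_mem ht hw.1) (inv_mem e1), by
        rw [d1 _ (mul_mem ht hw.1) _ (inv_mem e1), d1 _ ht _ hw.1, on_inv d1 e1, e3, dt, hw.2,
          hK x x2 x3, one_pow]; rfl⟩ (by
        rw [hτQ _ (mul_mem ht hw.1) _ (inv_mem e1), hτQ _ ht _ hw.1, on_inv hτQ e1, e2, hi, τt]
        simp))
    rwa [inv_mul_cancel_right] at this
  have hs : ∀ b, ∃ y ∈ onKer d1, L.π (y * y) = b := fun b => by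
    obtain ⟨r, hr, rfl⟩ := h3 b
    by_cases e : r ∈ onKer d1
    · exact ⟨r, e, (L.τ_inv (hD r e) (hsq r hr)).symm⟩
    · have e1 : H.t * r ∈ onKer d1 := ⟨mul_mem ht hr, by rw [d1 _ ht _ hr, dt, hK r hr e]; rfl⟩
      exact ⟨_, e1, by rw [← L.τ_inv (hD _ e1) (hsq _ e1.1), hτQ _ ht _ hr, τt, zero_add]⟩
  refine Or.inr ⟨⟨onKer d1, 2 * L.N, fun w => L.π (w * w), isPGroup_le h1.isPGroup fun _ e => e.1,
    L.U_le.trans hYK, fun y hy => by rw [pow_mul, pow_two, L.pow _ (hsq y hy.1)], hs,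
    fun y hy e => ?_, hD, L.noU, k', κ', hk2, fun y hy => ⟨nz_conj h8 hy.1, by
      rw [d3 y hy.1, hy.2, mul_zero]⟩⟩, lt_of_le_of_ne hYK fun e => x4 (e ▸ hw)⟩
  have h9 := hKY y hy ((L.τ_inv (hD y hy) (hsq y hy.1)).trans e)
  obtain ⟨v, hv, e1⟩ := hs (L.π y)
  obtain ⟨w, hw, e2⟩ := L.ker _ (mul_mem h9 (inv_mem (hsq v hv.1))) (by
    rw [L.π_mul _ h9 _ (inv_mem (hsq v hv.1)), L.π_inv (hsq v hv.1), e1, CharTwo.add_self_eq_zero])
  refine ⟨w * v, mul_mem (hYK hw) hv, ?_⟩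
  rw [mul_inv_eq_iff_eq_mul.mp e2, mul_assoc, mul_assoc, ← mul_assoc v w,
    comm_of_inverted (fun s hs => AH.inv_of (hD s hs)) v hv w (hYK hw), mul_assoc]

end Lv

end Cfsg.Agent.H62.AB
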