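import Mathlib
import Cfsg.Agent.H62.AB2

/-!
# Involution centralisers with Sylow subgroup `⟨t⟩ × E_q`, III: the case `GL₃(2)` and the theorem
-/

set_option autoImplicit false
set_option linter.unusedSectionVars false

namespace Cfsg.Agent.H62.AB

open Subgroup Cfsg.Agent.H8 Cfsg.Agent.H52 Cfsg.Agent.H62.TE Cfsg.Agent.H38 Cfsg.Agent.H86.Dbl

universe u v

section dih
variable {G : Type*} [Group G] [Finite G]

/-- extension of `B` by a dihedral group of order eight -/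
theorem dih {B : Subgroup G} {r s : G} (hr : r ∈ nz B) (hs : s ∈ nz B) (r2 : r * r ∈ B)
    (s2 : s * s ∈ B) (c4 : r * s * (r * s) * (r * s * (r * s)) ∈ B) :
    ∃ K : Subgroup G, B ≤ K ∧ r ∈ K ∧ s ∈ K ∧ (∀ C : Subgroup G, B ≤ C → r ∈ C → s ∈ C → K ≤ C) ∧
      (IsPGroup 2 B → IsPGroup 2 K) ∧
      (∀ x ∈ K, x ∈ B ∨ ∃ w ∈ [r * s * (r * s), r * s, r * s * (r * s) * (r * s), r,
        r * s * (r * s) * r, r * s * r, r * s * (r * s) * (r * s * r)], w * x ∈ B) ∧
      ((∀ w ∈ [r * s * (r * s), r * s, r * s * (r * s) * (r * s), r,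
        r * s * (r * s) * r, r * s * r, r * s * (r * s) * (r * s * r)], w ∉ B) →
        Nat.card K = 8 * Nat.card B) := by
  have hc := mul_mem hr hs
  let C1 := ext2 B _ c4 (mul_mem hc hc)
  have n1 : r * s ∈ nz C1 := ext2_nz hc (by
    rw [show r * s * (r * s * (r * s)) * (r * s)⁻¹ = r * s * (r * s) by group]; exact self_ext2)
  let C2 := ext2 C1 _ self_ext2 n1
  have hB : B ≤ C2 := le_ext2.trans le_ext2
  have e : r * (r * s) * r⁻¹ = r * r * (s * s) * (r * s)⁻¹ := by group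
  have n2 : r ∈ nz C2 := ext2_nz (ext2_nz hr (Or.inr (by
    rw [← conj_mul, e]
    convert mul_mem (nz_conj (mul_mem hc hc) (mul_mem r2 s2)) (nz_conj hc (mul_mem r2 s2)) using 1
    group))) (e ▸ mul_mem (hB (mul_mem r2 s2)) (inv_mem self_ext2))
  refine ⟨ext2 C2 r (hB r2) n2, hB.trans le_ext2, self_ext2, ?_, fun C h1 h2 h3 => ?_,
    fun h => ext2_two (ext2_two (ext2_two h)), ?_, fun h => ?_⟩
  · exact Or.inr (self_ext2 (B := C1))
  · exact ext2_le (ext2_le (ext2_le h1 (mul_mem (mul_mem h2 h3) (mul_mem h2 h3))) (mul_mem h2 h3)) h2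
  · rintro x (((h | h) | h | h) | (h | h) | h | h)
    · exact Or.inl h
    all_goals exact Or.inr (by (try simp only [mul_assoc] at h); simp [mul_assoc, h])
  · simp only [List.mem_cons, List.not_mem_nil, or_false, forall_eq_or_imp, forall_eq] at h
    obtain ⟨h1, h2, h3, h4, h5, h6, h7⟩ := h
    rw [ext2_card, ext2_card, ext2_card h1]
    · ring
    · rintro (h | h) <;> contradiction
    · rintro ((h | h) | h | h) <;> contradiction

end dih

/-- the natural module of `GL₃(2)` -/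
abbrev V := ZMod 2 × ZMod 2 × ZMod 2

def pa : Equiv.Perm V :=
  Function.Involutive.toPerm (fun x => (x.1 + x.2.1, x.2)) fun x => by revert x; decide
def pb : Equiv.Perm V :=
  Function.Involutive.toPerm (fun x => (x.1, x.2.1 + x.2.2, x.2.2)) fun x => by revert x; decide
def p1 : Equiv.Perm V := Function.Involutive.toPerm (fun x => (x.1, x.2.2, x.2.1)) fun _ => rfl
def p2 : Equiv.Perm V := Function.Involutive.toPerm (fun x => (x.2.1, x.1, x.2.2)) fun _ => rfl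

theorem words_ne : ∀ w ∈ [pa * pb * (pa * pb), pa * pb, pa * pb * (pa * pb) * (pa * pb), pa,
    pa * pb * (pa * pb) * pa, pa * pb * pa, pa * pb * (pa * pb) * (pa * pb * pa)], w ≠ 1 := by
  decide +kernel

theorem words_cj : ∀ w ∈ [pa * pb * (pa * pb), pa * pb, pa * pb * (pa * pb) * (pa * pb), pa,
    pa * pb * (pa * pb) * pa, pa * pb * pa, pa * pb * (pa * pb) * (pa * pb * pa)], w * w = 1 →
    ∃ g ∈ [1, p1, p1 * pb, p2, p2 * pa], g * w * g⁻¹ = pa * pb * (pa * pb) := by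
  decide +kernel

theorem exists_Δ : ∃ Δ : Subgroup (Equiv.Perm V), pa ∈ Δ ∧ pb ∈ Δ ∧ IsPGroup 2 Δ ∧
    Δ ≤ c1 (pa * pb * (pa * pb)) ∧ ∀ x ∈ Δ, x * x = 1 → x = 1 ∨
      ∃ g ∈ [1, p1, p1 * pb, p2, p2 * pa], g * x * g⁻¹ = pa * pb * (pa * pb) := by
  obtain ⟨K, -, h1, h2, h3, h4, h5, -⟩ := dih (B := ⊥) (r := pa) (s := pb)
    (le_normalizer_of_normal (mem_top _)) (le_normalizer_of_normal (mem_top _))
    (mem_bot.mpr (by decide +kernel)) (mem_bot.mpr (by decide +kernel))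
    (mem_bot.mpr (by decide +kernel))
  refine ⟨K, h1, h2, h4 IsPGroup.of_bot, h3 _ bot_le (mem_c1.mpr (by decide +kernel))
    (mem_c1.mpr (by decide +kernel)), fun x hx x2 => (h5 x hx).imp mem_bot.mp ?_⟩
  rintro ⟨w, hw, e⟩
  obtain rfl : x = w := (inv_eq_of_sq x2).symm.trans (eq_inv_of_mul_eq_one_left (mem_bot.mp e)).symm
  exact words_cj _ hw x2

variable {G : Type u} {F : Type v} [Group G] [Finite G] [Field F] [Finite F] [CharP F 2]

theorem exists_equiv (h : Nat.card F = 8) : Nonempty (F ≃+ V) := by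
  let := ZMod.algebra F 2
  refine ⟨(LinearEquiv.ofFinrankEq (R := ZMod 2) F V ?_).toAddEquiv⟩
  have := Module.natCard_eq_pow_finrank (K := ZMod 2) (V := F)
  rw [h, Nat.card_zmod] at this
  simpa using Nat.pow_right_injective le_rfl (this.symm.trans (show 8 = 2 ^ 3 from rfl))

namespace Lv

variable {H : AH G F} (L : Lv H)

theorem exc (h8 : Nat.card F = 8) (hc : ∀ g ∈ nz L.P, (∀ x, H.γ g x = x) → L.τ g = 0)
    (hφ : ∀ φ : F ≃+ F, ∃ g ∈ nz L.P, ∀ x, H.γ g x = φ x) : ∃ M : Subgroup G, M.index = 2 := by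
  obtain ⟨e⟩ := exists_equiv h8
  let φ : nz L.P →* Equiv.Perm V := MonoidHom.toHomPerm
    { toFun := fun g x => e (H.γ g (e.symm x))
      map_one' := funext fun x => by
        rw [coe_one, H.γ_cz (one_mem _)]; exact e.apply_symm_apply x
      map_mul' := fun g k => funext fun x => by
        rw [coe_mul, H.γ_mul (L.NP_U g.2) (L.NP_U k.2)]
        exact congrArg (fun y => e (H.γ g y)) (e.symm_apply_apply _).symm }
  have k1 : ∀ g : nz L.P, (g : G) ∈ cz H.U → φ g = 1 := fun g hg => Equiv.ext fun x => by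
    change e (H.γ g (e.symm x)) = x
    rw [H.γ_cz hg, e.apply_symm_apply]
  have k2 : ∀ T : Subgroup G, IsPGroup 2 T → L.P ≤ T → ∀ g : nz L.P, (g : G) ∈ T → φ g = 1 →
      (g : G) ∈ L.P := fun T hT hP g hg h => by
    obtain ⟨w, hw, e1⟩ := L.exists_cent g.2 (hc g g.2 fun x => e.injective (by
      simpa using show e (H.γ g (e.symm (e x))) = e x from congrArg (· (e x)) h))
    exact (mul_mem_cancel_left (L.Y_le hw)).mp (L.fix hT hP (mul_mem (hP (L.Y_le hw)) hg)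
      (by rw [H.tt]; exact one_mem _) e1)
  have k3 : ∀ f : Equiv.Perm V, (∀ x y, f (x + y) = f x + f y) → f ∈ φ.range := fun f hf => by
    obtain ⟨g, hg, e1⟩ := hφ (e.trans (AddEquiv.trans ⟨f, hf⟩ e.symm))
    exact ⟨⟨g, hg⟩, Equiv.ext fun x => by
      change e (H.γ g (e.symm x)) = f x
      rw [e1]; simp⟩
  obtain ⟨Δ, a1, b1, Δ2, Δc, Δi⟩ := exists_Δ
  have ra := k3 pa (by decide +kernel)
  have rb := k3 pb (by decide +kernel)
  have build : ∀ B : Subgroup G, IsPGroup 2 B → L.P ≤ B → B ≤ (Δ.comap φ).map (nz L.P).subtype →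
      ∃ T0 T K : Subgroup G, B ≤ T0 ∧ IsPGroup 2 T0 ∧ T0 ≤ (Δ.comap φ).map (nz L.P).subtype ∧
        T ≤ T0 ∧ L.P ≤ T ∧ Nat.card T = Nat.card H.R * Nat.card L.Y ∧ K.relIndex T = 2 ∧
        L.Y ≤ K ∧ H.t ∉ K := fun B hB hP hle => by
    obtain ⟨T0, hT, hBT⟩ := exists_isSylowIn_ge hB hle
    have hP' := hP.trans hBT
    have h1 := (hT.subgroupOf (map_subtype_le _)).map φ
    rw [subgroupOf, subgroupOf, comap_map_eq_self_of_injective (subtype_injective _),
      map_comap_eq] at h1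
    have h2 := (h1.eq_of_le (isPGroup_le Δ2 inf_le_right) le_rfl h1.le).le
    obtain ⟨r, hr, er⟩ := h2 ⟨ra, a1⟩
    obtain ⟨s, hs, es⟩ := h2 ⟨rb, b1⟩
    have sq : ∀ w : nz L.P, (w : G) ∈ T0 → φ w * φ w = 1 → (w : G) * w ∈ L.Y := fun w hw e1 =>
      L.sqY (k2 T0 hT.isPGroup hP' (w * w) (mul_mem hw hw) (by rw [map_mul, e1]))
    obtain ⟨K, K1, K2, K3, K4, -, K5, K6⟩ := dih (L.NP_Y r.2) (L.NP_Y s.2)
      (sq r hr (by rw [er]; decide +kernel)) (sq s hs (by rw [es]; decide +kernel))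
      (sq (r * s * (r * s)) (mul_mem (mul_mem hr hs) (mul_mem hr hs)) (by
        simp only [map_mul, er, es]; decide +kernel))
    have hw : ∀ w ∈ [(r : G) * s * (r * s), r * s, r * s * (r * s) * (r * s), r,
        r * s * (r * s) * r, r * s * r, r * s * (r * s) * (r * s * r)], w ∉ L.P := by
      intro w hw h
      obtain ⟨w, h3, rfl⟩ := List.mem_map.mp (show w ∈ [r * s * (r * s), r * s,
        r * s * (r * s) * (r * s), r, r * s * (r * s) * r, r * s * r,
        r * s * (r * s) * (r * s * r)].map Subtype.val from hw)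
      refine words_ne (φ w) ?_ (k1 w (L.P_cz h))
      simpa only [List.map, map_mul, er, es] using List.mem_map_of_mem (f := φ) h3
    have ht : H.t ∉ K := fun h => (K5 _ h).elim L.t_not fun ⟨w, h1, h2⟩ =>
      hw w h1 ((mul_mem_cancel_right L.t_mem).mp (L.Y_le h2))
    have hK := K4 T0 (L.Y_le.trans hP') hr hs
    have hn : H.t ∈ nz K := mem_nz_of_conj fun x hx => by
      convert mul_mem (K1 (L.NP_t (map_subtype_le _ (hT.le (hK hx))))) hx using 1
      rw [inv_eq_of_sq H.tt]; group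
    refine ⟨T0, ext2 K H.t (H.tt ▸ one_mem _) hn, K, hBT, hT.isPGroup, hT.le,
      ext2_le hK (hP' L.t_mem), ext2_le (K1.trans le_ext2) self_ext2, ?_, ext2_relIndex ht, K1, ht⟩
    rw [ext2_card ht, K6 fun w h1 h2 => hw w h1 (L.Y_le h2), H.card_R, h8]; ring
  have hP : L.P ≤ (Δ.comap φ).map (nz L.P).subtype := fun x hx =>
    ⟨⟨x, le_normalizer hx⟩, show φ _ ∈ Δ from k1 ⟨x, _⟩ (L.P_cz hx) ▸ one_mem _, rfl⟩
  have nox : ∀ x : nz L.P, IsConj H.t x → φ x ≠ pa * pb * (pa * pb) := fun x hx e1 => by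
    have e2 : φ x ≠ 1 := e1 ▸ words_ne _ (by simp)
    obtain ⟨T0, T, K, h1, h2, h3, h4, h5, h6, -⟩ := build (ext2 L.P x (H.D_sq hx ▸ one_mem _) x.2)
      (ext2_two L.P_two) le_ext2 (ext2_le hP ⟨x, show φ _ ∈ Δ from
        e1 ▸ mul_mem (mul_mem a1 b1) (mul_mem a1 b1), rfl⟩)
    have hx0 := h1 self_ext2
    refine e2 (k1 x (mem_cz.mpr fun b hb => comm_of_sq (H.U_sq hb) (H.D_sq hx) (H.D_sq
      (H.cls_eq hx (isPGroup_le h2 h4) h6 (fun g hg => ?_) (L.U_le hb)))))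
    obtain ⟨g, g1, rfl⟩ := h3 (h4 hg)
    refine (k2 T0 h2 (h5.trans h4) (g * x * g⁻¹ * x⁻¹) (mul_mem (cmem (h4 hg) hx0) (inv_mem hx0))
      (by simp only [map_mul, map_inv, e1]; rw [mem_c1.mp (Δc g1)]; group)).resolve_right
      fun e3 => e2 (k1 x (L.P_cz (L.fix h2 (h5.trans h4) hx0 e3 ?_)))
    refine (comm_of_sq (H.D_sq (L.conj' e3)) (H.D_sq hx) ?_).symm
    simpa [mul_assoc] using H.D_sq (isConj_conj hx g)
  obtain ⟨T0, T, K, h1, h2, h3, h4, h5, h6, h7, h8, h9⟩ := build L.P L.P_two le_rfl hP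
  refine L.gt h7 h6 h5 h8 h9 fun x hx hT _ => ?_
  obtain ⟨x, x1, rfl⟩ := h3 (h4 hT)
  refine L.D_P (k2 T0 h2 h1 x (h4 hT) ((Δi _ x1 (by
    rw [← map_mul, show x * x = 1 from Subtype.ext (H.D_sq hx), map_one])).resolve_right ?_)) hx
  rintro ⟨f, hf, e1⟩
  obtain ⟨g, rfl⟩ : f ∈ φ.range := by
    have r1 := k3 p1 (by decide +kernel)
    have r2 := k3 p2 (by decide +kernel)
    simp only [List.mem_cons, List.not_mem_nil, or_false] at hf
    rcases hf with rfl | rfl | rfl | rfl | rfl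
    exacts [one_mem _, r1, mul_mem r1 rb, r2, mul_mem r2 ra]
  exact nox (g * x * g⁻¹) (isConj_conj hx g) (by rw [map_mul, map_mul, map_inv, e1])

include L in
theorem main : ∃ M : Subgroup G, M.index = 2 := by
  induction hn : L.Y.index using Nat.strong_induction_on generalizing L with
  | _ n ih =>
  by_cases h : H86.IsSylowIn 2 L.P ⊤
  · exact L.syl h
  rcases L.dich h with h1 | ⟨h1, h2, h3⟩
  · refine (L.step h1).elim id fun ⟨L', h2⟩ => ih _ (hn ▸ ?_) L' rfl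
    exact index_strictAnti h2
  · exact L.exc h1 h2 h3

end Lv

theorem ab : H93.STD.AbStmt.{u, v} := by
  intro G F _ _ _ _ _ t k u κ h4 tt add inj tne tu syl semi kt gen act
  let H : AH G F := ⟨t, u, h4, tt, add, inj, tne, tu, syl, semi⟩
  have hk : H.Tor k κ := ⟨kt, gen, act⟩
  by_cases h : IsSylowIn 2 H.R ⊤
  · refine Or.inl ⟨h.toSylowTop, fun x hx => ?_⟩
    rcases H.mem_R.mp hx with ⟨a, e⟩ | ⟨a, e⟩
    · exact ⟨a, Or.inl e.symm⟩
    · exact ⟨a, Or.inr (by rw [show u a = t * x from e, ← mul_assoc, tt, one_mul])⟩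
  obtain ⟨h1, h2⟩ := H.base hk h
  have e := Function.leftInverse_invFun inj
  refine Or.inr (Lv.main (H := H) ⟨H.U, 1, Function.invFun u, H.U_two, le_rfl, ?_,
    fun b => ⟨_, H.u_mem b, e b⟩, ?_, ?_, h1, k, κ, hk, ?_⟩) <;> rintro _ ⟨a, rfl⟩
  · rw [pow_one]; exact congrArg u (e a).symm
  · exact fun e1 => ⟨1, one_mem _, by rw [(e a).symm.trans e1, H.u0, one_mul]⟩
  · exact h2 a
  · exact ⟨_, (act a).symm⟩

end Cfsg.Agent.H62.AB
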