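import Cfsg.Agent.H11.ElDefs

/-!
# The centraliser of an involution acting on its fixed members
-/

set_option autoImplicit false

namespace Cfsg.Agent.H62.ElZG

open Subgroup Cfsg.Agent.H11.EL

universe u

variable {G : Type u} [Group G]

theorem c1_iff {g y : G} : g ∈ C1 y ↔ Commute g y := by
  rw [mem_centralizer_singleton_iff]; rfl

/-- The members normalised by `y`. -/
def Om {D : Set (Subgroup G)} (_ : Cls D) (y : G) : Type u := {A : Subgroup G // A ∈ Fx D y}

instance omAction {D : Set (Subgroup G)} (h : Cls D) (y : G) : MulAction (C1 y) (Om h y) where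
  smul g A := ⟨cj (g : G) A.1, h.conj _ A.2.1 g, by
    rw [← cj_eq_iff, ← cj_mul, ← (c1_iff.1 g.2).eq, cj_mul, cj_eq_iff.2 A.2.2]⟩
  one_smul A := Subtype.ext (cj_one A.1)
  mul_smul g k A := Subtype.ext (cj_mul (g : G) (k : G) A.1)

theorem om_eq {D : Set (Subgroup G)} (h : Cls D) (y : G) (g : C1 y) (A B : Om h y) :
    g • A = B ↔ cj (g : G) A.1 = B.1 := Subtype.ext_iff

theorem om_fix {D : Set (Subgroup G)} (h : Cls D) (y : G) (g : C1 y) (A : Om h y) :
    g • A = A ↔ (g : G) ∈ Nm A.1 := by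
  rw [om_eq, cj_eq_iff]

instance omFinite [Finite G] {D : Set (Subgroup G)} (h : Cls D) (y : G) : Finite (Om h y) :=
  inferInstanceAs (Finite {A : Subgroup G // A ∈ Fx D y})

theorem om_card {D : Set (Subgroup G)} (h : Cls D) (y : G) :
    Nat.card (Om h y) = (Fx D y).ncard := rfl

theorem mem_zp {y g : G} (hy : orderOf y = 2) (hg : g ∈ zpowers y) : g = 1 ∨ g = y := by
  obtain ⟨k, rfl⟩ := (IsOfFinOrder.mem_powers_iff_mem_zpowers (by
    rw [← orderOf_pos_iff, hy]; norm_num)).2 hg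
  have h2 : y ^ 2 = 1 := by rw [← hy, pow_orderOf_eq_one]
  show y ^ k = 1 ∨ y ^ k = y
  rw [← Nat.mod_add_div k 2, pow_add, pow_mul, h2, one_pow, mul_one]
  rcases Nat.mod_two_eq_zero_or_one k with h | h <;> simp [h]

theorem zg (hZA : ZAStmt.{u}) (hLA : LAStmt.{u}) : ZGStmt.{u} := by
  intro G _ _ D A B y f s e hD hA hB hP hC hy hZ h2 hcard
  have hyf : Commute y f := hC.com y hA.2 hB.2
  have hy2 : y ^ 2 = 1 := by rw [← hy, pow_orderOf_eq_one]
  have hf5 : f ^ 5 = 1 := by rw [← hC.fo, pow_orderOf_eq_one]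
  have hy1 : y ≠ 1 := by
    intro h; rw [h, orderOf_one] at hy; omega
  have hff : f * f ≠ 1 := by
    intro h
    have := orderOf_dvd_of_pow_eq_one (show f ^ 2 = 1 by rw [pow_two, h])
    rw [hC.fo] at this; omega
  let Y : Subgroup (C1 y) := (zpowers y).subgroupOf (C1 y)
  have hYle : zpowers y ≤ C1 y := by
    rw [zpowers_le, c1_iff]
  have hYc : Nat.card Y = 2 := by
    rw [Nat.card_congr (subgroupOfEquivOfLe hYle).toEquiv, Nat.card_zpowers, hy]
  have hYn : Y.Normal := ⟨fun a ha g => by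
    have h1 : (a : G) ∈ zpowers y := ha
    have h3 : Commute (g : G) a := by
      obtain ⟨k, hk⟩ := h1
      rw [← hk]
      exact (c1_iff.1 g.2).zpow_right k
    show (g : G) * a * (g : G)⁻¹ ∈ zpowers y
    rw [h3.eq, mul_inv_cancel_right]
    exact h1⟩
  have key := hZA (X := C1 y) (Ω := Om hD y) Y ⟨A, hA⟩ ⟨B, hB⟩ ⟨f, c1_iff.2 hyf.symm⟩ e hYn
    (fun a ha x => by
      rw [om_fix]
      exact (zpowers_le.2 x.2.2) ha)
    (fun a b c d hab hcd => by
      obtain ⟨g, hg, h3, h4⟩ := hZ.tr2 a.1 a.2 b.1 b.2 c.1 c.2 d.1 d.2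
        (fun h => hab (Subtype.ext h)) (fun h => hcd (Subtype.ext h))
      exact ⟨⟨g, c1_iff.2 hg⟩, Subtype.ext h3, Subtype.ext h4⟩)
    (fun g a b c hab hbc hac h3 h4 h5 =>
      hZ.three g (c1_iff.1 g.2) a.1 a.2 b.1 b.2 c.1 c.2 (fun h => hab (Subtype.ext h))
        (fun h => hbc (Subtype.ext h)) (fun h => hac (Subtype.ext h)) ((om_fix _ _ _ _).1 h3)
        ((om_fix _ _ _ _).1 h4) ((om_fix _ _ _ _).1 h5))
    h2 (fun h => hP.ne (congrArg Subtype.val h)) ((om_fix _ _ _ _).2 hC.fA)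
    ((om_fix _ _ _ _).2 hC.fB)
    (fun h => by
      rcases mem_zp hy (show f ∈ zpowers y from h) with h | h
      · exact hff (by rw [h, one_mul])
      · exact hff (by rw [h, ← pow_two, hy2]))
    (fun n h3 h4 h5 => by
      have h6 := hC.inv n ((om_eq _ _ _ _ _).1 h3) ((om_eq _ _ _ _ _).1 h4) f hC.fA hC.fB
      rcases mem_zp hy (show (n : G) * f * (n : G)⁻¹ * f⁻¹ ∈ zpowers y from h5) with h | h
      · rw [mul_inv_eq_one] at h
        rw [h] at h6
        exact hff ((hLA _ hP.iso).ctr _ (mul_mem hC.fL hC.fL) h6)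
      · rw [mul_inv_eq_iff_eq_mul] at h
        have h7 : ((n : G) * f * (n : G)⁻¹) ^ 5 = 1 := by rw [conj_pow, hf5]; group
        rw [h, hyf.mul_pow, hf5, mul_one, show 5 = 2 * 2 + 1 from rfl, pow_succ, pow_mul, hy2,
          one_pow, one_mul] at h7
        exact hy1 h7)
    (by
      rw [hYc, ← hcard, ← Nat.card_congr (subgroupOfEquivOfLe
        (inf_le_left : C1 y ⊓ (Nm A ⊓ Nm B) ≤ C1 y)).toEquiv]
      congr 2
      ext g
      exact Iff.of_eq <| propext ⟨fun h => ⟨g.2, (om_fix _ _ _ _).1 h.1, (om_fix _ _ _ _).1 h.2⟩,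
        fun h => ⟨(om_fix _ _ _ _).2 h.2.1, (om_fix _ _ _ _).2 h.2.2⟩⟩)
  rw [om_card] at key
  exact key

end Cfsg.Agent.H62.ElZG
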