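import Mathlib

/-!
Elementary abelian groups as vector spaces over `ZMod p`, the conjugation representation on an
elementary abelian normal subgroup, and the "Singer" lemma: an abelian irreducible linear group
over `ZMod p` spans a field, is cyclic, and its normaliser acts through the Galois group.
-/

set_option autoImplicit false

namespace Cfsg.Agent.H62

/-- Coordinates on a finite elementary abelian `p`-group, written additively. -/
theorem exists_coord_addElemAb {V : Type*} [AddCommGroup V] [Finite V] {p : ℕ} [Fact p.Prime]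
    (hp : ∀ x : V, p • x = 0) : ∃ d : ℕ, Nat.card V = p ^ d ∧ Nonempty ((Fin d → ZMod p) ≃+ V) := by
  obtain ⟨inst⟩ : Nonempty (Module (ZMod p) V) := ⟨AddCommGroup.zmodModule hp⟩
  have : Module.Finite (ZMod p) V := Module.Finite.of_finite
  refine ⟨Module.finrank (ZMod p) V, ?_, ⟨?_⟩⟩
  · rw [Module.natCard_eq_pow_finrank (K := ZMod p) (V := V), Nat.card_zmod]
  · exact (Module.finBasis (ZMod p) V).equivFun.symm.toAddEquiv

/-- Coordinates on a finite elementary abelian `p`-group. -/
theorem exists_coord_elemAb {E : Type*} [Group E] [Finite E] {p : ℕ} [Fact p.Prime]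
    (hc : IsMulCommutative E) (hp : ∀ x : E, x ^ p = 1) :
    ∃ d : ℕ, Nat.card E = p ^ d ∧ Nonempty (Multiplicative (Fin d → ZMod p) ≃* E) := by
  letI : CommGroup E := { mul_comm := fun a b => hc.is_comm.comm a b }
  have : Finite (Additive E) := ‹Finite E›
  obtain ⟨d, hd, ⟨e⟩⟩ := exists_coord_addElemAb (V := Additive E) (p := p) (fun x => hp x.toMul)
  exact ⟨d, hd, ⟨AddEquiv.toMultiplicativeLeft e⟩⟩

/-- The linear automorphism attached to a group automorphism of an elementary abelian group. -/
def autToLin {E V : Type*} [Group E] (p : ℕ) [AddCommGroup V] [Module (ZMod p) V]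
    (e : Multiplicative V ≃* E) : MulAut E →* (V ≃ₗ[ZMod p] V) where
  toFun φ :=
    { toFun := fun v => (e.symm (φ (e (Multiplicative.ofAdd v)))).toAdd
      invFun := fun v => (e.symm (φ⁻¹ (e (Multiplicative.ofAdd v)))).toAdd
      map_add' := fun v w => by simp
      map_smul' := fun c v => ZMod.map_smul
        (AddMonoidHom.mk' (fun v => (e.symm (φ (e (Multiplicative.ofAdd v)))).toAdd)
          (fun v w => by simp)) c v
      left_inv := fun v => by simp
      right_inv := fun v => by simp }
  map_one' := by ext v; simp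
  map_mul' φ ψ := by
    ext v
    show (e.symm ((φ * ψ) (e (Multiplicative.ofAdd v)))).toAdd =
      (e.symm (φ (e (Multiplicative.ofAdd (e.symm (ψ (e (Multiplicative.ofAdd v)))).toAdd)))).toAdd
    simp

theorem autToLin_spec {E V : Type*} [Group E] (p : ℕ) [AddCommGroup V] [Module (ZMod p) V]
    (e : Multiplicative V ≃* E) (φ : MulAut E) (v : V) :
    e (Multiplicative.ofAdd (autToLin p e φ v)) = φ (e (Multiplicative.ofAdd v)) := by
  show e (Multiplicative.ofAdd (e.symm (φ (e (Multiplicative.ofAdd v)))).toAdd) = _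
  simp

theorem autToLin_injective {E V : Type*} [Group E] (p : ℕ) [AddCommGroup V] [Module (ZMod p) V]
    (e : Multiplicative V ≃* E) : Function.Injective (autToLin p e) := by
  rw [injective_iff_map_eq_one]
  intro φ h
  ext x
  obtain ⟨v, rfl⟩ := e.surjective x
  have := autToLin_spec p e φ v.toAdd
  rw [h] at this
  exact this.symm

/-- The conjugation representation of `G` on an elementary abelian normal subgroup `N`, in
coordinates: `ι` is an isomorphism from `(ZMod p)^d` onto `N`. -/
theorem exists_conjRep {G : Type*} [Group G] (N : Subgroup G) [N.Normal] [Finite N] {p : ℕ}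
    [Fact p.Prime] (hc : IsMulCommutative N) (hp : ∀ x ∈ N, x ^ p = 1) :
    ∃ (d : ℕ) (ι : (Fin d → ZMod p) → G) (ρ : G →* ((Fin d → ZMod p) ≃ₗ[ZMod p] (Fin d → ZMod p))),
      Nat.card N = p ^ d ∧ Function.Injective ι ∧ (∀ v, ι v ∈ N) ∧ (∀ x ∈ N, ∃ v, ι v = x) ∧
      ι 0 = 1 ∧ (∀ v w, ι (v + w) = ι v * ι w) ∧ ∀ g v, ι (ρ g v) = g * ι v * g⁻¹ := by
  obtain ⟨d, hd, ⟨e⟩⟩ := exists_coord_elemAb (p := p) hc (fun x => Subtype.ext (hp x x.2))
  refine ⟨d, fun v => (e (Multiplicative.ofAdd v) : G), (autToLin p e).comp MulAut.conjNormal, hd,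
    ?_, fun v => (e _).2, ?_, by simp, by simp, ?_⟩
  · intro v w h
    exact Multiplicative.ofAdd.injective (e.injective (Subtype.ext h))
  · intro x hx
    exact ⟨(e.symm ⟨x, hx⟩).toAdd, by simp⟩
  · intro g v
    simp only [MonoidHom.comp_apply, autToLin_spec]
    rfl

/-- The conjugation action on an elementary abelian normal subgroup of order `p ^ e` as a
homomorphism to `GL_e(p)` whose kernel is the centraliser. -/
theorem exists_hom_GL_ker_eq_centralizer {G : Type*} [Group G] (N : Subgroup G) [N.Normal]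
    [Finite N] {p : ℕ} [Fact p.Prime] (hc : IsMulCommutative N) (hp : ∀ x ∈ N, x ^ p = 1) :
    ∃ e : ℕ, Nat.card N = p ^ e ∧
      ∃ φ : G →* GL (Fin e) (ZMod p), φ.ker = Subgroup.centralizer (N : Set G) := by
  obtain ⟨d, ι, ρ, hd, hinj, hmem, hsurj, -, -, hρ⟩ := exists_conjRep N hc hp
  refine ⟨d, hd, (Matrix.GeneralLinearGroup.toLin.trans
    (LinearMap.GeneralLinearGroup.generalLinearEquiv _ _)).symm.toMonoidHom.comp ρ, ?_⟩
  ext g
  rw [MonoidHom.mem_ker, MonoidHom.comp_apply, MulEquiv.coe_toMonoidHom, map_eq_one_iff _ (MulEquiv.injective _),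
    Subgroup.mem_centralizer_iff]
  constructor
  · intro h x hx
    obtain ⟨v, rfl⟩ := hsurj x hx
    have := hρ g v
    rw [h] at this
    exact (eq_mul_inv_iff_mul_eq.1 this)
  · intro h
    ext1 v
    apply hinj
    rw [hρ, ← h _ (hmem v)]
    simp

/-- A unipotent endomorphism in characteristic `p` has order at most the first power of `p` that
is at least the dimension. -/
theorem pow_prime_pow_eq_one_of_finrank_le {K V : Type*} [Field K] [AddCommGroup V] [Module K V]
    [FiniteDimensional K V] (p : ℕ) [Fact p.Prime] [CharP K p] (T : Module.End K V) (r j : ℕ)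
    (hT : T ^ p ^ r = 1) (hj : Module.finrank K V ≤ p ^ j) : T ^ p ^ j = 1 := by
  rcases subsingleton_or_nontrivial V with hV | hV
  · exact Subsingleton.elim _ _
  have : CharP (Module.End K V) p := charP_of_injective_algebraMap' K p
  have h1 : IsNilpotent (T - 1) :=
    ⟨p ^ r, by rw [sub_pow_char_pow_of_commute _ _ (Commute.one_right T), hT, one_pow, sub_self]⟩
  have h2 : (T - 1) ^ Module.finrank K V = 0 := by
    have := LinearMap.aeval_self_charpoly (T - 1)
    rwa [h1.charpoly_eq_X_pow_finrank, map_pow, Polynomial.aeval_X] at this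
  have h3 : (T - 1) ^ p ^ j = 0 := pow_eq_zero_of_le hj h2
  rwa [sub_pow_char_pow_of_commute _ _ (Commute.one_right T), one_pow, sub_eq_zero] at h3

/-- The algebra spanned by a commuting irreducible set of endomorphisms of a finite vector space
is a field with as many elements as the space. -/
theorem isField_adjoin_of_irreducible {F V : Type*} [Field F] [AddCommGroup V] [Module F V]
    [Finite V] [Nontrivial V] (S : Set (Module.End F V)) (hcomm : ∀ a ∈ S, ∀ b ∈ S, a * b = b * a)
    (hirr : ∀ W : Submodule F V, (∀ a ∈ S, ∀ w ∈ W, a w ∈ W) → W = ⊥ ∨ W = ⊤) :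
    IsField (Algebra.adjoin F S) ∧ Nat.card (Algebra.adjoin F S) = Nat.card V ∧
      ∀ a ∈ Algebra.adjoin F S, a ≠ 0 → Function.Injective a := by
  have hc := Algebra.isMulCommutative_adjoin F hcomm
  have hcm : ∀ a ∈ Algebra.adjoin F S, ∀ b ∈ Algebra.adjoin F S, a * b = b * a := fun a ha b hb =>
    congrArg Subtype.val (hc.is_comm.comm (⟨a, ha⟩ : Algebra.adjoin F S) ⟨b, hb⟩)
  have hinj : ∀ a ∈ Algebra.adjoin F S, a ≠ 0 → Function.Injective a := by
    intro a ha ha0
    rw [← LinearMap.ker_eq_bot]
    refine (hirr _ ?_).resolve_right (by rwa [LinearMap.ker_eq_top])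
    intro b hb w hw
    rw [LinearMap.mem_ker] at hw ⊢
    rw [← Module.End.mul_apply, hcm a ha b (Algebra.subset_adjoin hb), Module.End.mul_apply, hw,
      map_zero]
  have hfin : Finite (Module.End F V) :=
    Finite.of_injective (fun e : Module.End F V => (e : V → V)) DFunLike.coe_injective
  refine ⟨?_, ?_, hinj⟩
  · letI : CommRing (Algebra.adjoin F S) := { mul_comm := fun a b => hc.is_comm.comm a b }
    have : NoZeroDivisors (Algebra.adjoin F S) := ⟨fun {a b} hab => by
      by_cases ha : a = 0
      · exact Or.inl ha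
      right
      apply Subtype.ext
      ext v
      apply hinj a a.2 (fun h => ha (Subtype.ext h))
      have : (a : Module.End F V) * b = 0 := congrArg Subtype.val hab
      rw [← Module.End.mul_apply, this]
      simp⟩
    have : IsDomain (Algebra.adjoin F S) := NoZeroDivisors.to_isDomain _
    exact Finite.isField_of_domain _
  · obtain ⟨v, hv⟩ := exists_ne (0 : V)
    let f : Algebra.adjoin F S →ₗ[F] V :=
      (LinearMap.applyₗ v).comp (Algebra.adjoin F S).val.toLinearMap
    have hf : ∀ a, f a = (a : Module.End F V) v := fun a => rfl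
    refine Nat.card_congr (Equiv.ofBijective f ⟨?_, ?_⟩)
    · rw [← LinearMap.ker_eq_bot, eq_bot_iff]
      intro a ha
      by_contra h
      apply hv
      apply hinj a a.2 (fun h' => h (Subtype.ext h'))
      rw [map_zero]
      exact ha
    · rw [← LinearMap.range_eq_top]
      refine (hirr _ ?_).resolve_left ?_
      · rintro b hb _ ⟨a, rfl⟩
        exact ⟨⟨b, Algebra.subset_adjoin hb⟩ * a, rfl⟩
      · intro h
        apply hv
        have : f 1 ∈ LinearMap.range f := ⟨1, rfl⟩
        rwa [h] at this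

/-- Singer-type lemma.  Let `H` act linearly on a finite non-zero `ZMod p`-space `V` of dimension
`d`, and let `T` be a normal abelian subgroup acting irreducibly.  Then the image of `T` is cyclic
and acts without non-zero fixed vectors, `H` maps to the cyclic group of order `d` with kernel
the elements whose image commutes with the image of `T`, and `t ↦ t ^ p ^ i` is the identity on the
image of `T` only if `d ∣ i`. -/
theorem singer_normalizer {p : ℕ} [Fact p.Prime] {V : Type*} [AddCommGroup V] [Module (ZMod p) V]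
    [Finite V] [Nontrivial V] {H : Type*} [Group H] (ρ : H →* (V ≃ₗ[ZMod p] V)) (T : Subgroup H)
    [hT : T.Normal] (hc : IsMulCommutative T)
    (hirr : ∀ W : Submodule (ZMod p) V, (∀ t ∈ T, ∀ w ∈ W, ρ t w ∈ W) → W = ⊥ ∨ W = ⊤) :
    IsCyclic (T.map ρ) ∧ (∀ t ∈ T, ∀ v : V, v ≠ 0 → ρ t v = v → ρ t = 1) ∧
    (∃ φ : H →* Multiplicative (ZMod (Module.finrank (ZMod p) V)),
      ∀ h, φ h = 1 ↔ ∀ t ∈ T, ρ h * ρ t = ρ t * ρ h) ∧
    (∀ i : ℕ, (∀ t ∈ T, ρ t ^ p ^ i = ρ t) → Module.finrank (ZMod p) V ∣ i) := by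
  let lin : (V ≃ₗ[ZMod p] V) →* Module.End (ZMod p) V := LinearEquiv.automorphismGroup.toLinearMapMonoidHom
  have hlin : Function.Injective lin := LinearEquiv.toLinearMap_injective
  let S : Set (Module.End (ZMod p) V) := {a | ∃ t ∈ T, lin (ρ t) = a}
  have hcomm : ∀ a ∈ S, ∀ b ∈ S, a * b = b * a := by
    rintro _ ⟨s, hs, rfl⟩ _ ⟨t, ht, rfl⟩
    have : s * t = t * s := congrArg Subtype.val (hc.is_comm.comm (⟨s, hs⟩ : T) ⟨t, ht⟩)
    rw [← map_mul, ← map_mul, this, map_mul, map_mul]
  obtain ⟨hF, hcard, hinj⟩ := isField_adjoin_of_irreducible S hcomm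
    (fun W hW => hirr W (fun t ht => hW _ ⟨t, ht, rfl⟩))
  set K := Algebra.adjoin (ZMod p) S with hK
  letI : Field K := hF.toField
  have hfin : Finite (Module.End (ZMod p) V) :=
    Finite.of_injective (fun e : Module.End (ZMod p) V => (e : V → V)) DFunLike.coe_injective
  have hfinL : Finite (V ≃ₗ[ZMod p] V) := Finite.of_injective _ hlin
  have : Module.Finite (ZMod p) V := Module.Finite.of_finite
  have : Module.Finite (ZMod p) K := Module.Finite.of_finite
  have hrank : Module.finrank (ZMod p) K = Module.finrank (ZMod p) V := by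
    rw [Module.natCard_eq_pow_finrank (K := ZMod p), Module.natCard_eq_pow_finrank (K := ZMod p) (V := V),
      Nat.card_zmod] at hcard
    exact Nat.pow_right_injective (Fact.out : p.Prime).two_le hcard
  have hmemK : ∀ t ∈ T, lin (ρ t) ∈ K := fun t ht => Algebra.subset_adjoin ⟨t, ht, rfl⟩
  have hext : ∀ σ : K ≃ₐ[ZMod p] K, (∀ t (ht : t ∈ T), σ ⟨_, hmemK t ht⟩ = ⟨_, hmemK t ht⟩) → σ = 1 := by
    intro σ hσ
    ext1 ⟨x, hx⟩
    induction hx using Algebra.adjoin_induction with
    | mem x hx => obtain ⟨t, ht, rfl⟩ := hx; exact hσ t ht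
    | algebraMap r => exact σ.commutes r
    | add x y hx hy ihx ihy =>
      have : (⟨x + y, add_mem hx hy⟩ : K) = ⟨x, hx⟩ + ⟨y, hy⟩ := rfl
      rw [this, map_add, map_add, ihx, ihy]
    | mul x y hx hy ihx ihy =>
      have : (⟨x * y, mul_mem hx hy⟩ : K) = ⟨x, hx⟩ * ⟨y, hy⟩ := rfl
      rw [this, map_mul, map_mul, ihx, ihy]
  refine ⟨?_, ?_, ?_, ?_⟩
  · let f : T.map ρ →* K :=
      { toFun := fun x => ⟨lin x, by obtain ⟨t, ht, h⟩ := x.2; rw [← h]; exact hmemK t ht⟩
        map_one' := Subtype.ext (map_one lin)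
        map_mul' := fun x y => Subtype.ext (map_mul lin _ _) }
    exact isCyclic_of_injective_ringHom f
      (fun x y h => Subtype.ext (hlin (congrArg Subtype.val h)))
  · intro t ht v hv h
    by_contra hne
    apply hv
    apply hinj (lin (ρ t) - 1) (sub_mem (hmemK t ht) (one_mem _))
    · rw [sub_ne_zero, ← map_one lin]
      exact fun h' => hne (hlin h')
    · rw [map_zero, LinearMap.sub_apply, sub_eq_zero]
      exact h
  · have hconj : ∀ h : H, ∀ x ∈ K, lin (ρ h) * x * lin (ρ h⁻¹) ∈ K := by
      intro h x hx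
      induction hx using Algebra.adjoin_induction with
      | mem x hx =>
        obtain ⟨t, ht, rfl⟩ := hx
        rw [← map_mul, ← map_mul, ← map_mul, ← map_mul]
        exact hmemK _ (hT.conj_mem t ht h)
      | algebraMap r =>
        rw [← Algebra.commutes, mul_assoc, ← map_mul, ← map_mul, mul_inv_cancel, map_one, map_one,
          mul_one]
        exact K.algebraMap_mem r
      | add x y hx hy ihx ihy =>
        rw [mul_add, add_mul]
        exact add_mem ihx ihy
      | mul x y hx hy ihx ihy =>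
        have := mul_mem ihx ihy
        rwa [mul_assoc, ← mul_assoc (lin (ρ h⁻¹)), ← mul_assoc (lin (ρ h⁻¹)), ← map_mul, ← map_mul,
          inv_mul_cancel, map_one, map_one, one_mul, ← mul_assoc, mul_assoc (lin (ρ h))] at this
    have hl1 : ∀ h : H, lin (ρ h) * lin (ρ h⁻¹) = 1 := fun h => by
      rw [← map_mul, ← map_mul, mul_inv_cancel, map_one, map_one]
    have hl2 : ∀ h : H, lin (ρ h⁻¹) * lin (ρ h) = 1 := fun h => by
      rw [← map_mul, ← map_mul, inv_mul_cancel, map_one, map_one]
    let c : H → (K →ₐ[ZMod p] K) := fun h =>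
      { toFun := fun x => ⟨lin (ρ h) * x * lin (ρ h⁻¹), hconj h x x.2⟩
        map_one' := Subtype.ext (by simp only [OneMemClass.coe_one, mul_one]; exact hl1 h)
        map_mul' := fun x y => Subtype.ext (by
          show lin (ρ h) * ((x : Module.End (ZMod p) V) * y) * lin (ρ h⁻¹) =
            (lin (ρ h) * x * lin (ρ h⁻¹)) * (lin (ρ h) * y * lin (ρ h⁻¹))
          rw [mul_assoc (lin (ρ h) * x), ← mul_assoc (lin (ρ h⁻¹)), ← mul_assoc (lin (ρ h⁻¹)), hl2,
            one_mul]
          simp only [mul_assoc])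
        map_zero' := Subtype.ext (by simp)
        map_add' := fun x y => Subtype.ext (by
          show lin (ρ h) * ((x : Module.End (ZMod p) V) + y) * lin (ρ h⁻¹) =
            (lin (ρ h) * x * lin (ρ h⁻¹)) + (lin (ρ h) * y * lin (ρ h⁻¹))
          rw [mul_add, add_mul])
        commutes' := fun r => Subtype.ext (by
          show lin (ρ h) * algebraMap (ZMod p) _ r * lin (ρ h⁻¹) = algebraMap (ZMod p) _ r
          rw [← Algebra.commutes, mul_assoc, hl1, mul_one]) }
    let Φ₀ : H →* (K →ₐ[ZMod p] K) :=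
      { toFun := c
        map_one' := by
          ext1 x
          apply Subtype.ext
          show lin (ρ 1) * x * lin (ρ 1⁻¹) = x
          simp
        map_mul' := fun g h => by
          ext1 x
          apply Subtype.ext
          show lin (ρ (g * h)) * x * lin (ρ (g * h)⁻¹) =
            lin (ρ g) * (lin (ρ h) * x * lin (ρ h⁻¹)) * lin (ρ g⁻¹)
          simp only [mul_inv_rev, map_mul, mul_assoc] }
    let Φ : H →* (K ≃ₐ[ZMod p] K) :=
      (Algebra.IsAlgebraic.algEquivEquivAlgHom (ZMod p) K).symm.toMonoidHom.comp Φ₀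
    have hΦ : ∀ h (x : K), ((Φ h x : K) : Module.End (ZMod p) V) = lin (ρ h) * x * lin (ρ h⁻¹) :=
      fun h x => rfl
    have hcardG : Nat.card (K ≃ₐ[ZMod p] K) = Module.finrank (ZMod p) V := by
      rw [IsGalois.card_aut_eq_finrank, hrank]
    have e := zmodCyclicMulEquiv (G := K ≃ₐ[ZMod p] K) inferInstance
    rw [hcardG] at e
    refine ⟨e.symm.toMonoidHom.comp Φ, fun h => ?_⟩
    rw [MonoidHom.comp_apply, MulEquiv.coe_toMonoidHom, map_eq_one_iff _ e.symm.injective]
    constructor
    · intro h1 t ht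
      have := hΦ h ⟨_, hmemK t ht⟩
      rw [h1] at this
      apply hlin
      have h2 : lin (ρ t) = lin (ρ h) * lin (ρ t) * lin (ρ h⁻¹) := this
      rw [map_mul, map_mul]
      conv_rhs => rw [h2, mul_assoc, hl2, mul_one]
    · intro h1
      apply hext
      intro t ht
      apply Subtype.ext
      rw [hΦ]
      show lin (ρ h) * lin (ρ t) * lin (ρ h⁻¹) = lin (ρ t)
      rw [← map_mul, h1 t ht, map_mul, mul_assoc, hl1, mul_one]
  · intro i hi
    rw [← hrank, ← FiniteField.orderOf_frobeniusAlgEquivOfAlgebraic]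
    apply orderOf_dvd_of_pow_eq_one
    apply hext
    intro t ht
    rw [AlgEquiv.coe_pow, FiniteField.coe_frobeniusAlgEquivOfAlgebraic_iterate, ZMod.card]
    apply Subtype.ext
    show lin (ρ t) ^ p ^ i = lin (ρ t)
    rw [← map_pow, hi t ht]

end Cfsg.Agent.H62
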