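import Mathlib
import Cfsg.Agent.Lead.T3Defs

/-! Buildings as `W`-metric spaces: galleries, residues, projections, apartments. -/

set_option autoImplicit false

namespace Cfsg.Agent.H62.T3B

open Cfsg.Agent.H35 Cfsg.Agent.Lead.T3

universe u

variable {I W : Type} [Group W] {X : Cox I W} {C : Type u} (B : Bld X C)

theorem self (x : C) : B.δ x x = 1 := (B.eq_one x x).2 rfl

theorem adj_symm {i : I} {x y : C} (h : B.δ x y = X.s i) : B.δ y x = X.s i := by
  rw [B.symm, h, InvGen.inv_s]

theorem first {x z : C} {i : I} {w : W} (h : B.δ x z = X.s i * w) :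
    ∃ y, B.δ x y = X.s i ∧ B.δ y z = w := by
  obtain ⟨y, h1, h2⟩ := B.ex i x z
  exact ⟨y, adj_symm B h1, by rw [h2, h, InvGen.s_mul_s_cancel_left]⟩

theorem between {x z : C} {w w' : W} (h : B.δ x z = w * w') : ∃ y, B.δ x y = w ∧ B.δ y z = w' := by
  induction w using X.induction_left generalizing x with
  | h1 => exact ⟨x, self B x, by rw [h, one_mul]⟩
  | hs i w hl ih =>
    obtain ⟨x1, h1, h2⟩ := first B (h.trans (mul_assoc _ _ _))
    obtain ⟨y, h3, h4⟩ := ih h2
    exact ⟨y, by rw [B.step_up i x x1 y h1 (by rw [h3]; omega), h3], h4⟩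

theorem trans' {x y z : C} {w : W} (e : B.δ x y = w)
    (h : X.len (w * B.δ y z) = X.len w + X.len (B.δ y z)) : B.δ x z = w * B.δ y z := by
  induction w using X.induction_left generalizing x with
  | h1 => rw [(B.eq_one x y).1 e, one_mul]
  | hs i w hl ih =>
    obtain ⟨x1, h1, h2⟩ := first B e
    have a1 := X.len_s_mul_le i (w * B.δ y z)
    have a2 := X.len_mul_le w (B.δ y z)
    rw [mul_assoc] at h ⊢
    have h3 := ih h2 (by omega)
    rw [B.step_up i x x1 z h1 (by rw [h3]; omega), h3]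

theorem trans {x y z : C}
    (h : X.len (B.δ x y * B.δ y z) = X.len (B.δ x y) + X.len (B.δ y z)) :
    B.δ x z = B.δ x y * B.δ y z := trans' B rfl h

theorem exists_dist (x : C) (w : W) : ∃ y, B.δ x y = w :=
  (between B (x := x) (z := x) (w := w) (w' := w⁻¹) (by rw [self, mul_inv_cancel])).imp fun _ h => h.1

theorem mem_res (J : Set I) (x : C) : x ∈ B.res J x := by
  show B.δ x x ∈ X.WJ J
  rw [self]; exact one_mem _

theorem res_symm {J : Set I} {x y : C} (h : y ∈ B.res J x) : x ∈ B.res J y := by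
  show B.δ y x ∈ X.WJ J
  rw [B.symm]; exact inv_mem h

theorem coset {J : Set I} {x y : C} (z : C) (h : y ∈ B.res J x) :
    ∃ u ∈ X.WJ J, B.δ x z = u * B.δ y z := by
  obtain ⟨l, hl, e⟩ := X.mem_closure_iff.1 h
  clear h
  induction l generalizing x with
  | nil => exact ⟨1, one_mem _, by rw [(B.eq_one x y).1 (by simpa using e.symm), one_mul]⟩
  | cons i l ih =>
    obtain ⟨x1, h1, h2⟩ := first B (x := x) (z := y) (i := i) (w := X.wp l) (by simpa using e.symm)
    obtain ⟨v, hv, h3⟩ := ih (fun j hj => hl j (List.mem_cons_of_mem _ hj)) h2.symm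
    rcases B.step i x x1 z h1 with h4 | h4
    · exact ⟨_, mul_mem (InvGen.s_mem_closure (hl i List.mem_cons_self)) hv,
        by rw [h4, h3, mul_assoc]⟩
    · exact ⟨v, hv, h4.trans h3⟩

theorem res_trans {J : Set I} {x y z : C} (h : y ∈ B.res J x) (h' : z ∈ B.res J y) :
    z ∈ B.res J x := by
  obtain ⟨v, hv, e⟩ := coset B z h
  show B.δ x z ∈ X.WJ J
  rw [e]; exact mul_mem hv h'

theorem res_eq {J : Set I} {x y : C} (h : y ∈ B.res J x) : B.res J y = B.res J x :=
  Set.Subset.antisymm (fun _ => res_trans B h) fun _ => res_trans B (res_symm B h)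

theorem exists_gate (J : Set I) (x z : C) :
    ∃ p ∈ B.res J x, ∀ j ∈ J, X.len (B.δ p z) ≤ X.len (X.s j * B.δ p z) := by
  obtain ⟨p, hp, hm⟩ := (InvImage.wf (fun p => X.len (B.δ p z)) wellFounded_lt).has_min
    (B.res J x) ⟨x, mem_res B J x⟩
  refine ⟨p, hp, fun j hj => ?_⟩
  obtain ⟨y, h1, h2⟩ := B.ex j p z
  have hy : y ∈ B.res J p := by
    show B.δ p y ∈ X.WJ J
    rw [adj_symm B h1]; exact InvGen.s_mem_closure hj
  exact h2 ▸ not_lt.1 (hm y (res_trans B hp hy))

theorem len_red {J : Set I} {v d : W} (hv : v ∈ X.WJ J)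
    (hd : ∀ j ∈ J, X.len d ≤ X.len (X.s j * d)) : X.len (v * d) = X.len v + X.len d := by
  have := X.exch.len_mul_of_isDRed (K := ∅) (I := J) (d := d⁻¹) (v := v⁻¹)
    ⟨fun _ h => h.elim, fun j hj => by
      rw [X.len_mul_s_eq, inv_inv, X.len_inv]; exact hd j hj⟩ (inv_mem hv)
  rw [← mul_inv_rev, X.len_inv, X.len_inv, X.len_inv] at this
  omega

theorem gate {J : Set I} {x y p z : C} (hp : p ∈ B.res J x)
    (hd : ∀ j ∈ J, X.len (B.δ p z) ≤ X.len (X.s j * B.δ p z)) (hy : y ∈ B.res J x) :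
    B.δ y z = B.δ y p * B.δ p z ∧ X.len (B.δ y z) = X.len (B.δ y p) + X.len (B.δ p z) := by
  have h := len_red (res_trans B (res_symm B hy) hp) hd
  have e := trans B h
  exact ⟨e, e ▸ h⟩

theorem proj_spec (J : Set I) (x z : C) : B.proj J x z ∈ B.res J x ∧
    ∀ j ∈ J, X.len (B.δ (B.proj J x z) z) ≤ X.len (X.s j * B.δ (B.proj J x z) z) := by
  rw [Bld.proj, dif_pos (exists_gate B J x z)]
  exact (exists_gate B J x z).choose_spec

theorem proj_eq {J : Set I} {x z p : C} (hp : p ∈ B.res J x)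
    (hd : ∀ j ∈ J, X.len (B.δ p z) ≤ X.len (X.s j * B.δ p z)) : B.proj J x z = p := by
  obtain ⟨h1, h2⟩ := proj_spec B J x z
  have a := (gate B hp hd h1).2
  have b := (gate B h1 h2 hp).2
  exact (B.eq_one _ _).1 (X.len_eq_zero_iff.1 (by omega))

theorem len_step {i : I} {x y : C} (z : C) (h : B.δ x y = X.s i) :
    X.len (B.δ x z) ≤ X.len (B.δ y z) + 1 := by
  have := X.len_s_mul_le i (B.δ y z)
  rcases B.step i x y z h with e | e <;> rw [e] <;> omega

theorem triangle (x y z : C) : X.len (B.δ x z) ≤ X.len (B.δ x y) + X.len (B.δ y z) := by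
  generalize e : B.δ x y = w
  induction w using X.induction_left generalizing x with
  | h1 => rw [(B.eq_one x y).1 e]; omega
  | hs i w hl ih =>
    obtain ⟨x1, h1, h2⟩ := first B e
    have := ih x1 h2
    have := len_step B z h1
    omega

theorem adj_of_ne {i : I} {x y y' : C} (h : B.δ x y = X.s i) (h' : B.δ x y' = X.s i)
    (n : y ≠ y') : B.δ y y' = X.s i := by
  rcases B.step i y x y' (adj_symm B h) with e | e
  · rw [h', X.s_mul_s] at e
    exact (n ((B.eq_one _ _).1 e)).elim
  · exact e.trans h'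

theorem eq_of_adj {i : I} {x y y' z : C} (h : B.δ x y = X.s i) (h' : B.δ x y' = X.s i)
    (e : B.δ y z = B.δ y' z) (hl : X.len (B.δ y' z) ≤ X.len (X.s i * B.δ y' z)) : y = y' := by
  by_contra n
  have := B.step_up i y y' z (adj_of_ne B h h' n) hl
  rw [e] at this
  exact X.exch.s_ne_one i (by simpa using this)

theorem between_unique {c d x x' : C} (h1 : B.δ c x = B.δ c x') (h2 : B.δ x d = B.δ x' d)
    (h : X.len (B.δ c d) = X.len (B.δ c x) + X.len (B.δ x d)) : x = x' := by
  generalize e : B.δ c x = v at h1 h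
  induction v using X.induction_left generalizing c with
  | h1 => rw [← (B.eq_one _ _).1 e, (B.eq_one _ _).1 h1.symm]
  | hs i v hl ih =>
    have key : ∀ x y, B.δ c y = X.s i → B.δ y x = v → X.len (B.δ c d) = X.len v + 1 + X.len (B.δ x d) →
        B.δ c d = X.s i * B.δ y d ∧ X.len (B.δ y d) = X.len v + X.len (B.δ x d) := by
      intro x y a b h
      have t1 := triangle B y x d
      have t2 := len_step B d a
      rw [b] at t1
      refine ⟨(B.step i c y d a).resolve_right fun e => ?_, by omega⟩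
      rw [e] at h
      omega
    obtain ⟨y, a, b⟩ := first B e
    obtain ⟨y', a', b'⟩ := first B h1.symm
    obtain ⟨k1, k2⟩ := key x y a b (hl ▸ h)
    obtain ⟨k1', k2'⟩ := key x' y' a' b' (h2 ▸ hl ▸ h)
    obtain rfl : y = y' := eq_of_adj B a a' (z := d) (mul_left_cancel (k1.symm.trans k1')) (by
      rw [← k1', k2', h, h2]; omega)
    exact ih b b'.symm k2

theorem apt_of_adj {σ : W → C} (h : ∀ u i, B.δ (σ u) (σ (u * X.s i)) = X.s i) : B.Apt σ := by
  have : ∀ v u, B.δ (σ u) (σ (u * v)) = v := fun v => by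
    induction v using X.induction_left with
    | h1 => intro u; rw [mul_one, self]
    | hs i v hl ih =>
      intro u
      have e := ih (u * X.s i)
      rw [mul_assoc] at e
      rw [B.step_up i _ _ _ (h u i) (by rw [e]; omega), e]
  intro u w
  simpa using this (u⁻¹ * w) u

theorem exists_apt [Finite W] {c d : C} (h : B.δ c d = X.w0) :
    ∃ σ : W → C, B.Apt σ ∧ σ 1 = c ∧ σ X.w0 = d := by
  have : ∀ w : W, ∃ y, B.δ c y = w ∧ B.δ y d = w⁻¹ * X.w0 := fun w =>
    between B (by rw [h, mul_inv_cancel_left])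
  choose σ h1 h2 using this
  have hl : ∀ w : W, X.len w + X.len (w⁻¹ * X.w0) = X.len X.w0 := fun w =>
    X.exch.len_add_isLongest (X.wJ_spec Set.univ) (by rw [Set.image_univ, X.closure_eq]; trivial)
  have up : ∀ u i, X.len (u * X.s i) = X.len u + 1 → B.δ (σ u) (σ (u * X.s i)) = X.s i := by
    intro u i hu
    obtain ⟨y, a, b⟩ := B.ex i (σ u) d
    have a' := adj_symm B a
    have e : B.δ c y = u * X.s i := by
      rw [← a', trans' B (h1 u) (by rw [a', hu, X.exch.len_s])]
    have : σ (u * X.s i) = y := between_unique B ((h1 _).trans e.symm)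
      (by rw [h2, b, h2, mul_inv_rev, InvGen.inv_s, mul_assoc]) (by rw [h, h1, h2, hl])
    rw [this, a']
  refine ⟨σ, apt_of_adj B fun u i => ?_, ((B.eq_one _ _).1 (h1 1)).symm,
    (B.eq_one _ _).1 (by rw [h2, inv_mul_cancel])⟩
  rcases X.exch.len_mul_s i u with e | e
  · exact up u i e
  · have := up (u * X.s i) i (by rw [InvGen.s_mul_s_cancel_right, e])
    rw [InvGen.s_mul_s_cancel_right] at this
    exact adj_symm B this

theorem ba1Stmt : Ba1Stmt.{u} := by
  intro I W _ _ X C _ B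
  exact ⟨fun _ _ _ => trans B, fun _ _ _ _ => between B, exists_dist B, mem_res B,
    fun _ _ _ => res_eq B, fun _ _ z _ => coset B z,
    fun J x z => ⟨(proj_spec B J x z).1, (proj_spec B J x z).2,
      fun _ => gate B (proj_spec B J x z).1 (proj_spec B J x z).2⟩,
    fun _ _ _ _ => proj_eq B, fun _ _ _ _ => between_unique B, fun _ _ => exists_apt B⟩

end Cfsg.Agent.H62.T3B
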