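import Cfsg.Agent.H17.KnDefs
import Cfsg.Agent.H3.Cores

/-!
# Groups with a 2-local subgroup of type `E16 : GL(4, 2)`: the quotient by the core and the case
of a normal 2-subgroup
-/

set_option autoImplicit false

namespace Cfsg.Agent.H62.KnRq

open Equiv Subgroup Cfsg.Agent.H11.A16 Cfsg.Agent.H63 Cfsg.Agent.H17.Kn

universe u

variable {G : Type u} [Group G] {J : N2 → G} {φ : G → Perm Ω}

/-- The homomorphism on the normaliser. -/
def Φ (h : Ki J φ) : NA J →* Perm Ω := MonoidHom.mk' (fun g => φ g) fun a b => h.mul a a.2 b b.2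

theorem twoT (hB : Base.{u}) (h : Ki J φ) : IsPGroup 2 (im J T0) :=
  h.em.two (IsPGroup.of_card (n := 10) (by rw [hB.m1.cT0]; norm_num))

theorem twoA (hB : Base.{u}) (h : Ki J φ) : IsPGroup 2 (im J AA) :=
  (twoT hB h).to_le (im_mono AA_le_T0)

theorem im_map {H : Type u} [Group H] (π : G →* H) (X : Subgroup N2) :
    im (π ∘ J) X = (im J X).map π := by
  rw [im, im, MonoidHom.map_closure, Set.image_comp]

theorem phi_one [Finite G] (hB : Base.{u}) (h : Ki J φ) {O : Subgroup G} [n : O.Normal]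
    (hO : ∀ o ∈ O, Odd (orderOf o)) {k : G} (hk : k ∈ O) (kN : k ∈ NA J) : φ k = 1 := by
  have K := hB.kit J φ h
  have kC : k ∈ C[im J AA] := mem_centralizer_iff.2 fun a ha => by
    have h1 : a⁻¹ * (k * a * k⁻¹) ∈ im J AA :=
      mul_mem (inv_mem ha) ((mem_normalizer_iff.1 kN a).1 ha)
    have h2 : a⁻¹ * (k * a * k⁻¹) ∈ O := by
      have := mul_mem (n.conj_mem k hk a⁻¹) (inv_mem hk)
      rwa [inv_inv, mul_assoc, mul_assoc, ← mul_assoc k] at this
    have := hB.gen.one _ _ (twoA hB h) h1 (hO _ h2)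
    rw [inv_mul_eq_one, eq_mul_inv_iff_mul_eq] at this
    exact this
  obtain ⟨a, ha, k', hk', e1, e2⟩ := K.dec k kC
  have e3 : φ k = pm2 a := by
    rw [e2, h.mul _ (K.le a (AA_le_T0 ha)) _ hk', e1, mul_one, h.res a (AA_le_T0 ha)]
  have d1 : orderOf (φ k) ∣ orderOf k := by
    have := orderOf_map_dvd (Φ h) ⟨k, kN⟩
    rwa [orderOf_mk] at this
  have d2 : orderOf (φ k) ∣ 2 := orderOf_dvd_of_pow_eq_one (by
    rw [e3, sq, ← map_mul, hB.m2.ab.2.2.2.2.2.1 a ha, map_one])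
  rw [← orderOf_eq_one_iff]
  exact Nat.eq_one_of_dvd_coprimes (Nat.coprime_two_right.2 (hO k hk)) d1 d2

theorem quo [Finite G] (hB : Base.{u}) (h : Ki J φ) (O : Subgroup G) [n : O.Normal]
    (hO : ∀ o ∈ O, Odd (orderOf o)) : ∃ (J' : N2 → G ⧸ O) (φ' : G ⧸ O → Perm Ω), Ki J' φ' := by
  classical
  have K := hB.kit J φ h
  let π := QuotientGroup.mk' O
  have up : ∀ g ∈ NA J, π g ∈ NA (π ∘ J) := fun g hg => by
    rw [NA, im_map]; exact le_normalizer_map π (mem_map_of_mem π hg)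
  have down : ∀ x ∈ NA (π ∘ J), ∃ g ∈ NA J, π g = x := fun x hx => by
    obtain ⟨g, rfl⟩ := QuotientGroup.mk'_surjective O x
    rw [NA, im_map] at hx
    obtain ⟨o, ho, e⟩ := hB.gen.frO (im J AA) O g (twoA hB h) hO
      (by rw [normalizer_eq_top]; exact le_top) fun y hy => by
        obtain ⟨y', hy', e⟩ := (mem_normalizer_iff.1 hx _).1 (mem_map_of_mem π hy)
        refine ⟨y', hy', y'⁻¹ * (g * y * g⁻¹), QuotientGroup.eq.1 e, by group⟩
    exact ⟨o * g, e, by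
      rw [map_mul, show π o = 1 from (QuotientGroup.eq_one_iff o).2 ho, one_mul]⟩
  let φ' : G ⧸ O → Perm Ω := fun x => if hx : ∃ g ∈ NA J, π g = x then φ hx.choose else 1
  have key : ∀ g ∈ NA J, φ' (π g) = φ g := fun g hg => by
    have hx : ∃ g' ∈ NA J, π g' = π g := ⟨g, hg, rfl⟩
    obtain ⟨h1, h2⟩ := hx.choose_spec
    simp only [φ', dif_pos hx]
    generalize hx.choose = g' at h1 h2
    have m := mul_mem (inv_mem h1) hg
    have := h.mul _ h1 _ m
    rw [phi_one hB h hO (QuotientGroup.eq.1 h2) m, mul_one, mul_inv_cancel_left] at this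
    exact this.symm
  refine ⟨π ∘ J, φ', ⟨fun u hu v hv => ?_, fun u hu v hv e => ?_⟩, fun x hx y hy => ?_,
    fun t ht => ?_, fun x hx => ?_, fun m hm => ?_, fun x hx e => ?_⟩
  · simp only [Function.comp, h.em.mul u hu v hv, map_mul]
  · refine h.em.inj u hu v hv (inv_mul_eq_one.1 (hB.gen.one _ _ (twoT hB h)
      (mul_mem (inv_mem (mem_im hu)) (mem_im hv)) (hO _ (QuotientGroup.eq.1 e))))
  · obtain ⟨g, hg, rfl⟩ := down x hx
    obtain ⟨k, hk, rfl⟩ := down y hy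
    rw [← map_mul, key _ (mul_mem hg hk), key _ hg, key _ hk, h.mul _ hg _ hk]
  · exact (key _ (K.le t ht)).trans (h.res t ht)
  · obtain ⟨g, hg, rfl⟩ := down x hx
    rw [key _ hg]; exact h.aff g hg
  · obtain ⟨g, hg, rfl⟩ := h.sur m hm
    exact ⟨π g, up g hg, key g hg⟩
  · obtain ⟨g, hg, rfl⟩ := down x hx
    rw [key _ hg] at e
    exact (h.ker g hg e).of_dvd_nat (orderOf_map_dvd π g)

/-- **RQ** -/
theorem rq (hB : Base.{u}) : RqStmt.{u} := fun {G} _ _ _ _ h =>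
  quo hB h _ fun _ ho => (Nat.coprime_two_right.1 (H3.pPrimeCore_coprime 2 G)).of_dvd_nat
    (orderOf_dvd_natCard _ ho)

theorem core_le [Finite G] (hB : Base.{u}) (h : Ki J φ) {R : Subgroup G} [R.Normal]
    (hR : IsPGroup 2 R) : R ≤ im J AA := by
  have K := hB.kit J φ h
  have hS : IsPGroup 2 ↥(R ⊔ im J AA) := hR.to_sup_of_normal_left (twoA hB h)
  have nS : NA J ≤ N[R ⊔ im J AA] := fun g hg =>
    normalizer_inf_normalizer_le_normalizer_sup R _ ⟨by rw [normalizer_eq_top]; trivial, hg⟩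
  have nn : ((R ⊔ im J AA).subgroupOf (NA J)).Normal := normal_subgroupOf_of_le_normalizer nS
  have hH := hB.af.nsub (((R ⊔ im J AA).subgroupOf (NA J)).map (Φ h)) (by
      rintro _ ⟨a, ha, rfl⟩
      exact ⟨⟨J a, K.le a (AA_le_T0 ha)⟩, mem_sup_right (mem_im ha), h.res a (AA_le_T0 ha)⟩)
    (by rintro _ ⟨g, -, rfl⟩; exact h.aff g g.2) (fun m hm => by
      obtain ⟨g, hg, rfl⟩ := h.sur m hm
      exact le_normalizer_map (Φ h) (mem_map_of_mem (Φ h) (x := ⟨g, hg⟩)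
        (by rw [normalizer_eq_top]; trivial)))
  have h2 : IsPGroup 2 (((R ⊔ im J AA).subgroupOf (NA J)).map (Φ h)) := hS.comap_subtype.map _
  rcases hH with e | e
  · refine le_sup_left.trans (hB.gen.grow _ _ hS le_sup_right fun g hg gN => ?_).le
    obtain ⟨a, ha, ea⟩ : φ g ∈ AA.map pm2 := e ▸ ⟨⟨g, gN⟩, hg, rfl⟩
    rw [K.two _ hS g hg gN a (AA_le_T0 ha) (mem_sup_right (mem_im ha)) ea.symm]
    exact mem_im ha
  · rw [e] at h2
    obtain ⟨n, hn⟩ := h2.exists_card_eq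
    rw [hB.af.card] at hn
    have : 3 ∣ 2 ^ n := hn ▸ by norm_num
    exact absurd (Nat.prime_three.dvd_of_dvd_pow this) (by norm_num)

/-- **R2** -/
theorem r2 (hB : Base.{u}) : R2Stmt.{u} := by
  intro G _ _ J φ h hO hR
  have K := hB.kit J φ h
  have emA := h.em.mono AA_le_T0
  have le := core_le hB h (H3.pCore_isPGroup 2 G)
  have eq : im J AA = pCore 2 G := by
    obtain ⟨⟨r, hr⟩, r1⟩ := ne_bot_iff_exists_ne_one.1 hR
    obtain ⟨a, ha, rfl⟩ := emA.mem.1 (le hr)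
    obtain ⟨g, -, e⟩ := K.fus a ha fun e => r1 (Subtype.ext ((congrArg J e).trans emA.one))
    have z : J z2 ∈ pCore 2 G := by
      have := (pCore_normal 2 G).conj_mem _ hr g⁻¹
      rwa [show g⁻¹ * J a * g⁻¹⁻¹ = J z2 from e.symm] at this
    refine le_antisymm (im_le fun b hb => ?_) le
    by_cases b1 : b = 1
    · rw [b1, emA.one]; exact one_mem _
    · obtain ⟨k, -, e⟩ := K.fus b hb b1
      exact (show _ = J b from e) ▸ (pCore_normal 2 G).conj_mem _ z k
  have nA : (im J AA).Normal := eq ▸ pCore_normal 2 G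
  have all : ∀ g, g ∈ NA J := fun g => by rw [NA, normalizer_eq_top]; trivial
  let f : G →* Perm Ω := MonoidHom.mk' φ fun a b => h.mul a (all a) b (all b)
  have inj : Function.Injective f := by
    rw [← MonoidHom.ker_eq_bot_iff, ← le_bot_iff, ← hO]
    refine H3.le_pPrimeCore (Nat.coprime_two_right.2 (Nat.not_even_iff_odd.1 fun ev => ?_))
    obtain ⟨x, hx⟩ := exists_prime_orderOf_dvd_card' 2 (even_iff_two_dvd.1 ev)
    have := h.ker x (all x) x.2
    rw [orderOf_coe, hx] at this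
    exact absurd this (by decide)
  have mA : (im J AA).map f = AA.map pm2 := by
    refine le_antisymm ?_ ?_
    · rintro _ ⟨y, hy, rfl⟩
      obtain ⟨a, ha, rfl⟩ := emA.mem.1 hy
      exact ⟨a, ha, (h.res a (AA_le_T0 ha)).symm⟩
    · rintro _ ⟨a, ha, rfl⟩
      exact ⟨J a, mem_im ha, h.res a (AA_le_T0 ha)⟩
  have rg : f.range = Aff := le_antisymm (by rintro _ ⟨g, rfl⟩; exact h.aff g (all g))
    fun m hm => let ⟨g, _, e⟩ := h.sur m hm; ⟨g, e⟩
  have cm : ∀ x ∈ im J AA, ∀ y ∈ im J AA, x * y = y * x := fun x hx y hy => by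
    obtain ⟨a, ha, rfl⟩ := emA.mem.1 hx
    obtain ⟨b, hb, rfl⟩ := emA.mem.1 hy
    rw [← emA.mul a ha b hb, ← emA.mul b hb a ha, (hB.m2.ab.2.2.1 a ha b hb).eq]
  obtain ⟨L, l1, l2, l3, ⟨l4⟩⟩ := hB.af.cpl
  have mL : (L.comap f).map f = L := map_comap_eq_self (rg ▸ l1)
  refine ⟨im J AA, L.comap f, nA, ⟨⟨⟨fun x y => Subtype.ext (cm _ x.2 _ y.2)⟩⟩, fun x hx => ?_⟩,
    emA.card.trans hB.m1.cAA, le_antisymm (fun g hg => ?_) fun g hg => ?_, ?_, ?_,
    ⟨((equivMapOfInjective _ f inj).trans (MulEquiv.subgroupCongr mL)).trans l4⟩⟩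
  · obtain ⟨a, ha, rfl⟩ := emA.mem.1 hx
    rw [sq, ← emA.mul a ha a ha, hB.m2.ab.2.2.2.2.2.1 a ha, emA.one]
  · obtain ⟨a, ha, k, -, e1, rfl⟩ := K.dec g hg
    rw [inj (e1.trans f.map_one.symm), mul_one]
    exact mem_im ha
  · exact mem_centralizer_iff.2 fun x hx => cm x hx g hg
  · refine map_injective inj ?_
    rw [map_inf _ _ f inj, mA, mL, l2, Subgroup.map_bot]
  · refine map_injective inj ?_
    rw [Subgroup.map_sup, mA, mL, l3, ← MonoidHom.range_eq_map, rg]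

end Cfsg.Agent.H62.KnRq
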