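import Cfsg.Agent.H37.FkKit
import Cfsg.Agent.H3.Cores

/-!
# S5161, piece LXA: conjugates of `z` in `Q` are moved by the elements of odd order of `C(z)`
-/

set_option autoImplicit false

namespace Cfsg.Agent.H62.FkLxa

open Cfsg Subgroup Cfsg.Agent.H37.FK

universe u

variable {K : Type*} [Group K]

theorem comm_of_odd {g a : K} (ho : Odd (orderOf g)) (h : g * (g * a * g⁻¹) * g⁻¹ = a) :
    g * a = a * g := by
  obtain ⟨k, hk⟩ := ho
  have h1 : Commute (g * g) a := by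
    change g * g * a = a * (g * g)
    conv_rhs => rw [← h]
    group
  have h2 : (g * g) ^ (k + 1) = g := by
    rw [← sq, ← pow_mul, mul_add, mul_one, pow_succ, pow_succ, ← pow_succ, ← hk, pow_orderOf_eq_one,
      one_mul]
  exact h2 ▸ (h1.pow_left (k + 1)).eq

/-- An element of odd order acting trivially on `Q / W` with `W` elementary centralises `Q`. -/
theorem core (Q W : Subgroup K) [hQ : Q.Normal] (hW : W ≤ Q) {g : K} (ho : Odd (orderOf g))
    (sq : ∀ x ∈ Q, x * x ∈ center K)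
    (cen : ∀ x ∈ Q, (∀ y ∈ Q, x * y = y * x) → x * x = 1 → x ∈ center K)
    (w2 : ∀ w ∈ W, w * w = 1) (e : ∀ x ∈ Q, x⁻¹ * (g * x * g⁻¹) ∈ W)
    (e' : ∀ x ∈ Q, x⁻¹ * (g⁻¹ * x * g) ∈ W) : ∀ x ∈ Q, g * x = x * g := by
  have wi : ∀ w ∈ W, w⁻¹ = w := fun w hw => inv_eq_of_mul_eq_one_right (w2 w hw)
  have ab : ∀ a ∈ W, ∀ b ∈ W, a * b = b * a := fun a ha b hb => by
    rw [← wi _ (mul_mem ha hb), mul_inv_rev, wi a ha, wi b hb]
  have cm : ∀ a ∈ Q, ∀ b ∈ Q, a * b * a⁻¹ * b⁻¹ ∈ center K := fun a ha b hb => by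
    have h1 : a * b * a⁻¹ * b⁻¹ = a * b * (a * b) * (b⁻¹ * (a * a)⁻¹ * b) * (b * b)⁻¹ := by group
    rw [h1]
    exact mul_mem (mul_mem (sq _ (mul_mem ha hb))
      (Normal.conj_mem' inferInstance _ (inv_mem (sq a ha)) b)) (inv_mem (sq b hb))
  have fin : ∀ x ∈ Q, g * (x⁻¹ * (g * x * g⁻¹)) = x⁻¹ * (g * x * g⁻¹) * g → g * x = x * g :=
    fun x hx h => comm_of_odd ho (by
      have h1 := w2 _ (e x hx)
      have h2 : g * x * g⁻¹ = x * (x⁻¹ * (g * x * g⁻¹)) := by group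
      generalize x⁻¹ * (g * x * g⁻¹) = c at h h1 h2
      rw [h2, ← mul_assoc, ← mul_inv_cancel_right (g * x) g⁻¹, h2, inv_inv, mul_assoc _ g c, h,
        mul_assoc, mul_inv_cancel_right, mul_assoc, h1, mul_one])
  have fw : ∀ a ∈ W, g * a = a * g := fun a ha => by
    refine fin a (hW ha) (mem_center_iff.1 (cen _ (hW (e a (hW ha))) (fun q hq => ?_)
      (w2 _ (e a (hW ha)))) g)
    have h1 := mem_center_iff.1 (cm a (hW ha) _ (hQ.conj_mem' q hq g)) g
    have h2 := ab a ha _ (e' q hq)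
    have h3 : g * a * g⁻¹ * q * (g * a * g⁻¹)⁻¹ = a * q * a⁻¹ := by
      calc g * a * g⁻¹ * q * (g * a * g⁻¹)⁻¹
          = g * (a * (g⁻¹ * q * g) * a⁻¹ * (g⁻¹ * q * g)⁻¹) * g⁻¹ * q := by group
        _ = a * (g⁻¹ * q * g) * a⁻¹ * (g⁻¹ * q * g)⁻¹ * q := by rw [h1, mul_inv_cancel_right]
        _ = a * q * (q⁻¹ * (g⁻¹ * q * g) * a⁻¹ * (q⁻¹ * (g⁻¹ * q * g))⁻¹) * q⁻¹ * q := by group
        _ = a * q * a⁻¹ := by
          rw [wi a ha, ← h2, mul_inv_cancel_right, inv_mul_cancel_right]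
    calc a⁻¹ * (g * a * g⁻¹) * q
        = a⁻¹ * (g * a * g⁻¹ * q * (g * a * g⁻¹)⁻¹) * (g * a * g⁻¹) := by group
      _ = q * (a⁻¹ * (g * a * g⁻¹)) := by rw [h3]; group
  exact fun x hx => fin x hx (fw _ (e x hx))

theorem odd_conj {g : K} (ho : Odd (orderOf g)) (k : K) : Odd (orderOf (k * g * k⁻¹)) := by
  have : orderOf (k * g * k⁻¹) = orderOf g := by simpa using (MulAut.conj k).orderOf_eq g
  rwa [this]

theorem mem_normalizer_O2 [Finite K] {H : Subgroup K} {k : K}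
    (h : ∀ g ∈ H, Odd (orderOf g) → k * g * k⁻¹ ∈ H) : k ∈ normalizer (O2 H : Set K) :=
  mem_normalizer_fintype fun _ hx =>
    (closure_le ((O2 H).comap (MulAut.conj k).toMonoidHom)).2
      (fun g hg => subset_closure ⟨h g hg.1 hg.2, odd_conj hg.2 k⟩) hx

theorem lxa : LxaStmt.{u} := by
  intro K _ _ z Q hQ d hO y _ hzy hne
  by_contra hc
  push Not at hc
  obtain ⟨h, hh⟩ := isConj_iff.1 hzy
  obtain ⟨g, g1, go⟩ := d.odd
  have z2 : ∀ x ∈ zpowers z, x = 1 ∨ x = z := fun x hx => by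
    obtain ⟨n, rfl⟩ := mem_zpowers_iff.1 hx
    rw [← zpow_mod_orderOf, d.ord]
    rcases Int.emod_two_eq_zero_or_one n with e | e <;> simp [e]
  have zc : ∀ x : centralizer ({z} : Set K), (x : K) ∈ zpowers z → x ∈ center _ := fun x hx =>
    mem_center_iff.2 fun c => Subtype.ext <| by
      have := mem_centralizer_singleton_iff.1 c.2
      rcases z2 _ hx with e | e <;> simp [e, this]
  have hOC : O2 (centralizer ({z} : Set K)) ≤ centralizer ({z} : Set K) :=
    (closure_le _).2 fun _ hx => hx.1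
  have hCN : centralizer ({z} : Set K) ≤ normalizer (O2 (centralizer ({z} : Set K)) : Set K) :=
    fun k hk => mem_normalizer_O2 fun x hx _ => mul_mem (mul_mem hk hx) (inv_mem hk)
  have hh' : h⁻¹ ∈ normalizer (O2 (centralizer ({z} : Set K)) : Set K) :=
    mem_normalizer_O2 fun x hx xo => mem_centralizer_singleton_iff.2 <| by
      have := congrArg Subtype.val (hc ⟨x, hx⟩ (by rwa [← orderOf_coe]))
      rw [coe_mul, coe_mul, ← hh] at this
      calc h⁻¹ * x * h⁻¹⁻¹ * z = h⁻¹ * (x * (h * z * h⁻¹)) * h := by group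
        _ = z * (h⁻¹ * x * h⁻¹⁻¹) := by rw [this]; group
  have h1 : Q.map (centralizer ({z} : Set K)).subtype ⊓ O2 (centralizer ({z} : Set K)) ≤
      (pCore 2 (O2 (centralizer ({z} : Set K)))).map (O2 _).subtype :=
    H3.le_map_pCore ((d.two.map _).to_inf_left) inf_le_right fun k hk =>
      mem_normalizer_fintype fun x ⟨⟨q, hq, e⟩, hx⟩ =>
        ⟨⟨_, hQ.conj_mem q hq ⟨k, hOC hk⟩, by rw [← e]; rfl⟩,
          Subgroup.mul_mem _ (Subgroup.mul_mem _ hk hx) (Subgroup.inv_mem _ hk)⟩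
  have h2 := (H3.le_map_pCore (H3.map_pCore_isPGroup (p := 2) _) ((map_subtype_le _).trans hOC)
    (hCN.trans (H3.normalizer_le_normalizer_map_pCore _))).trans (map_mono hO)
  have od : ∀ g : centralizer ({z} : Set K), Odd (orderOf g) → ∀ x ∈ Q, x⁻¹ * (g * x * g⁻¹) ∈
      Q ⊓ (O2 (centralizer ({z} : Set K))).subgroupOf _ := fun g go x hx => by
    have k : ∀ c : centralizer ({z} : Set K), Odd (orderOf c) →
        c ∈ (O2 (centralizer ({z} : Set K))).subgroupOf _ := fun c hc =>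
      mem_subgroupOf.2 (subset_closure ⟨c.2, by rwa [orderOf_coe]⟩)
    refine mem_inf.2 ⟨mul_mem (inv_mem hx) (hQ.conj_mem x hx g), ?_⟩
    rw [show x⁻¹ * (g * x * g⁻¹) = x⁻¹ * g * x⁻¹⁻¹ * g⁻¹ by group]
    exact mul_mem (k _ (odd_conj go _)) (inv_mem (k g go))
  have key := core Q _ inf_le_left go (fun x hx => zc _ (d.sq x hx))
    (fun x hx k k' => zc _ (d.cen x hx k k')) (fun w hw => ?_) (od g go)
    fun x hx => by simpa using od g⁻¹ (by rwa [orderOf_inv]) x hx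
  · exact g1 ((Two.of_mem d.two (d.self fun x hx => (key x hx).symm)).eq_one go)
  · obtain ⟨q, hq, e⟩ := h2 ((mem_normalizer_iff.1
      (H3.normalizer_le_normalizer_map_pCore (p := 2) _ hh') w).1 (h1 ⟨⟨w, hw.1, rfl⟩, hw.2⟩))
    rcases z2 _ (d.sq w hw.1) with k | k
    · exact Subtype.ext k
    have k2 : ((q * q : centralizer ({z} : Set K)) : K) = h⁻¹ * z * h := by
      refine Eq.trans ?_ (congrArg (h⁻¹ * · * h) k)
      rw [coe_mul, coe_mul, show (q : K) = _ from e]; group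
    rcases z2 _ (d.sq q hq) with k3 | k3
    · have : z = 1 := by simpa [mul_assoc] using congrArg (h * · * h⁻¹) (k2.symm.trans k3)
      exact absurd d.ord (by simp [this])
    · refine absurd ?_ hne
      exact hh.symm.trans ((congrArg (h * · * h⁻¹) (k3.symm.trans k2)).trans (by group))

end Cfsg.Agent.H62.FkLxa
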