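import Mathlib
import Cfsg.Agent.H62.PermBasic

set_option autoImplicit false

namespace Cfsg.Agent.H62

open MulAction

theorem normalCore_index_dvd_factorial {H : Type*} [Group H] [Finite H] (K : Subgroup H) :
    K.normalCore.index ∣ (K.index).factorial := by
  classical
  haveI : Fintype (H ⧸ K) := Fintype.ofFinite _
  rw [Subgroup.normalCore_eq_ker, Subgroup.index_ker]
  have h := Subgroup.card_subgroup_dvd_card (MulAction.toPermHom H (H ⧸ K)).range
  rw [Nat.card_perm] at h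
  exact h

theorem normalCore_relIndex_dvd_factorial {H : Type*} [Group H] [Finite H] (K : Subgroup H) :
    K.normalCore.relIndex K ∣ (K.index - 1).factorial := by
  have h1 := normalCore_index_dvd_factorial K
  rw [← Subgroup.relIndex_mul_index K.normalCore_le] at h1
  have hpos : 0 < K.index := Nat.pos_of_ne_zero Subgroup.index_ne_zero_of_finite
  rw [← Nat.mul_factorial_pred hpos.ne', mul_comm (K.index)] at h1
  exact Nat.dvd_of_mul_dvd_mul_right hpos h1

/-- Index of the "second core". -/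
theorem second_core_index_dvd {H : Type*} [Group H] [Finite H] (K N : Subgroup H)
    (hKN : K ≤ Subgroup.normalizer (N : Set H)) :
    (K.normalCore ⊓ N).normalCore.index ∣ (K.index).factorial * (N.relIndex K) ^ K.index := by
  classical
  haveI : Fintype (H ⧸ K) := Fintype.ofFinite _
  haveI hN : (N.subgroupOf K).Normal := Subgroup.normal_subgroupOf_of_le_normalizer hKN
  set C := K.normalCore with hC
  have hmem : ∀ (x : H ⧸ K) (c : C), (x.out)⁻¹ * (c : H) * x.out ∈ K := by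
    intro x c
    have := c.2 (x.out)⁻¹
    simpa using this
  let ψ : (H ⧸ K) → (C →* K) := fun x =>
    { toFun := fun c => ⟨(x.out)⁻¹ * (c : H) * x.out, hmem x c⟩
      map_one' := by ext; simp
      map_mul' := by intro c c'; ext; simp [mul_assoc] }
  let φ : C →* ((H ⧸ K) → K ⧸ N.subgroupOf K) :=
    MonoidHom.pi fun x => (QuotientGroup.mk' (N.subgroupOf K)).comp (ψ x)
  have hker : φ.ker ≤ (C ⊓ N).normalCore.subgroupOf C := by
    intro c hc
    rw [Subgroup.mem_subgroupOf]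
    intro m
    refine ⟨(inferInstance : C.Normal).conj_mem _ c.2 m, ?_⟩
    have h1 := congrFun (MonoidHom.mem_ker.1 hc) ((m⁻¹ : H) : H ⧸ K)
    have h2 : ψ ((m⁻¹ : H) : H ⧸ K) c ∈ N.subgroupOf K := by
      rw [← QuotientGroup.eq_one_iff]
      exact h1
    rw [Subgroup.mem_subgroupOf] at h2
    obtain ⟨k, hk⟩ := QuotientGroup.mk_out_eq_mul K m⁻¹
    have h3 : (((m⁻¹ : H) : H ⧸ K).out)⁻¹ * (c : H) * ((m⁻¹ : H) : H ⧸ K).out ∈ N := h2
    rw [hk] at h3
    have h4 := (Subgroup.mem_normalizer_iff.1 (hKN k.2) _).1 h3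
    have h5 : (k : H) * ((m⁻¹ * k)⁻¹ * (c : H) * (m⁻¹ * k)) * (k : H)⁻¹ = m * c * m⁻¹ := by group
    rw [h5] at h4
    exact h4
  have hle : (C ⊓ N).normalCore ≤ C := (Subgroup.normalCore_le _).trans inf_le_left
  rw [← Subgroup.relIndex_mul_index hle, mul_comm]
  refine Nat.mul_dvd_mul (normalCore_index_dvd_factorial K) ?_
  have h6 : ((C ⊓ N).normalCore.subgroupOf C).index ∣ φ.ker.index := Subgroup.index_dvd_of_le hker
  refine h6.trans ?_
  rw [Subgroup.index_ker]
  have h7 := Subgroup.card_subgroup_dvd_card φ.range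
  rw [Nat.card_fun] at h7
  exact h7

/-- the core in `M` of a subgroup `Y` -/
def coreIn {G : Type*} [Group G] (M Y : Subgroup G) : Subgroup G :=
  (Y.subgroupOf M).normalCore.map M.subtype

theorem mem_coreIn {G : Type*} [Group G] {M Y : Subgroup G} {x : G} :
    x ∈ coreIn M Y ↔ x ∈ M ∧ ∀ m ∈ M, m * x * m⁻¹ ∈ Y := by
  constructor
  · rintro ⟨y, hy, rfl⟩
    exact ⟨y.2, fun m hm => hy ⟨m, hm⟩⟩
  · rintro ⟨hx, h⟩
    exact ⟨⟨x, hx⟩, fun m => h m m.2, rfl⟩

theorem coreIn_le_left {G : Type*} [Group G] (M Y : Subgroup G) : coreIn M Y ≤ M :=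
  fun _ hx => (mem_coreIn.1 hx).1

theorem coreIn_le_right {G : Type*} [Group G] (M Y : Subgroup G) : coreIn M Y ≤ Y :=
  fun x hx => by simpa using (mem_coreIn.1 hx).2 1 M.one_mem

theorem coreIn_subgroupOf {G : Type*} [Group G] (M Y : Subgroup G) :
    (coreIn M Y).subgroupOf M = (Y.subgroupOf M).normalCore := by
  ext x
  rw [Subgroup.mem_subgroupOf, mem_coreIn]
  exact ⟨fun h m => h.2 m m.2, fun h => ⟨x.2, fun m hm => h ⟨m, hm⟩⟩⟩

theorem conj_mem_coreIn {G : Type*} [Group G] {M Y : Subgroup G} {x m : G} (hx : x ∈ coreIn M Y)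
    (hm : m ∈ M) : m * x * m⁻¹ ∈ coreIn M Y := by
  rw [mem_coreIn] at hx ⊢
  refine ⟨M.mul_mem (M.mul_mem hm hx.1) (M.inv_mem hm), fun m' hm' => ?_⟩
  have := hx.2 (m' * m) (M.mul_mem hm' hm)
  simpa [mul_assoc] using this

theorem le_normalizer_coreIn {G : Type*} [Group G] (M Y : Subgroup G) :
    M ≤ Subgroup.normalizer (coreIn M Y : Set G) := by
  intro m hm
  rw [Subgroup.mem_normalizer_iff]
  intro x
  refine ⟨fun hx => conj_mem_coreIn hx hm, fun hx => ?_⟩
  have := conj_mem_coreIn hx (M.inv_mem hm)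
  simpa [mul_assoc] using this

theorem le_coreIn {G : Type*} [Group G] {M Y X : Subgroup G} (h1 : X ≤ M) (h2 : X ≤ Y)
    (h3 : M ≤ Subgroup.normalizer (X : Set G)) : X ≤ coreIn M Y := by
  intro x hx
  rw [mem_coreIn]
  exact ⟨h1 hx, fun m hm => h2 ((Subgroup.mem_normalizer_iff.1 (h3 hm) x).1 hx)⟩

theorem coreIn_relIndex_dvd {G : Type*} [Group G] [Finite G] (M Y : Subgroup G) :
    (coreIn M Y).relIndex M ∣ (Y.relIndex M).factorial := by
  rw [Subgroup.relIndex, coreIn_subgroupOf]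
  exact normalCore_index_dvd_factorial _

theorem coreIn_relIndex_dvd' {G : Type*} [Group G] [Finite G] (M Y : Subgroup G) (hY : Y ≤ M) :
    (coreIn M Y).relIndex Y ∣ (Y.relIndex M - 1).factorial := by
  have h := normalCore_relIndex_dvd_factorial (Y.subgroupOf M)
  rw [← coreIn_subgroupOf, Subgroup.relIndex_subgroupOf hY] at h
  exact h

/-- Wielandt's index bound for the second core. -/
theorem second_coreIn_relIndex_dvd {G : Type*} [Group G] [Finite G] (M₁ M₂ : Subgroup G) (d : ℕ)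
    (h1 : (M₁ ⊓ M₂).relIndex M₁ = d) (h2 : (M₁ ⊓ M₂).relIndex M₂ = d) :
    (coreIn M₁ (coreIn M₁ (M₁ ⊓ M₂) ⊓ coreIn M₂ (M₁ ⊓ M₂))).relIndex M₁ ∣
      d.factorial * (d - 1).factorial ^ d := by
  have hn : (M₁ ⊓ M₂).subgroupOf M₁ ≤
      Subgroup.normalizer ((coreIn M₂ (M₁ ⊓ M₂)).subgroupOf M₁ : Set M₁) := by
    intro k hk
    rw [Subgroup.mem_normalizer_iff]
    intro x
    have := Subgroup.mem_normalizer_iff.1 (le_normalizer_coreIn M₂ (M₁ ⊓ M₂) hk.2) x
    simpa [Subgroup.mem_subgroupOf] using this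
  have h := second_core_index_dvd _ _ hn
  rw [Subgroup.relIndex_subgroupOf inf_le_left] at h
  have h3 : ((M₁ ⊓ M₂).subgroupOf M₁).index = d := h1
  rw [h3, ← coreIn_subgroupOf] at h
  rw [Subgroup.relIndex, coreIn_subgroupOf]
  have h4 := coreIn_relIndex_dvd' M₂ (M₁ ⊓ M₂) inf_le_right
  rw [h2] at h4
  refine (h.trans (Nat.mul_dvd_mul_left _ (pow_dvd_pow_of_dvd h4 d)))

/-- The pair of iterated core sequences. -/
def coreSeq {G : Type*} [Group G] (M₁ M₂ : Subgroup G) : ℕ → Subgroup G × Subgroup G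
  | 0 => (M₁, M₂)
  | n + 1 => (coreIn M₁ ((coreSeq M₁ M₂ n).1 ⊓ (coreSeq M₁ M₂ n).2),
      coreIn M₂ ((coreSeq M₁ M₂ n).1 ⊓ (coreSeq M₁ M₂ n).2))

theorem relIndex_inf_stabilizer {G Ω : Type*} [Group G] [MulAction G Ω] (a b : Ω) :
    (stabilizer G a ⊓ stabilizer G b).relIndex (stabilizer G a) =
      Nat.card (orbit (stabilizer G a) b) := by
  rw [card_orbit_subgroup_eq_relIndex, Subgroup.inf_relIndex_left]

theorem relIndex_inf_stabilizer' {G Ω : Type*} [Group G] [Finite G] [MulAction G Ω]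
    [IsPretransitive G Ω] (a b : Ω) :
    (stabilizer G a ⊓ stabilizer G b).relIndex (stabilizer G b) =
      Nat.card (orbit (stabilizer G a) b) := by
  rw [← relIndex_inf_stabilizer]
  have h1 := Subgroup.relIndex_mul_index (inf_le_left : stabilizer G a ⊓ stabilizer G b ≤ _)
  have h2 := Subgroup.relIndex_mul_index (inf_le_right : stabilizer G a ⊓ stabilizer G b ≤ _)
  rw [index_stabilizer_of_transitive] at h1 h2
  have h3 : Nat.card Ω ≠ 0 := by
    rw [← index_stabilizer_of_transitive G a]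
    exact Subgroup.index_ne_zero_of_finite
  exact Nat.eq_of_mul_eq_mul_right (Nat.pos_of_ne_zero h3) (h2.trans h1.symm)

theorem stabilizer_ne_of_two_le {G Ω : Type*} [Group G] [MulAction G Ω] (a b : Ω)
    (h : 2 ≤ Nat.card (orbit (stabilizer G a) b)) : stabilizer G a ≠ stabilizer G b := by
  intro he
  rw [← relIndex_inf_stabilizer, ← he, inf_idem, Subgroup.relIndex_self] at h
  omega

theorem stabilizer_normalCore_eq_bot {G Ω : Type*} [Group G] [MulAction G Ω] [FaithfulSMul G Ω]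
    [IsPretransitive G Ω] (a : Ω) : (stabilizer G a).normalCore = ⊥ :=
  normal_eq_bot_of_le_stabilizer _ inferInstance a (Subgroup.normalCore_le _)

end Cfsg.Agent.H62
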