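import Cfsg.Agent.H42.HtDefs
import Cfsg.Agent.S2072
import Cfsg.Agent.S2601

/-!
# Outer automorphisms of `HS` and `L₄(4)`; the two classes of involutions of `HS`
-/

set_option autoImplicit false

namespace Cfsg.Agent.H62.HtOut

open Cfsg Cfsg.Agent.H63 Subgroup Cfsg.Agent.H42.HT
open Cfsg.Agent.H68.HN (K K1 eU eT πHS πHS_surj ker_πHS ker_πHS_eq eU_eq eU_K1 cU)
open Cfsg.Agent.H48.HS (U2 hY root_class1 inn_class)
open scoped commutatorElement

universe u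

theorem to_out {G : Type u} [Group G] {N : Subgroup G} [N.Normal] (hc : C[N] = ⊥) {H : Type}
    [Group H] (e : N ≃* H) : ∃ φ : G →* MulAut H, ∀ g, φ g ∈ Inn H ↔ g ∈ N := by
  let φ : G →* MulAut H := (MulAut.congr e).toMonoidHom.comp MulAut.conjNormal
  have hφ : ∀ g h, φ g h = e (MulAut.conjNormal g (e.symm h)) := fun g h => rfl
  have inj : Function.Injective φ := (injective_iff_map_eq_one φ).2 fun g hg => by
    have h1 : MulAut.conjNormal (H := N) g = 1 :=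
      (MulAut.congr e).injective (hg.trans (map_one _).symm)
    refine mem_bot.1 (hc.le (mem_centralizer_iff.2 fun k hk => ?_))
    have := congrArg (fun ψ : MulAut N => ((ψ ⟨k, hk⟩ : N) : G)) h1
    exact (mul_inv_eq_iff_eq_mul.1 this).symm
  have hin : ∀ h : H, φ (e.symm h) = MulAut.conj h := fun h => MulEquiv.ext fun x => by
    rw [hφ, MulAut.conjNormal_val, MulAut.conj_apply, map_mul, map_mul, map_inv,
      e.apply_symm_apply, e.apply_symm_apply, MulAut.conj_apply]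
  refine ⟨φ, fun g => ⟨fun ⟨h, hh⟩ => ?_, fun hg => ⟨e ⟨g, hg⟩, ?_⟩⟩⟩
  · rw [inj (hh.symm.trans (hin h).symm)]; exact (e.symm h).2
  · rw [← hin, e.symm_apply_apply]

theorem pi_U2 {a : K1} (h : U2 a) : πHS a = 1 :=
  ker_πHS_eq.ge (mem_center_iff.2 fun b => Subtype.ext (h.comm b).symm)

theorem cl {y : K} {a : K1} (h : ∃ m ∈ K1, m * a * m⁻¹ = y ∨ m * a * m⁻¹ = eU * y) :
    ∃ hy : y ∈ K1, IsConj (πHS a) (πHS ⟨y, hy⟩) := by
  obtain ⟨m, hm, e⟩ := h
  have h1 : m * a * m⁻¹ ∈ K1 := mul_mem (mul_mem hm a.2) (inv_mem hm)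
  have h2 : IsConj (πHS a) (πHS ⟨_, h1⟩) :=
    πHS.map_isConj (isConj_iff.2 ⟨⟨m, hm⟩, rfl⟩)
  rcases e with e | e
  · subst e; exact ⟨h1, h2⟩
  · have hy : y ∈ K1 := (K1.mul_mem_cancel_left eU_K1).1 (e ▸ h1)
    refine ⟨hy, ?_⟩
    rwa [show (⟨_, h1⟩ : K1) = ⟨eU, eU_K1⟩ * ⟨y, hy⟩ from Subtype.ext e, map_mul,
      pi_U2 (a := ⟨eU, eU_K1⟩) U2.u, one_mul] at h2

theorem two_cl {x : Spor.HS} (hx : orderOf x = 2) :
    (∃ h : eT ∈ K1, IsConj x (πHS ⟨eT, h⟩)) ∨ ∃ h : hY ∈ K1, IsConj x (πHS ⟨hY, h⟩) := by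
  obtain ⟨a, rfl⟩ := πHS_surj x
  have h2 : πHS (a * a) = 1 := by rw [map_mul, ← sq, ← hx, pow_orderOf_eq_one]
  rcases ker_πHS h2 with e | e
  · refine Or.inl (cl (inn_class a.2 e fun u => ?_))
    rw [pi_U2 u, orderOf_one] at hx
    exact absurd hx (by decide)
  · exact Or.inr (cl (root_class1 (e.trans eU_eq.symm)))

/-- **OUT** -/
theorem out : OutStmt.{u} := by
  refine ⟨fun Y n hc => ⟨fun ⟨e⟩ a b ha hb => ?_, fun ⟨F, _, _, hF, ⟨e⟩⟩ a b => ?_⟩,
    fun ⟨e⟩ a b c ha hb hc => ?_⟩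
  · obtain ⟨φ, h⟩ := to_out hc e
    rw [← h, map_mul]
    exact (mul_mem_iff_of_index_two (H := Inn Spor.HS) S2072.result).2
      (iff_of_false (mt (h a).1 ha) (mt (h b).1 hb))
  · obtain ⟨φ, h⟩ := to_out hc e
    obtain ⟨χ, -, -, h3⟩ := S2601.result (F := F) (p := 2) (f := 2) (n := 4) (by norm_num)
      (by rw [hF]; norm_num) (by norm_num)
    have inj : Function.Injective χ := (MonoidHom.ker_eq_bot_iff χ).1 (card_eq_one.1 h3)
    rw [← h, ← QuotientGroup.eq_one_iff]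
    refine inj ?_
    rw [map_one, ← QuotientGroup.mk'_apply, map_commutatorElement, map_commutatorElement,
      map_commutatorElement]
    exact commutatorElement_eq_one_iff_mul_comm.2 (mul_comm _ _)
  · have k : ∀ {x y z}, IsConj (e x) z → IsConj (e y) z → IsConj x y := fun h h' => by
      simpa using e.symm.toMonoidHom.map_isConj (h.trans h'.symm)
    rcases two_cl ((e.orderOf_eq a).trans ha) with ⟨_, p⟩ | ⟨_, p⟩ <;>
      rcases two_cl ((e.orderOf_eq b).trans hb) with ⟨_, q⟩ | ⟨_, q⟩ <;>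
      rcases two_cl ((e.orderOf_eq c).trans hc) with ⟨_, r⟩ | ⟨_, r⟩
    exacts [.inl (k p q), .inl (k p q), .inr (.inl (k p r)), .inr (.inr (k q r)),
      .inr (.inr (k q r)), .inr (.inl (k p r)), .inl (k p q), .inl (k p q)]

end Cfsg.Agent.H62.HtOut
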