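import Mathlib
import Cfsg.Agent.H9.C3Defs

/-!
The groups `PSp₄(q)`, `L₄(q)`, `L₅(q)` with `q` odd contain an element of order 12.
-/

set_option autoImplicit false

namespace Cfsg.Agent.H62.C3F4

open Subgroup Cfsg.Agent.H9.C3

universe u

theorem key {G : Type u} {H : Type} [Group G] [Group H] (hO : H9.C3.Ord G)
    (e : G ≃* H ⧸ center H) (x y : H) (h12 : x ^ 12 = 1) (h4 : x ^ 4 * y ≠ y * x ^ 4)
    (h6 : x ^ 6 * y ≠ y * x ^ 6) : False := by
  set g : G := e.symm (QuotientGroup.mk x) with hg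
  have hp : ∀ k : ℕ, g ^ k = 1 ↔ x ^ k ∈ center H := by
    intro k
    rw [hg, ← map_pow, EmbeddingLike.map_eq_one_iff, ← QuotientGroup.mk_pow,
      QuotientGroup.eq_one_iff]
  have h1 : orderOf g ∣ 12 := orderOf_dvd_of_pow_eq_one ((hp 12).2 (h12 ▸ one_mem _))
  have h2 : ¬ orderOf g ∣ 4 := fun h =>
    h4 ((mem_center_iff.1 ((hp 4).1 (orderOf_dvd_iff_pow_eq_one.1 h)) y).symm)
  have h3 : ¬ orderOf g ∣ 6 := fun h =>
    h6 ((mem_center_iff.1 ((hp 6).1 (orderOf_dvd_iff_pow_eq_one.1 h)) y).symm)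
  have h5 : 3 ∣ orderOf g := by
    have := Nat.le_of_dvd (by norm_num) h1
    generalize orderOf g = n at *
    interval_cases n <;> simp_all
  rcases hO.o6 g h5 with h | h <;> rw [h] at h3 <;> exact h3 (by norm_num)

theorem key2 {G : Type u} {H : Type} [Group G] [Group H] (hO : H9.C3.Ord G)
    (e : G ≃* H ⧸ center H) {n F : Type} [Fintype n] [DecidableEq n] [Field F]
    (h2 : (2 : F) ≠ 0) (ι : H →* Matrix n n F) (hι : Function.Injective ι)
    (X X2 X4 X6 Y : Matrix n n ℤ) (x y : H) (hx : ι x = (Int.castRingHom F).mapMatrix X)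
    (hy : ι y = (Int.castRingHom F).mapMatrix Y) (e2 : X * X = X2) (e4 : X2 * X2 = X4)
    (e6 : X4 * X2 = X6) (e12 : X6 * X6 = 1) (i j i' j' : n)
    (d4 : (X4 * Y) i j = (Y * X4) i j + 1) (d6 : (X6 * Y) i' j' = (Y * X6) i' j' + 2) :
    False := by
  have p4 : X ^ 4 = X4 := by rw [← e4, ← e2]; noncomm_ring
  have p6 : X ^ 6 = X6 := by rw [← e6, ← e4, ← e2]; noncomm_ring
  have p12 : X ^ 12 = 1 := by rw [← e12, ← p6, ← pow_add]
  refine key hO e x y (hι ?_) (fun h => ?_) (fun h => ?_)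
  · rw [map_pow, hx, ← map_pow, p12, map_one, map_one]
  · have := congrArg ι h
    rw [map_mul, map_mul, map_pow, hx, hy, ← map_pow, p4, ← map_mul, ← map_mul] at this
    have := congrFun (congrFun this i) j
    simp only [RingHom.mapMatrix_apply, Matrix.map_apply, d4, map_add, map_one] at this
    simp at this
  · have := congrArg ι h
    rw [map_mul, map_mul, map_pow, hx, hy, ← map_pow, p6, ← map_mul, ← map_mul] at this
    have := congrFun (congrFun this i') j'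
    simp only [RingHom.mapMatrix_apply, Matrix.map_apply, d6, map_add] at this
    apply h2
    simpa using this

theorem two_ne {F : Type} [Field F] [Fintype F] (h : Odd (Fintype.card F)) : (2 : F) ≠ 0 := by
  intro h2
  obtain ⟨k, hk⟩ := h
  have := FiniteField.cast_card_eq_zero F
  rw [hk] at this
  push_cast at this
  rw [h2] at this
  simp at this

theorem det_map {n F : Type} [Fintype n] [DecidableEq n] [Field F] (X : Matrix n n ℤ)
    (h : X.det = 1) : ((Int.castRingHom F).mapMatrix X).det = 1 := by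
  rw [← RingHom.map_det, h, map_one]

theorem sp_map {F : Type} [Field F] (X : Matrix (Fin 2 ⊕ Fin 2) (Fin 2 ⊕ Fin 2) ℤ)
    (h : X * Matrix.J (Fin 2) ℤ * X.transpose = Matrix.J (Fin 2) ℤ) :
    (Int.castRingHom F).mapMatrix X ∈ Matrix.symplecticGroup (Fin 2) F := by
  have hJ : (Int.castRingHom F).mapMatrix (Matrix.J (Fin 2) ℤ) = Matrix.J (Fin 2) F := by
    ext i j
    rcases i with i | i <;> rcases j with j | j <;> fin_cases i <;> fin_cases j <;>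
      simp [Matrix.J]
  rw [SymplecticGroup.mem_iff, ← hJ]
  conv_rhs => rw [← h]
  rw [map_mul, map_mul]
  rfl

theorem sl_inj (n : ℕ) (F : Type) [Field F] : Function.Injective (Cfsg.slToMat n F) :=
  fun _ _ h => Subtype.ext h

theorem f4 : F4Stmt.{u} := by
  intro G _ _ hO F _ _ hq
  have h2 := two_ne hq
  refine ⟨?_, ?_, ?_⟩ <;> rintro ⟨e⟩
  · refine key2 hO e h2 (Matrix.symplecticGroup (Fin 2) F).subtype Subtype.val_injective
      (Matrix.fromBlocks 0 !![-1, 0; 0, -1] !![1, 0; 0, 1] !![-1, 0; 0, 0])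
      (Matrix.fromBlocks !![-1, 0; 0, -1] !![1, 0; 0, 0] !![-1, 0; 0, 0] !![0, 0; 0, -1])
      (Matrix.fromBlocks !![0, 0; 0, 1] !![-1, 0; 0, 0] !![1, 0; 0, 0] !![-1, 0; 0, 1])
      (Matrix.fromBlocks !![1, 0; 0, -1] 0 0 !![1, 0; 0, -1])
      (Matrix.fromBlocks !![0, 1; 1, 0] 0 0 !![0, 1; 1, 0])
      ⟨_, sp_map _ (by decide)⟩ ⟨_, sp_map _ (by decide)⟩ rfl rfl (by decide) (by decide)
      (by decide) (by decide) (.inl 1) (.inl 0) (.inl 0) (.inl 1) (by decide) (by decide)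
  · refine key2 hO e h2 (Cfsg.slToMat 4 F) (sl_inj 4 F)
      !![0, -1, 0, 0; 1, -1, 0, 0; 0, 0, 0, -1; 0, 0, 1, 0]
      !![-1, 1, 0, 0; -1, 0, 0, 0; 0, 0, -1, 0; 0, 0, 0, -1]
      !![0, -1, 0, 0; 1, -1, 0, 0; 0, 0, 1, 0; 0, 0, 0, 1]
      !![1, 0, 0, 0; 0, 1, 0, 0; 0, 0, -1, 0; 0, 0, 0, -1]
      !![0, 0, 1, 0; 0, 0, 0, 1; 1, 0, 0, 0; 0, 1, 0, 0]
      ⟨_, det_map _ ?_⟩ ⟨_, det_map _ ?_⟩ rfl rfl (by decide) (by decide)
      (by decide) (by decide) 2 0 0 2 (by decide) (by decide) <;>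
    simp [Matrix.det_succ_row_zero, Fin.sum_univ_succ, Fin.succAbove]
  · refine key2 hO e h2 (Cfsg.slToMat 5 F) (sl_inj 5 F)
      !![0, -1, 0, 0, 0; 1, -1, 0, 0, 0; 0, 0, 0, -1, 0; 0, 0, 1, 0, 0; 0, 0, 0, 0, 1]
      !![-1, 1, 0, 0, 0; -1, 0, 0, 0, 0; 0, 0, -1, 0, 0; 0, 0, 0, -1, 0; 0, 0, 0, 0, 1]
      !![0, -1, 0, 0, 0; 1, -1, 0, 0, 0; 0, 0, 1, 0, 0; 0, 0, 0, 1, 0; 0, 0, 0, 0, 1]
      !![1, 0, 0, 0, 0; 0, 1, 0, 0, 0; 0, 0, -1, 0, 0; 0, 0, 0, -1, 0; 0, 0, 0, 0, 1]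
      !![0, 0, 1, 0, 0; 0, 0, 0, 1, 0; 1, 0, 0, 0, 0; 0, 1, 0, 0, 0; 0, 0, 0, 0, 1]
      ⟨_, det_map _ ?_⟩ ⟨_, det_map _ ?_⟩ rfl rfl (by decide) (by decide)
      (by decide) (by decide) 2 0 0 2 (by decide) (by decide) <;>
    simp [Matrix.det_succ_row_zero, Fin.sum_univ_succ, Fin.succAbove]

end Cfsg.Agent.H62.C3F4
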