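import Mathlib
import Cfsg.Agent.H46.SDefs
import Cfsg.Agent.H90.Cocycle

/-! A transfer argument with an involution acting on the cosets. -/

set_option autoImplicit false

namespace Cfsg.Agent.H62.S95T

open Subgroup MulAction Cfsg.Agent.H46.S95
open scoped commutatorElement

universe u

/-- The transfer of an involution when an automorphism pairs the fixed cosets. -/
theorem transfer_pair {F A : Type*} [Group F] [Finite F] [CommGroup A] {K : Subgroup F}
    (ψ : K →* A) (τ : F →* F) (ττ : ∀ x, τ (τ x) = x) (hK : ∀ x ∈ K, τ x ∈ K)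
    (fx : ∀ g, g⁻¹ * τ g ∈ K → g ∈ K) {y : F} (hy : y ∈ K) (yy : y * y = 1) (τy : τ y = y)
    (hv : ∀ (g : F) (h : g⁻¹ * y * g ∈ K), ψ ⟨_, h⟩ = ψ ⟨_, hK _ h⟩) :
    ψ.transfer y = ψ ⟨y, hy⟩ := by
  classical
  letI : Fintype (F ⧸ K) := K.fintypeQuotientOfFiniteIndex
  have hfix : ∀ g : F, y • (g : F ⧸ K) = g ↔ g⁻¹ * y * g ∈ K := fun g => by
    rw [Quotient.smul_mk, eq_comm, QuotientGroup.eq, smul_eq_mul, ← mul_assoc]
  let s : F ⧸ K → F ⧸ K := Quotient.map' τ fun a b h => by
    rw [QuotientGroup.leftRel_apply] at h ⊢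
    simpa using hK _ h
  have hs : ∀ g : F, s (g : F ⧸ K) = (τ g : F) := fun _ => rfl
  have e : ∀ g : F, (τ g)⁻¹ * y * τ g = τ (g⁻¹ * y * g) := fun g => by
    rw [map_mul, map_mul, map_inv, τy]
  have sf : ∀ q : F ⧸ K, y • q = q → y • s q = s q := fun q h => by
    induction q using QuotientGroup.induction_on with
    | H g => rw [hs, hfix, e]; exact hK _ ((hfix g).1 h)
  have ss : ∀ q : F ⧸ K, s (s q) = q := fun q => by
    induction q using QuotientGroup.induction_on with
    | H g => rw [hs, hs, ττ]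
  have y1 : y • ((1 : F) : F ⧸ K) = (1 : F) := (hfix 1).2 (by simpa using hy)
  have yq : ∀ q : F ⧸ K, y • y • q = q := fun q => by rw [smul_smul, yy, one_smul]
  rw [H90.transfer_eq_prod_trCoc, ← Finset.mul_prod_erase _ _ (Finset.mem_univ ((1 : F) : F ⧸ K)),
    H90.trCoc_of_fixed ψ (g := y) (t := 1) (by simpa using hy)]
  have : ∏ q ∈ Finset.univ.erase ((1 : F) : F ⧸ K), H90.trCoc ψ y q = 1 := by
    refine Finset.prod_involution (fun q _ => if y • q = q then s q else y • q) (fun q _ => ?_)
      (fun q hq _ => ?_) (fun q hq => ?_) (fun q _ => ?_)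
    · split_ifs with h
      · induction q using QuotientGroup.induction_on with
        | H g =>
          have h1 := (hfix g).1 h
          have h2 : (τ g)⁻¹ * y * τ g ∈ K := by rw [e]; exact hK _ h1
          rw [hs, H90.trCoc_of_fixed ψ h1, H90.trCoc_of_fixed ψ h2,
            show (⟨_, h2⟩ : K) = ⟨_, hK _ h1⟩ from Subtype.ext (e g), ← hv g h1, ← map_mul,
            ← map_one ψ]
          refine congrArg ψ (Subtype.ext ?_)
          show g⁻¹ * y * g * (g⁻¹ * y * g) = 1
          calc _ = g⁻¹ * (y * y) * g := by group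
            _ = 1 := by rw [yy]; group
      · rw [mul_comm, ← H90.isCoc_trCoc ψ y y q, yy]
        induction q using QuotientGroup.induction_on with
        | H g =>
          rw [H90.trCoc_of_fixed ψ (g := 1) (t := g) (by simp)]
          simp only [mul_one, inv_mul_cancel]
          exact map_one ψ
    · split_ifs with h
      · induction q using QuotientGroup.induction_on with
        | H g =>
          intro h1
          rw [hs, eq_comm, QuotientGroup.eq] at h1
          exact (Finset.mem_erase.1 hq).1 (QuotientGroup.eq.2 (by simpa using fx g h1))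
      · exact h
    · refine Finset.mem_erase.2 ⟨fun h1 => (Finset.mem_erase.1 hq).1 ?_, Finset.mem_univ _⟩
      split_ifs at h1 with h
      · rw [← ss q, h1, hs, map_one]
      · rw [← yq q, h1, y1]
    · by_cases h : y • q = q
      · simp only [if_pos h, if_pos (sf q h), ss]
      · have h1 : ¬ y • y • q = y • q := fun h1 => h (h1.symm.trans (yq q))
        rw [if_neg h, if_neg h1, yq]
  rw [this, mul_one]
  simp

theorem tt : TTStmt.{u} := by
  intro G _ _ F H t y Q _ π hF hp tt tH hH hy yy yt hπ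
  have ti : t⁻¹ = t := inv_eq_of_mul_eq_one_right tt
  let K : Subgroup F := (H ⊓ F).subgroupOf F
  let ψ : K →* Q := π.comp (subgroupOfEquivOfLe (inf_le_right : H ⊓ F ≤ F)).toMonoidHom
  let τ : F →* F := (MulAut.conjNormal t : MulAut F).toMonoidHom
  have hτ : ∀ x : F, (τ x : G) = t * x * t := fun x => by
    show t * x * t⁻¹ = _
    rw [ti]
  have hK : ∀ x ∈ K, τ x ∈ K := fun x hx => mem_subgroupOf.2 ⟨by
    rw [hτ]; exact H.mul_mem (H.mul_mem tH (mem_subgroupOf.1 hx).1) tH, (τ x).2⟩
  have h := transfer_pair ψ τ (fun x => Subtype.ext (by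
      rw [hτ, hτ]
      calc _ = t * t * x * (t * t) := by group
        _ = x := by rw [tt]; group)) hK (fun g hg => mem_subgroupOf.2 ⟨?_, g.2⟩)
    (y := ⟨y, hy.2⟩) (mem_subgroupOf.2 hy) (Subtype.ext yy) (Subtype.ext (by
      rw [hτ]
      show t * y * t = y
      rw [← yt, mul_assoc, tt, mul_one]))
    (fun g h => hπ g⁻¹ (F.inv_mem g.2) _ _ (by simp [K]) (hτ _))
  · have h1 : (⟨y, hy.2⟩ : F) ∈ commutator F := by
      have : (commutator F).map F.subtype = F := by rw [map_subtype_commutator, hp]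
      have h2 : y ∈ (commutator F).map F.subtype := this.symm ▸ hy.2
      obtain ⟨x, hx, e⟩ := h2
      exact (Subtype.ext e : x = ⟨y, hy.2⟩) ▸ hx
    exact h.symm.trans (Abelianization.commutator_subset_ker _ h1)
  · have h1 : (g : G)⁻¹ * (t * g * t) ∈ H := hτ g ▸ (mem_subgroupOf.1 hg).1
    have h2 := H.mul_mem h1 (H.inv_mem tH)
    refine (H.inv_mem_iff).1 (hH _ ?_)
    simpa [mul_assoc] using h2

end Cfsg.Agent.H62.S95T
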