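import Cfsg.Agent.H50.DerDefs

/-! The linear part for the prime `2`. -/

set_option autoImplicit false

namespace Cfsg.Agent.H62.DerE

open MulAction Cfsg.Agent.H50.Der

universe u

theorem four {M : Type u} [Group M] [Finite M] {H : Subgroup M} {a b : M} (ha : a ∈ H)
    (hb : b ∈ H) (a1 : a ≠ 1) (b1 : b ≠ 1) (ab : a ≠ b) (aa : a * a = 1) : 4 ≤ Nat.card H := by
  have h1 : a * b ≠ 1 := fun h => ab (mul_left_cancel (aa.trans h.symm))
  have h2 : ({1, a, b, a * b} : Set M).ncard = 4 := by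
    rw [Set.ncard_insert_of_notMem (by simp [a1.symm, b1.symm, h1.symm]),
      Set.ncard_insert_of_notMem (by simp [ab, b1]), Set.ncard_pair (by simp [a1])]
  rw [← h2]
  exact Set.ncard_le_ncard (s := {1, a, b, a * b}) (t := (H : Set M)) (by
    rintro _ (rfl | rfl | rfl | rfl)
    exacts [one_mem _, ha, hb, mul_mem ha hb])

theorem linE (pc : PCStmt.{u}) : LinEStmt.{u} := by
  intro M V _ _ _ _ _ E U R lc ⟨z, zR, oz, zc, zf, sq, cj⟩
  have z1 : z ≠ 1 := by rintro rfl; simp at oz
  have zz : z * z = 1 := by rw [← pow_two, ← oz, pow_orderOf_eq_one]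
  have zf' := zf z (Subgroup.mem_zpowers z) z1
  have zi : ∀ v : V, z • v = v⁻¹ := fun v => eq_inv_of_mul_eq_one_right (zf' _ (by
    rw [smul_mul', smul_smul, zz, one_smul, mul_comm]))
  have sq' : ∀ w ∈ ISet V R, w * w = 1 := fun w ⟨h1, _, v, h2, h3⟩ => by
    rw [← pow_two]; exact sq w h1 v h2 h3
  have zI : z ∉ ISet V R := fun ⟨_, _, v, h2, h3⟩ => h2 (zf' v h3)
  obtain ⟨a, aI, hc⟩ := Set.exists_max_image (ISet V R) (fun w => (fixedBy V w).ncard)
    (Set.toFinite _) lc.ns
  obtain ⟨s, hs, s2, hst, hp⟩ := pc M V E U R 2 _ lc hc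
  obtain ⟨g, gR, w, hw, w1, hg⟩ := cj a aI.1 aI.2.1 aI.2.2
  obtain rfl : z = w := by
    obtain ⟨k, rfl⟩ := (mem_powers_iff_mem_zpowers.2 hw)
    rcases Nat.even_or_odd' k with ⟨j, rfl | rfl⟩
    · exact absurd (by simp only [pow_mul, pow_two, zz, one_pow]) w1
    · simp only [pow_succ, pow_mul, pow_zero, one_mul, zz, one_pow]
  have aa := sq' a aI
  have c2 : (fixedBy V a).ncard * (fixedBy V a).ncard ≤ Nat.card V := by
    rw [← Nat.card_coe_set_eq, ← Nat.card_prod]
    refine Nat.card_le_card_of_injective (fun p => p.1.1 * g • p.2.1) fun p p' h => ?_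
    have h0 : p.1.1 * g • p.2.1 = p'.1.1 * g • p'.2.1 := h
    have h1 : p'.1.1⁻¹ * p.1.1 = g • (p'.2.1 * p.2.1⁻¹) := by
      rw [smul_mul', smul_inv', eq_mul_inv_iff_mul_eq, mul_assoc, h0, inv_mul_cancel_left]
    have h2 : a • (p'.1.1⁻¹ * p.1.1) = p'.1.1⁻¹ * p.1.1 := by
      rw [smul_mul', smul_inv', p.1.2, p'.1.2]
    have h3 : (a * z) • (p'.1.1⁻¹ * p.1.1) = p'.1.1⁻¹ * p.1.1 := by
      rw [← hg, h1, mul_smul, inv_smul_smul, mul_smul, smul_mul' a, smul_inv', p.2.2, p'.2.2]
    rw [mul_smul] at h3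
    have h4 := zf' _ (smul_left_cancel a (h3.trans h2.symm))
    have h5 : p.1 = p'.1 := Subtype.ext (inv_mul_eq_one.1 h4).symm
    rw [h5] at h0
    exact Prod.ext h5 (Subtype.ext (smul_left_cancel g (mul_left_cancel h0)))
  let C : Subgroup M := R ⊓ Subgroup.centralizer {a}
  have mC : ∀ b, b ∈ C ↔ b ∈ R ∧ b * a = a * b := fun b =>
    and_congr_right fun _ => Subgroup.mem_centralizer_singleton_iff
  have C2 : 2 * Nat.card C ≤ Nat.card R := by
    obtain ⟨k, hk⟩ := Subgroup.card_dvd_of_le (inf_le_left : C ≤ R)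
    have h0 : 0 < Nat.card R := Nat.card_pos
    have h1 : k ≠ 1 := by
      rintro rfl
      have := (mC g).1 ((Subgroup.eq_of_le_of_card_ge (inf_le_left : C ≤ R) (by omega)).ge gR)
      rw [this.2, mul_inv_cancel_right] at hg
      exact z1 (left_eq_mul.1 hg)
    rcases k with _ | _ | k
    · omega
    · omega
    · rw [hk]; nlinarith
  have C4 : 4 ≤ Nat.card C := four ((mC a).2 ⟨aI.1, rfl⟩) ((mC z).2 ⟨zR, (zc a aI.1).symm⟩) aI.2.1
    z1 (fun h => zI (h ▸ aI)) aa
  have O1 : (ISet V R \ C).ncard ≤ (((R : Set M) \ C) \ ISet V R).ncard := by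
    refine Set.ncard_le_ncard_of_injOn (fun b => a * b) (fun b ⟨b1, b2⟩ => ⟨⟨mul_mem aI.1 b1.1,
      fun h => b2 ((mul_mem_cancel_left ((mC a).2 ⟨aI.1, rfl⟩)).1 h)⟩, fun h => b2 ?_⟩)
      (mul_right_injective a).injOn
    refine (mC b).2 ⟨b1.1, ?_⟩
    have h1 := sq' _ h
    calc b * a = (a * a) * b * a * (b * b) := by rw [aa, sq' b b1]; group
      _ = a * (a * b * (a * b)) * b := by group
      _ = _ := by rw [h1, mul_one]
  have O2 : (ISet V R \ C).ncard + (((R : Set M) \ C) \ ISet V R).ncard + Nat.card C =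
      Nat.card R := by
    have h1 := Set.ncard_inter_add_ncard_sdiff_eq_ncard ((R : Set M) \ C) (ISet V R)
    have h2 := Set.ncard_sdiff_add_ncard_of_subset (show (C : Set M) ⊆ R from inf_le_left)
    rw [show ((R : Set M) \ C) ∩ ISet V R = ISet V R \ C from
      Set.ext fun x => ⟨fun h => ⟨h.2, h.1.2⟩, fun h => ⟨⟨h.1.1, h.2⟩, h.1⟩⟩] at h1
    rw [h1]
    exact h2
  have O3 := Set.ncard_inter_add_ncard_sdiff_eq_ncard (ISet V R) (C : Set M)
  have O4 : (ISet V R ∩ C).ncard ≤ Nat.card C := Set.ncard_le_ncard Set.inter_subset_right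
  have R0 : 0 < Nat.card R := Nat.card_pos
  have key : E.index ≤ (fixedBy V a).ncard - 1 := by
    generalize (fixedBy V a).ncard - 1 = c at hp
    rcases Nat.lt_or_ge s 4 with h4 | h4
    · obtain rfl : s = 2 := by
        obtain ⟨k, hk⟩ := (haveI := Fact.mk Nat.prime_two; lc.pg.exists_card_eq)
        rw [hk] at hs
        by_contra hn
        obtain rfl : s = 3 := by omega
        exact absurd (Nat.prime_three.dvd_of_dvd_pow hs) (by norm_num)
      have O5 : (ISet V R ∩ C).ncard ≤ 2 := by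
        refine (Set.ncard_le_ncard (t := {a, a * z}) ?_).trans
          ((Set.ncard_insert_le _ _).trans (by simp))
        rintro b ⟨b1, b2⟩
        by_contra hn
        simp only [Set.mem_insert_iff, Set.mem_singleton_iff, not_or] at hn
        obtain ⟨v, v1, av⟩ := aI.2.2
        by_cases hw : v * b • v = 1
        · have := (four (H := R ⊓ stabilizer M v) (a := a) (b := b * z) ⟨aI.1, av⟩
            ⟨mul_mem b1.1 zR, mem_stabilizer_iff.2 <| by
              rw [mul_smul, zi, smul_inv',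
                eq_inv_of_mul_eq_one_right hw, inv_inv]⟩ aI.2.1
            (fun h => zI (mul_right_cancel (h.trans zz.symm) ▸ b1))
            (fun h => hn.2 (by rw [h, mul_assoc, zz, mul_one])) aa).trans (hst v v1)
          omega
        · have := (four (H := R ⊓ stabilizer M (v * b • v)) (a := a) (b := b)
            ⟨aI.1, mem_stabilizer_iff.2 <| by
              rw [smul_mul', smul_smul, ← ((mC b).1 b2).2,
                mul_smul, av]⟩
            ⟨b1.1, mem_stabilizer_iff.2 <| by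
              rw [smul_mul', smul_smul, sq' b b1, one_smul,
                mul_comm]⟩ aI.2.1 b1.2.1 (Ne.symm hn.1) aa).trans (hst _ hw)
          omega
      have h5 : 2 * (ISet V R).ncard ≤ Nat.card R := by omega
      refine Nat.le_of_mul_le_mul_right ?_ R0
      calc _ ≤ 2 * (ISet V R).ncard * c := by simpa using hp
        _ ≤ Nat.card R * c := Nat.mul_le_mul_right _ h5
        _ = _ := mul_comm ..
    · have h5 : 4 * (ISet V R).ncard ≤ 3 * Nat.card R := by omega
      obtain ⟨t, rfl⟩ : ∃ t, s = t + 1 := ⟨s - 1, by omega⟩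
      rw [Nat.add_sub_cancel] at hp
      refine Nat.le_of_mul_le_mul_right ?_ (show 0 < 4 * Nat.card R * t from
        Nat.mul_pos (by omega) (by omega))
      calc _ = 4 * (E.index * Nat.card R * t) := by ring
        _ ≤ 4 * ((t + 1) * (ISet V R).ncard * c) := Nat.mul_le_mul_left _ hp
        _ = (t + 1) * c * (4 * (ISet V R).ncard) := by ring
        _ ≤ (t + 1) * c * (3 * Nat.card R) := Nat.mul_le_mul_left _ h5
        _ = 3 * (t + 1) * (c * Nat.card R) := by ring
        _ ≤ 4 * t * (c * Nat.card R) := Nat.mul_le_mul_right _ (by omega)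
        _ = _ := by ring
  have c1 : 0 < (fixedBy V a).ncard := (Set.ncard_pos (Set.toFinite _)).2 ⟨1, smul_one a⟩
  exact (Nat.pow_le_pow_left (by omega) 2).trans ((pow_two _).le.trans c2)

end Cfsg.Agent.H62.DerE
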