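import Cfsg.Agent.H56.HLK

/-! Project HL (S3727), piece B5b: degree 22 and `|G_ab| ∈ {8, 16}`. -/

set_option autoImplicit false
set_option linter.unusedSectionVars false

namespace Cfsg.Agent.H62.HlB5b

open MulAction Subgroup Cfsg.Agent.H83 Cfsg.Agent.H56.TT Cfsg.Agent.H56.HL
open scoped Cfsg.Agent.H63

universe u v

section grp
variable {G : Type u} [Group G] [Finite G]

/-- an element normalising `E` and `Z`, `|E : Z| = 2`, centralises `E / Z` -/
theorem idx2 {E Z : Subgroup G} (hle : Z ≤ E) (hE : Nat.card E = 4) (hZ : Nat.card Z = 2) {g e : G}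
    (hgE : g ∈ N[E]) (hgZ : g ∈ N[Z]) (he : e ∈ E) : g * e * g⁻¹ * e⁻¹ ∈ Z := by
  have hi : (Z.subgroupOf E).index = 2 := by
    have h1 := (Z.subgroupOf E).index_mul_card
    rw [hE, Nat.card_congr (subgroupOfEquivOfLe hle).toEquiv, hZ] at h1
    omega
  have he' : g * e * g⁻¹ ∈ E := (mem_normalizer_iff.1 hgE e).1 he
  have := (mul_mem_iff_of_index_two hi (a := ⟨g * e * g⁻¹, he'⟩) (b := ⟨e⁻¹, E.inv_mem he⟩)).2 (by
    simp only [mem_subgroupOf, inv_mem_iff]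
    exact (mem_normalizer_iff.1 hgZ e).symm)
  simpa only [mem_subgroupOf, coe_mul] using this

/-- `[g, U] ≤ Z` -/
theorem comm_le {N E F : Subgroup G} (hk : Kit N 2) (hA : Adj N 2 E F) {g : G} (hE : g ∈ N[E])
    (hF : g ∈ N[F]) : ∀ y ∈ E ⊔ F, g * y * g⁻¹ * y⁻¹ ∈ E ⊓ F := by
  intro y hy
  have fb := hk.l3.fb hA
  have hZ : g ∈ N[E ⊓ F] := cj_eq_self_iff.1 (by rw [cj_inf, cj_eq_self hE, cj_eq_self hF])
  obtain ⟨e, he, f, hf, rfl⟩ := fb.mul y hy
  have h1 := idx2 inf_le_left hA.vl.card fb.cardZ hE hZ he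
  have h2 := idx2 inf_le_right hA.vr.card fb.cardZ hF hZ hf
  have h3 : e * (g * f * g⁻¹ * f⁻¹) = (g * f * g⁻¹ * f⁻¹) * e := hA.vl.comm he h2.1
  have h4 : g * (e * f) * g⁻¹ * (e * f)⁻¹ =
      (g * e * g⁻¹ * e⁻¹) * (e * (g * f * g⁻¹ * f⁻¹) * e⁻¹) := by group
  rw [h4, h3, mul_inv_cancel_right]
  exact mul_mem h1 h2

end grp

section main
variable {G : Type u} [Group G] [Finite G] {Ω : Type v} [Finite Ω] [MulAction G Ω]
  [FaithfulSMul G Ω] {NN : Ω → Subgroup G}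

theorem inj (hC : B5c NN 2) {a x y : Ω} (hx : a ≠ x) (hy : a ≠ y)
    (e : UU NN a x = UU NN a y) : x = y := by
  rcases hC.2 a y x hy (e ▸ UU_le_stab NN a x) with h | h
  · exact absurd h.symm hx
  · exact h

theorem tr (h : St NN 2) (hB : BK NN 2) (hC : B5c NN 2) : Tr NN := by
  intro a x y hx hy
  obtain ⟨n, hn, e⟩ := BK.conj h hB hx.symm hy.symm
  have e1 : n • a = a := h.fix a hn
  rw [h.cj_UU, e1] at e
  exact ⟨n, hn, inj hC (fun e' => hx (MulAction.injective n (e'.symm.trans e1.symm))) hy.symm e⟩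

theorem card22 (h : St NN 2) (hB : BK NN 2) (hC : B5c NN 2) : Nat.card Ω = 22 := by
  classical
  obtain ⟨a, -, -⟩ := h.nt
  have hk := h.kit a
  obtain ⟨E₀, F₀, hA₀⟩ := hk.l3.ex
  have fa₀ := hk.l3.fa hA₀
  let T := Σ X : {X : Subgroup G // Same (NN a) E₀ X}, {M : Subgroup G // Adj (NN a) 2 M X.1}
  have hT : Nat.card T = 21 := by
    haveI := Fintype.ofFinite {X : Subgroup G // Same (NN a) E₀ X}
    have h3 : ∀ X : {X : Subgroup G // Same (NN a) E₀ X},
        Nat.card {M : Subgroup G // Adj (NN a) 2 M X.1} = 3 := fun X => by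
      obtain ⟨M, hM⟩ := hk.ka.nbr (X.2.vx hA₀.vl)
      exact (hk.l3.fa hM.symm).nb
    have h7 : Nat.card {X : Subgroup G // Same (NN a) E₀ X} = 7 := fa₀.cl
    rw [Nat.card_sigma, Finset.sum_congr rfl fun X _ => h3 X, Finset.sum_const, Finset.card_univ,
      ← Nat.card_eq_fintype_card, h7]
    rfl
  have hex : ∀ t : T, ∃ y : {y : Ω // a ≠ y}, UU NN a y.1 = t.2.1 ⊔ t.1.1 := fun t => by
    obtain ⟨y, hy, e⟩ := BK.flag h hB t.2.2
    exact ⟨⟨y, hy⟩, e⟩
  choose φ hφ using hex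
  have hbij : Function.Bijective φ := by
    constructor
    · rintro ⟨⟨X, hX⟩, ⟨M, hM⟩⟩ ⟨⟨X', hX'⟩, ⟨M', hM'⟩⟩ e
      have e1 : M ⊔ X = M' ⊔ X' := by
        have h1 := hφ ⟨⟨X, hX⟩, ⟨M, hM⟩⟩
        have h2 := hφ ⟨⟨X', hX'⟩, ⟨M', hM'⟩⟩
        rw [e] at h1
        exact h1.symm.trans h2
      have e2 : X' = X := by
        rcases hk.ka.inU hM hM'.vr (e1 ▸ le_sup_right) with h1 | h1
        · subst h1
          exact absurd (hX'.symm.trans hX) (hk.l3.fa hM).ns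
        · exact h1
      subst e2
      have e3 : M' = M := by
        rcases hk.ka.inU hM hM'.vl (e1 ▸ le_sup_left) with h1 | h1
        · exact h1
        · exact absurd h1 hM'.ne
      subst e3
      rfl
    · rintro ⟨y, hy⟩
      obtain ⟨E, F, hA, e, -⟩ := hB a y hy
      have key : ∃ t : T, UU NN a y = t.2.1 ⊔ t.1.1 := by
        rcases fa₀.two E hA.vl with h1 | h1
        · exact ⟨⟨⟨E, h1⟩, ⟨F, hA.symm⟩⟩, e.trans (sup_comm _ _)⟩
        · rcases fa₀.two F hA.vr with h2 | h2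
          · exact ⟨⟨⟨F, h2⟩, ⟨E, hA⟩⟩, e⟩
          · exact absurd (h1.symm.trans h2) (hk.l3.fa hA).ns
      obtain ⟨t, ht⟩ := key
      exact ⟨t, Subtype.ext (inj hC (φ t).2 hy ((hφ t).trans ht.symm))⟩
  have h21 : Nat.card {y : Ω // a ≠ y} = 21 := (Nat.card_eq_of_bijective φ hbij).symm.trans hT
  have h3 : (Set.univ : Set Ω) = insert a {y | a ≠ y} := by
    ext z
    simp only [Set.mem_univ, Set.mem_insert_iff, Set.mem_ofPred_eq, true_iff]
    by_cases e : z = a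
    · exact Or.inl e
    · exact Or.inr (Ne.symm e)
  rw [← Set.ncard_univ, h3, Set.ncard_insert_of_notMem (by simp)]
  have : Set.ncard {y : Ω | a ≠ y} = 21 := h21
  rw [this]

theorem stab (h : St NN 2) (hB : BK NN 2) (hC : B5c NN 2) {a b : Ω} (hab : a ≠ b) :
    Nat.card ↥(stabilizer G a ⊓ stabilizer G b) = 8 ∨
      Nat.card ↥(stabilizer G a ⊓ stabilizer G b) = 16 := by
  have hk := h.kit a
  have ht := tr h hB hC
  obtain ⟨E, F, hA, e, -⟩ := hB a b hab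
  set S := stabilizer G a ⊓ stabilizer G b with hS
  have hle : UU NN a b ≤ S := le_inf (UU_le_left h a b) (UU_le_stab NN a b)
  have hsw : ∀ g ∈ S, (g ∈ N[E] ∧ g ∈ N[F]) ∨ (cj g E = F ∧ cj g F = E) := fun g hg =>
    hk.ka.swapU hA g (h.norm hg.1) (e ▸ h.norm_UU hg.1 hg.2)
  have hU : ∀ g ∈ S, g ∈ N[E] → g ∈ N[F] → g ∈ UU NN a b := fun g hg hE hF => by
    obtain ⟨y, hy, c, hc, rfl⟩ := hk.kc.a6' hA g (h.norm hg.1) (comm_le hk hA hE hF)
    rw [← e] at hy
    have hc' : c ∈ S := by simpa using mul_mem (inv_mem (hle hy)) hg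
    rw [Tr.cen_eq_one ht h hab hc hc'.2, mul_one]
    exact hy
  have hc8 : Nat.card (UU NN a b) = 8 := BK.card h hB hab
  have h1 := ((UU NN a b).subgroupOf S).index_mul_card
  rw [Nat.card_congr (subgroupOfEquivOfLe hle).toEquiv, hc8] at h1
  by_cases hall : ∀ g ∈ S, g ∈ UU NN a b
  · left
    rw [← hc8, le_antisymm (show S ≤ UU NN a b from hall) hle]
  · right
    push Not at hall
    obtain ⟨w, hw, hw'⟩ := hall
    have hi : ((UU NN a b).subgroupOf S).index = 2 := by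
      refine index_eq_two_iff_exists_notMem_and.2 ⟨⟨w, hw⟩, hw', fun s => ?_⟩
      simp only [mem_subgroupOf, coe_mul]
      have hws := (hsw w hw).resolve_left fun h => hw' (hU w hw h.1 h.2)
      rcases hsw s s.2 with h2 | h2
      · exact Or.inr (hU _ s.2 h2.1 h2.2)
      · left
        refine hU _ (mul_mem s.2 hw) (cj_eq_self_iff.1 ?_) (cj_eq_self_iff.1 ?_)
        · rw [cj_mul, hws.1, h2.2]
        · rw [cj_mul, hws.2, h2.1]
    rw [hi] at h1
    omega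

end main

theorem b5b : Cfsg.Agent.H56.HL.B5bStmt.{u, v} := by
  intro G Ω _ _ _ _ _ NN q h hB hC
  obtain rfl : q = 2 := hC.1
  obtain ⟨a, b, hab⟩ := h.nt
  exact ⟨card22 h hB hC, a, b, hab, stab h hB hC hab⟩

end Cfsg.Agent.H62.HlB5b
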