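import Cfsg.Agent.H56.HLDefs

/-! The group generated by the transvection groups with centre on a line of `PG(2, q)`. -/

set_option autoImplicit false

namespace Cfsg.Agent.H62.HlD

open Subgroup Matrix Cfsg.Agent.H83 Cfsg.Agent.H56.HL Cfsg.Agent.H32
open scoped Cfsg.Agent.H63

universe u

variable {G : Type u} [Group G] {K : Type} [Field K] {π : SpecialLinearGroup (Fin 3) K →* G}
  {N : Subgroup G} {q : ℕ}

local notation "SL3" => SpecialLinearGroup (Fin 3) K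
local notation "M3" => Matrix (Fin 3) (Fin 3) K

/-- the standard point -/
abbrev e0 : Fin 3 → K := ![1, 0, 0]
/-- the standard line -/
abbrev e2 : Fin 3 → K := ![0, 0, 1]

/-- the matrix -/
def mt (h : SL3) : M3 := h.1

/-- from a matrix -/
def mk3 (A : M3) (h : A.det = 1) : SL3 := ⟨A, h⟩

theorem eqns : True := by have := @mt.eq_1; have := @mk3.eq_1; trivial

theorem mt_mk (A : M3) (h : A.det = 1) : mt (mk3 A h) = A := rfl
theorem mt_mul (a b : SL3) : mt (a * b) = mt a * mt b := rfl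
theorem mt_ts {x φ : Fin 3 → K} (h : φ ⬝ᵥ x = 0) : mt (ts x φ) = 1 + vecMulVec x φ := coe_ts h
theorem mt_im (a : SL3) : mt a⁻¹ * mt a = 1 := sl_inv_mul a
theorem mt_mi (a : SL3) : mt a * mt a⁻¹ = 1 := sl_mul_inv a
theorem mt_ext {a b : SL3} (h : mt a = mt b) : a = b := Subtype.ext h
theorem cjE (g : SL3) (v : Fin 3 → K) : cj (π g) (EP π v) = EP π (mt g *ᵥ v) := cj_EP π g v
theorem cjF (g : SL3) (v : Fin 3 → K) : cj (π g) (FL π v) = FL π (v ᵥ* mt g⁻¹) := cj_FL π g v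
theorem cjT (g : SL3) (x φ : Fin 3 → K) : g * ts x φ * g⁻¹ = ts (mt g *ᵥ x) (φ ᵥ* mt g⁻¹) :=
  conj_ts g x φ
theorem e2_dot (w : Fin 3 → K) : e2 ⬝ᵥ w = w 2 := by simp [dotProduct, Fin.sum_univ_three]

/-- what is used of the model at the standard flag -/
structure Mini (π : SL3 →* G) (N : Subgroup G) (q : ℕ) : Prop where
  ker : ∀ g, π g = 1 ↔ g ∈ center SL3
  two : (2 : K) = 0
  adjF : ∀ X, Adj N q X (FL π e2) ↔ ∃ w, w ≠ 0 ∧ e2 ⬝ᵥ w = 0 ∧ X = EP π w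
  adjE : ∀ ψ, ψ ≠ 0 → ψ ⬝ᵥ e0 = 0 → Adj N q (EP π e0) (FL π ψ)
  eqE : ∀ v w : Fin 3 → K, v ≠ 0 → w ≠ 0 → (EP π v = EP π w ↔ ∃ c : K, w = c • v)

/-- the stabiliser of a covector -/
def St (φ : Fin 3 → K) : Subgroup SL3 where
  carrier := {h | φ ᵥ* mt h = φ}
  one_mem' := vecMul_one φ
  mul_mem' {a b} (ha : _ = _) (hb : _ = _) := show φ ᵥ* (mt a * mt b) = φ by
    rw [← vecMul_vecMul, ha, hb]
  inv_mem' {a} (ha : _ = _) := show φ ᵥ* mt a⁻¹ = φ by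
    conv_lhs => rw [← ha, vecMul_vecMul, mt_mi, vecMul_one]

theorem mem_St {h : SL3} : h ∈ St e2 ↔ mt h 2 0 = 0 ∧ mt h 2 1 = 0 ∧ mt h 2 2 = 1 := by
  change e2 ᵥ* mt h = e2 ↔ _
  simp [funext_iff, Fin.forall_fin_succ, vecMul, dotProduct, Fin.sum_univ_three]

theorem ts_mem_St {φ w ψ : Fin 3 → K} (h1 : φ ⬝ᵥ w = 0) (h2 : ψ ⬝ᵥ w = 0) : ts w ψ ∈ St φ := by
  change φ ᵥ* mt (ts w ψ) = φ
  rw [mt_ts h2, H26.vecMul_tv, h1, zero_smul, add_zero]

theorem mv_ne (h : SL3) {w : Fin 3 → K} (hw : w ≠ 0) : mt h *ᵥ w ≠ 0 := fun e => hw (by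
  rw [← one_mulVec w, ← mt_im h, ← mulVec_mulVec, e, mulVec_zero])

theorem det_St {h : SL3} (hh : h ∈ St e2) : mt h 0 0 * mt h 1 1 - mt h 0 1 * mt h 1 0 = 1 := by
  obtain ⟨h1, h2, h3⟩ := mem_St.1 hh
  have : (mt h).det = 1 := h.2
  rw [det_fin_three, h1, h2, h3] at this
  linear_combination this

theorem fixF {h : SL3} (hh : h ∈ St e2) {y : Fin 3 → K} (y1 : y 1 ≠ 0) (y2 : y 2 = 0)
    (h0 : mt h *ᵥ e0 = e0) (hy : mt h *ᵥ y = y) : π h ∈ FL π e2 := by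
  obtain ⟨h1, h2, h3⟩ := mem_St.1 hh
  have a0 := congrFun h0 0
  have a1 := congrFun h0 1
  have b0 := congrFun hy 0
  have b1 := congrFun hy 1
  simp [mulVec, dotProduct, Fin.sum_univ_three, y2] at a0 a1 b0 b1
  rw [a0] at b0
  rw [a1] at b1
  have c0 : mt h 0 1 = 0 := mul_right_cancel₀ y1 (by linear_combination b0)
  have c1 : mt h 1 1 = 1 := mul_right_cancel₀ y1 (by linear_combination b1)
  refine ⟨![mt h 0 2, mt h 1 2, 0], by simp, congrArg π (mt_ext ?_)⟩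
  rw [mt_ts (by simp)]
  ext i j
  fin_cases i <;> fin_cases j <;> simp [vecMulVec_apply, *]

theorem detab {h : SL3} (hh : h ∈ St e2) {y : Fin 3 → K} (y1 : y 1 ≠ 0) (y2 : y 2 = 0) {a b : K}
    (h0 : mt h *ᵥ e0 = a • e0) (hy : mt h *ᵥ y = b • y) :
    a * b = 1 ∧ mt h 0 1 * y 1 = (b - a) * y 0 ∧ mt h 1 1 = b := by
  have a0 := congrFun h0 0
  have a1 := congrFun h0 1
  have b0 := congrFun hy 0
  have b1 := congrFun hy 1
  simp [mulVec, dotProduct, Fin.sum_univ_three, y2] at a0 a1 b0 b1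
  have c1 : mt h 1 1 = b := mul_right_cancel₀ y1 (by rw [a1] at b1; linear_combination b1)
  have := det_St hh
  rw [a0, a1, c1] at this
  rw [a0] at b0
  exact ⟨by linear_combination this, by linear_combination b0, c1⟩

variable (m : Mini π N q)
include m

theorem S_le : SS N q (FL π e2) ≤ (St e2).map π := SS_le fun X hX => by
  obtain ⟨w, -, hw, rfl⟩ := (m.adjF X).1 hX
  rintro _ ⟨ψ, h, rfl⟩
  exact ⟨_, ts_mem_St hw h, rfl⟩

theorem ts_S {w ψ : Fin 3 → K} (h1 : e2 ⬝ᵥ w = 0) (h2 : ψ ⬝ᵥ w = 0) :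
    π (ts w ψ) ∈ SS N q (FL π e2) := by
  by_cases hw : w = 0
  · rw [hw, ts_zero_left, map_one]; exact one_mem _
  · exact ((m.adjF _).2 ⟨w, hw, h1, rfl⟩).le_SS ⟨ψ, h2, rfl⟩

theorem le_S {h : SL3} (hh : h ∈ St e2) : π h ∈ SS N q (FL π e2) := by
  have key : ∀ h : SL3, h ∈ St e2 → mt h 1 0 ≠ 0 → π h ∈ SS N q (FL π e2) := fun h hh hc => by
    obtain ⟨h1, h2, h3⟩ := mem_St.1 hh
    have hd := det_St hh
    have e : h = ts ![mt h 0 2, mt h 1 2, 0] e2 * ts e0 ![0, (mt h 0 0 - 1) / mt h 1 0, 0] *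
        ts ![0, 1, 0] ![mt h 1 0, 0, 0] * ts e0 ![0, (mt h 1 1 - 1) / mt h 1 0, 0] := by
      refine mt_ext ?_
      rw [mt_mul, mt_mul, mt_mul, mt_ts (by simp), mt_ts (by simp), mt_ts (by simp), mt_ts (by simp)]
      ext i j
      fin_cases i <;> fin_cases j <;>
        simp [vecMulVec_apply, mul_apply, Fin.sum_univ_three, one_apply, h1, h2, h3] <;>
        field_simp <;> first | ring1 | linear_combination -hd
    rw [e, map_mul, map_mul, map_mul]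
    exact mul_mem (mul_mem (mul_mem (ts_S m (by simp) (by simp)) (ts_S m (by simp) (by simp)))
      (ts_S m (by simp) (by simp))) (ts_S m (by simp) (by simp))
  by_cases hc : mt h 1 0 = 0
  · have := key (ts ![0, 1, 0] e0 * h) (mul_mem (ts_mem_St (by simp) (by simp)) hh) (by
      have hd := det_St hh
      rw [mt_mul, mt_ts (by simp)]
      simp [vecMulVec_apply, mul_apply, Fin.sum_univ_three, one_apply, hc]
      intro e
      rw [e, hc] at hd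
      simp at hd)
    rw [map_mul] at this
    exact (mul_mem_cancel_left (ts_S m (by simp) (by simp))).1 this
  · exact key h hh hc

theorem nrm {h : SL3} {w : Fin 3 → K} (hw : w ≠ 0) (H : π h ∈ N[EP π w]) :
    ∃ c : K, mt h *ᵥ w = c • w :=
  (m.eqE _ _ hw (mv_ne h hw)).1 (by rw [← cjE, cj_eq_self H])

theorem pt {X : Subgroup G} (hX : Adj N q X (FL π e2)) (hE : X ≠ EP π e0) :
    ∃ y : Fin 3 → K, y 1 ≠ 0 ∧ y 2 = 0 ∧ X = EP π y := by
  obtain ⟨w, hw, h, rfl⟩ := (m.adjF X).1 hX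
  have h2 : w 2 = 0 := (e2_dot w).symm.trans h
  refine ⟨w, fun h1 => hE ((m.eqE e0 w (by simp) hw).2 ⟨w 0, ?_⟩).symm, h2, rfl⟩
  ext i
  fin_cases i <;> simp [h1, h2]

omit m in
theorem tr0 {w : Fin 3 → K} (hw : w ≠ 0) (h : e2 ⬝ᵥ w = 0) :
    ∃ g ∈ St (e2 : Fin 3 → K), mt g *ᵥ e0 = w := by
  have h2 : w 2 = 0 := (e2_dot w).symm.trans h
  by_cases h0 : w 0 = 0
  · have h1 : w 1 ≠ 0 := fun h1 => hw (by ext i; fin_cases i <;> simp [h0, h1, h2])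
    refine ⟨mk3 !![0, -(w 1)⁻¹, 0; w 1, 0, 0; 0, 0, 1] (by simp [det_fin_three, h1]),
      mem_St.2 (by simp [mt_mk]), ?_⟩
    ext i
    fin_cases i <;> simp [mt_mk, h0, h2]
  · refine ⟨mk3 !![w 0, 0, 0; w 1, (w 0)⁻¹, 0; 0, 0, 1] (by simp [det_fin_three, h0]),
      mem_St.2 (by simp [mt_mk]), ?_⟩
    ext i
    fin_cases i <;> simp [mt_mk, h2]

theorem fd [Fintype K] (hq : q = Fintype.card K) : FD N q (EP π e0) (FL π e2) := by
  have t2 := m.two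
  have n0 : (e0 : Fin 3 → K) ≠ 0 := by simp
  have ne : ∀ {y : Fin 3 → K}, y 1 ≠ 0 → y ≠ 0 := fun h e => h (by simp [e])
  refine ⟨?_, fun g hg X Y hX hY X0 Y0 XY nE nX nY => ?_, fun g hg Y hY Y0 nE nY => ?_, fun H => ?_⟩
  · rintro _ ⟨w, hw, rfl⟩ _ ⟨w', hw', rfl⟩ h1 h1'
    obtain ⟨g, gS, hg⟩ := tr0 (fun e => h1 (by rw [e, ts_zero_left, map_one])) hw
    obtain ⟨g', gS', hg'⟩ := tr0 (fun e => h1' (by rw [e, ts_zero_left, map_one])) hw'
    have k := mul_mem gS' (inv_mem gS)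
    refine ⟨_, le_S m k, ?_⟩
    rw [← map_inv, ← map_mul, ← map_mul, cjT, show e2 ᵥ* _ = e2 from inv_mem k, ← hg, ← hg',
      mulVec_mulVec, ← mt_mul, inv_mul_cancel_right]
  · obtain ⟨h, hh, rfl⟩ := S_le m hg
    obtain ⟨x, x1, x2, rfl⟩ := pt m hX X0
    obtain ⟨y, y1, y2, rfl⟩ := pt m hY Y0
    obtain ⟨a, ha⟩ := nrm m n0 nE
    obtain ⟨b, hb⟩ := nrm m (ne x1) nX
    obtain ⟨c, hc⟩ := nrm m (ne y1) nY
    obtain ⟨d1, d2, d3⟩ := detab hh x1 x2 ha hb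
    obtain ⟨-, d4, rfl⟩ := detab hh y1 y2 ha hc
    subst d3
    have : mt h 1 1 = a := by_contra fun hn => XY ((m.eqE _ _ (ne x1) (ne y1)).2 ⟨y 1 / x 1, by
      have : x 1 * y 0 = y 1 * x 0 := mul_left_cancel₀ (sub_ne_zero.2 hn) (by
        linear_combination y 1 * d2 - x 1 * d4)
      ext i
      fin_cases i <;> simp [x2, y2] <;> field_simp
      linear_combination this⟩)
    rw [this] at d1 hb
    obtain rfl : a = 1 := sub_eq_zero.1 (pow_eq_zero_iff two_ne_zero |>.1 (by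
      linear_combination d1 + (1 - a) * t2))
    exact fixF hh x1 x2 (by rw [ha, one_smul]) (by rw [hb, one_smul])
  · obtain ⟨h, hh, rfl⟩ := S_le m hg
    obtain ⟨y, y1, y2, rfl⟩ := pt m hY Y0
    obtain ⟨a, ha⟩ := nrm m n0 nE
    obtain ⟨b, hb⟩ := nrm m (ne y1) nY
    obtain ⟨d1, -⟩ := detab hh y1 y2 ha hb
    let W : SL3 := mk3 !![y 0, (y 0 * y 0 + 1) / y 1, 0; y 1, y 0, 0; 0, 0, 1] (by
      simp [det_fin_three]; field_simp; linear_combination -t2)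
    have WS : W ∈ St e2 := mem_St.2 (by simp [W, mt_mk])
    have W0 : mt W *ᵥ e0 = y := by
      ext i
      fin_cases i <;> simp [W, mt_mk, y2]
    have W1 : mt W *ᵥ y = e0 := by
      ext i
      fin_cases i <;> simp [W, mt_mk, y2, mulVec, dotProduct, Fin.sum_univ_three]
      · field_simp; linear_combination y 0 ^ 2 * t2
      · linear_combination y 0 * y 1 * t2
    have V0 : mt W⁻¹ *ᵥ e0 = y := by rw [← W1, mulVec_mulVec, mt_im, one_mulVec]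
    have V1 : mt W⁻¹ *ᵥ y = e0 := by
      conv_lhs => rw [← W0, mulVec_mulVec, mt_im, one_mulVec]
    refine ⟨π W, le_S m WS, by rw [cjE, W0], ?_⟩
    rw [← map_inv, ← map_mul, ← map_mul, ← map_mul]
    refine fixF (mul_mem (mul_mem (mul_mem WS hh) (inv_mem WS)) hh) y1 y2 ?_ ?_ <;>
      simp only [mt_mul, ← mulVec_mulVec, ha, hb, mulVec_smul, V0, V1, W0, W1,
        smul_smul, d1, mul_comm b a, one_smul]
  · haveI : CharP K 2 := CharTwo.of_one_ne_zero_of_two_eq_zero one_ne_zero t2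
    obtain ⟨n, -, hn⟩ := FiniteField.card K 2
    refine ⟨n, ?_, hq.trans hn⟩
    rcases Nat.even_or_odd' n with ⟨j, hj | hj⟩
    swap
    · exact ⟨j, hj⟩
    exfalso
    classical
    obtain ⟨ω, hω⟩ := exists_prime_orderOf_dvd_card' (G := Kˣ) 3 (hp := ⟨Nat.prime_three⟩) (by
      rw [Nat.card_eq_fintype_card, Fintype.card_units, hn, hj, pow_mul]
      simpa using Nat.sub_dvd_pow_sub_pow 4 1 j)
    have w1 : (ω : K) ≠ 1 := fun e => by rw [Units.val_eq_one.1 e] at hω; simp at hω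
    have w3 : (ω : K) ^ 3 = 1 := by rw [← Units.val_pow_eq_pow_val, ← hω, pow_orderOf_eq_one]; rfl
    have w0 := ω.ne_zero
    generalize (ω : K) = a at *
    let D : SL3 := mk3 !![a, 0, 0; 0, a * a, 0; 0, 0, 1] (by
      simp [det_fin_three]; linear_combination w3)
    let Z : SL3 := mk3 !![a, 0, 0; 0, a, 0; 0, 0, a] (by
      simp [det_fin_three]; linear_combination w3)
    have hZ : π Z = 1 := (m.ker Z).2 (Matrix.SpecialLinearGroup.mem_center_iff.2 ⟨a,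
      by simpa using w3, show _ = mt Z by
        ext i j; fin_cases i <;> fin_cases j <;> simp [Z, mt_mk]⟩)
    have e : D = Z * (ts e2 ![0, -1, 0] * ts ![0, 1 - a * a, 0] e2 * ts e2 ![0, a, 0] *
        ts ![0, a - a * a, 0] e2) := by
      refine mt_ext ?_
      rw [mt_mul, mt_mul, mt_mul, mt_mul, mt_ts (by simp), mt_ts (by simp), mt_ts (by simp),
        mt_ts (by simp)]
      ext i j
      fin_cases i <;> fin_cases j <;>
        simp [D, Z, mt_mk, vecMulVec_apply, mul_apply, Fin.sum_univ_three, one_apply] <;> grind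
    have k : ∀ w ψ : Fin 3 → K, ψ ≠ 0 → ψ ⬝ᵥ e0 = 0 → ψ ⬝ᵥ w = 0 →
        π (ts w ψ) ∈ SS N q (EP π e0) := fun w ψ h1 h2 h3 =>
      (m.adjE ψ h1 h2).symm.le_SS ⟨w, h3, rfl⟩
    have DU := H ⟨le_S m (h := D) (mem_St.2 (by simp [D, mt_mk])), by
      rw [e, map_mul, hZ, one_mul, map_mul, map_mul, map_mul]
      exact mul_mem (mul_mem (mul_mem (k _ _ (by simp) (by simp) (by simp))
        (k _ _ (by simp) (by simp) (by simp))) (k _ _ (by simp [w0]) (by simp) (by simp)))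
        (k _ _ (by simp) (by simp) (by simp))⟩
    have UT : EP π e0 ⊔ FL π e2 ≤ (St e2 ⊓ MulAction.stabilizer SL3 (e0 : Fin 3 → K)).map π := by
      refine sup_le ?_ ?_
      · rintro _ ⟨ψ, h, rfl⟩
        exact ⟨_, ⟨ts_mem_St (by simp) h, (ts_mulVec h _).trans (by rw [h]; simp)⟩, rfl⟩
      · rintro _ ⟨w, h, rfl⟩
        exact ⟨_, ⟨ts_mem_St h h, (ts_mulVec h _).trans (by simp)⟩, rfl⟩
    obtain ⟨s, ⟨s1, s2⟩, hs⟩ := UT DU
    obtain ⟨c, -, hc⟩ := Matrix.SpecialLinearGroup.mem_center_iff.1 ((m.ker (D * s⁻¹)).1 (by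
      rw [map_mul, map_inv, hs, mul_inv_cancel]))
    have e1 : mt D = c • mt s := by
      rw [smul_eq_diagonal_mul, ← scalar_apply, show scalar _ c = mt (D * s⁻¹) from hc, ← mt_mul,
        inv_mul_cancel_right]
    have a1 := congrFun (congrFun e1 2) 2
    have a2 := congrFun (congrFun e1 0) 0
    have a3 : mt s 0 0 = 1 := by
      simpa [mulVec, dotProduct, Fin.sum_univ_three] using congrFun (show mt s *ᵥ e0 = e0 from s2) 0
    simp [D, mt_mk, (mem_St.1 s1).2.2, a3] at a1 a2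
    exact w1 (a2.trans a1.symm)

omit m

theorem md : MDStmt.{u} := by
  intro G _ _ K _ _ π N mk v φ hv hφ h
  obtain ⟨u, hu⟩ : ∃ u, φ ⬝ᵥ u = 1 := by
    obtain ⟨i, hi⟩ := Function.ne_iff.1 hφ
    exact ⟨Pi.single i (φ i)⁻¹, by rw [dotProduct_single, mul_inv_cancel₀ hi]⟩
  obtain ⟨ψ, hψ⟩ : ∃ ψ, ψ ⬝ᵥ v = 1 := by
    obtain ⟨i, hi⟩ := Function.ne_iff.1 hv
    exact ⟨Pi.single i (v i)⁻¹, by rw [single_dotProduct, inv_mul_cancel₀ hi]⟩
  have h' := h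
  simp only [dotProduct, Fin.sum_univ_three] at hu hψ h'
  let B : SpecialLinearGroup (Fin 3) K := mk3 !![v 0, φ 1 * ψ 2 - φ 2 * ψ 1, u 0;
      v 1, φ 2 * ψ 0 - φ 0 * ψ 2, u 1; v 2, φ 0 * ψ 1 - φ 1 * ψ 0, u 2] (by
    simp [det_fin_three]
    linear_combination (ψ 0 * v 0 + ψ 1 * v 1 + ψ 2 * v 2) * hu + hψ -
      (ψ 0 * u 0 + ψ 1 * u 1 + ψ 2 * u 2) * h')
  have B0 : mt B *ᵥ e0 = v := by ext i; fin_cases i <;> simp [B, mt_mk]
  have B2 : φ ᵥ* mt B = e2 := by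
    ext i
    fin_cases i <;> simp [B, mt_mk, vecMul, dotProduct, Fin.sum_univ_three]
    exacts [h', by ring, hu]
  let π' := π.comp (MulAut.conj B).toMonoidHom
  have hπ : ∀ g, π' g = π B * π g * (π B)⁻¹ := fun g => by simp [π']
  have eE : ∀ w, EP π' w = EP π (mt B *ᵥ w) := fun w => by
    rw [← cjE]
    ext x
    exact ⟨fun ⟨a, h1, h2⟩ => ⟨_, ⟨a, h1, rfl⟩, (h2.trans (hπ _)).symm⟩,
      fun ⟨_, ⟨a, h1, rfl⟩, h2⟩ => ⟨a, h1, h2.symm.trans (hπ _).symm⟩⟩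
  have eF : ∀ w, FL π' w = FL π (w ᵥ* mt B⁻¹) := fun w => by
    rw [← cjF]
    ext x
    exact ⟨fun ⟨a, h1, h2⟩ => ⟨_, ⟨a, h1, rfl⟩, (h2.trans (hπ _)).symm⟩,
      fun ⟨_, ⟨a, h1, rfl⟩, h2⟩ => ⟨a, h1, h2.symm.trans (hπ _).symm⟩⟩
  have F2 : FL π' e2 = FL π φ := by rw [eF, ← B2, vecMul_vecMul, mt_mi, vecMul_one]
  have := fd (π := π') (N := N) ⟨fun g => by
      rw [hπ, conj_eq_one_iff, mk.md.ker], mk.md.two, fun X => ?_, fun χ h1 h2 => ?_,
    fun x w hx hw => ?_⟩ rfl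
  · rwa [F2, eE, B0] at this
  · rw [F2, mk.adjF X φ hφ]
    refine ⟨fun ⟨w, h1, h2, h3⟩ => ⟨mt B⁻¹ *ᵥ w, mv_ne _ h1, ?_, ?_⟩,
      fun ⟨w, h1, h2, h3⟩ => ⟨_, mv_ne B h1, by rw [dotProduct_mulVec, B2, h2], h3.trans (eE w)⟩⟩
    · rw [dotProduct_mulVec, ← B2, vecMul_vecMul, mt_mi, vecMul_one, h2]
    · rw [eE, mulVec_mulVec, mt_mi, one_mulVec, h3]
  · rw [eE, eF]
    refine (mk.adj _ _ (mv_ne B (by simp)) fun e => h1 ?_).2 ((vecMul_inv_dot B χ e0).trans h2)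
    rw [← vecMul_one χ, ← mt_im B, ← vecMul_vecMul, e, zero_vecMul]
  · rw [eE, eE, mk.eqE _ _ (mv_ne B hx) (mv_ne B hw)]
    refine exists_congr fun c => ⟨fun e => ?_, fun e => by rw [e, mulVec_smul]⟩
    rw [← one_mulVec w, ← mt_im B, ← mulVec_mulVec, e, mulVec_smul, mulVec_mulVec, mt_im,
      one_mulVec]

end Cfsg.Agent.H62.HlD
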