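import Cfsg.Agent.H58.Q4K

/-! Project Q4 (S3404), piece CF: elements of prime order of the complement. -/

set_option autoImplicit false

namespace Cfsg.Agent.H62.Q4Cf

open Subgroup Equiv Function Cfsg.Agent.H58.Q4
open scoped Pointwise commutatorElement

universe u

theorem comm_le {G : Type u} [Group G] (c : G) : ⁅Nm (zpowers c), Nm (zpowers c)⁆ ≤ Ce c := by
  refine commutator_le.2 fun a ha b hb => mem_Ce.2 ?_
  obtain ⟨i, hi⟩ := conj_mem_of_Nm (inv_mem ha) (mem_zpowers c)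
  obtain ⟨j, hj⟩ := conj_mem_of_Nm (inv_mem hb) (mem_zpowers c)
  simp only at hi hj
  have h1 : a⁻¹ * (b⁻¹ * c * b⁻¹⁻¹) * a⁻¹⁻¹ = b⁻¹ * (a⁻¹ * c * a⁻¹⁻¹) * b⁻¹⁻¹ := by
    rw [← hi, ← hj, ← conj_zpow, ← conj_zpow, ← hi, ← hj, ← zpow_mul, ← zpow_mul, mul_comm]
  rw [commutatorElement_def]
  calc a * b * a⁻¹ * b⁻¹ * c = a * b * (a⁻¹ * (b⁻¹ * c * b⁻¹⁻¹) * a⁻¹⁻¹) * a⁻¹ * b⁻¹ := by group
    _ = c * (a * b * a⁻¹ * b⁻¹) := by rw [h1]; group

theorem relIndex_eq {G : Type u} [Group G] [Finite G] {K H K' H' : Subgroup G} (h : K ≤ H)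
    (h' : K' ≤ H') (e : Nat.card K' = Nat.card K) (e' : Nat.card H' = Nat.card H) :
    K'.relIndex H' = K.relIndex H := by
  have h1 := (K.subgroupOf H).index_mul_card
  have h2 := (K'.subgroupOf H').index_mul_card
  rw [Nat.card_congr (subgroupOfEquivOfLe h).toEquiv] at h1
  rw [Nat.card_congr (subgroupOfEquivOfLe h').toEquiv, e, e', ← h1] at h2
  exact Nat.eq_of_mul_eq_mul_right Nat.card_pos h2

theorem cf (fr : FrStmt.{u}) (cp : CpStmt.{u}) (witt : WittStmt.{u}) (hall : HallStmt.{u})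
    (blk : BlkStmt.{u}) : CfStmt.{u} := by
  intro G Ω _ _ _ _ K P hE F hF c hcF hcK hc
  have hb := blk G Ω K P hE F hF
  have hodd := hb.2.1
  have hb' := hb.2.2.2.2.2.2.2.2.2.2.1
  have cp0 := cp G _ _ (hE.fr F hF) hodd c hcF hcK hc
  have fr0 := fr G _ _ (hE.fr F hF)
  have hFΦ : F ⊆ F1 Ω c := fun x hx => mem_St.1 hcF x hx
  have htr := witt G Ω hE.tr F hF (zpowers c) (zpowers_le.2 hcF) fun g hg => by
    obtain ⟨k, hk, h1⟩ := cp0.conj _ (hg c (mem_zpowers c)) (orderOf_conj' g c)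
    refine ⟨k, (hE.fr F hF).le hk, ?_⟩
    rintro _ ⟨i, rfl⟩
    change k * (g * c ^ i * g⁻¹) * k⁻¹ ∈ _
    rw [← conj_zpow, ← conj_zpow]
    exact zpow_mem h1 i
  rw [Fx_zpowers] at htr
  have hl : Hl (Nm (zpowers c)) (F1 Ω c) := hall G Ω _ _
    (fun g hg x hx => by rw [← Fx_zpowers] at hx ⊢; exact smul_mem_Fx hg hx) htr F hFΦ hF
    fun g hg => ⟨orderOf g, (cp0.card ▸ hodd).of_dvd_nat (orderOf_dvd_natCard _ hg), by
      rw [pow_orderOf_eq_one]; exact one_mem _⟩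
  refine ⟨hl, fun F' hF' h4 => ?_, fun d hd h4 => ?_, fun hm h6 => ?_⟩
  · obtain ⟨-, -, e1, e2⟩ := hb' F' h4
    have hK : c ∉ K F' := fun h => hc.one_lt.ne' (Nat.eq_one_of_dvd_coprimes fr0.1
      (e1 ▸ orderOf_dvd_natCard _ h) (fr0.2.1 c hcF hcK))
    exact ⟨hK, cp G _ _ (hE.fr F' h4) (blk G Ω K P hE F' h4).2.1 c
      (mem_St.2 fun x hx => hF' hx) hK hc, relIndex_eq (hE.fr F hF).le (hE.fr F' h4).le e1 e2⟩
  · obtain ⟨F', hF', h4'⟩ := Set.exists_subset_card_eq h4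
    obtain ⟨⟨g, rfl⟩, -⟩ := hb' F' h4'
    have h1 : g⁻¹ * d * g⁻¹⁻¹ ∈ St G F := by
      rw [← conj_mem_St (g := g)]
      simpa only [inv_inv, mul_assoc, mul_inv_cancel_left, mul_inv_cancel, mul_one] using
        (mem_St.2 fun x hx => hF' hx : d ∈ St G (g • F))
    obtain ⟨k, -, h2⟩ := cp0.conj _ h1 (by rw [orderOf_conj', hd])
    exact ⟨k * g⁻¹, by simpa only [mul_inv_rev, mul_assoc] using h2⟩
  · exact (hl.perf h6).trans (sup_le (comm_le c) fun g hg =>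
      mem_Ce.2 (cp0.cen hm g ⟨hg.1, St_anti hFΦ hg.2⟩))

end Cfsg.Agent.H62.Q4Cf
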