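import Cfsg.Agent.H62.Q4Lift6

/-! Project Q4 (S3404), piece F6R: a fusion argument. -/

set_option autoImplicit false
set_option linter.unusedSectionVars false

namespace Cfsg.Agent.H62.Q4F6r

open Subgroup Equiv Function Cfsg.Agent.H58.Q4
open scoped Pointwise

universe u

theorem perm6 : ∀ σ : Perm (Fin 6), σ 0 = 0 → σ 1 = 1 → σ 2 = 2 → σ ^ 3 = 1 →
    σ = 1 ∨ σ = c[3, 4, 5] ∨ σ = c[3, 4, 5]⁻¹ := by
  decide +kernel

section grp
variable {G : Type u} [Group G]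

theorem zp3 {c k : G} (hc : orderOf c = 3) (hk : k ∈ zpowers c) : k = 1 ∨ k = c ∨ k = c⁻¹ := by
  have h3 : c ^ 3 = 1 := by rw [← hc, pow_orderOf_eq_one]
  obtain ⟨i, rfl⟩ := hk
  have h3' : c ^ (3 : ℤ) = 1 := by exact_mod_cast h3
  have e : c ^ i = c ^ (i % 3) := by
    conv_lhs => rw [← Int.mul_ediv_add_emod i 3, zpow_add, zpow_mul, h3', one_zpow, one_mul]
  have : i % 3 = 0 ∨ i % 3 = 1 ∨ i % 3 = 2 := by omega
  change c ^ i = 1 ∨ c ^ i = c ∨ c ^ i = c⁻¹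
  rcases this with h | h | h <;> rw [e, h]
  · exact Or.inl (zpow_zero c)
  · exact Or.inr (Or.inl (zpow_one c))
  · refine Or.inr (Or.inr (eq_inv_of_mul_eq_one_left ?_))
    rw [← zpow_add_one]; exact h3'

theorem eq_one_of_23 {h : G} (h3 : h ^ 3 = 1) (h2 : h = h⁻¹) : h = 1 := by
  have : h * h = 1 := by nth_rewrite 2 [h2]; exact mul_inv_cancel h
  rw [pow_succ, pow_two, this, one_mul] at h3
  exact h3

/-- elements of order three inverted by an involution -/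
theorem mk_inv [Finite G] {A : Type} [Group A] (ρ : G →* A) (hodd : Odd (Nat.card ρ.ker)) {u x : G}
    (hu : u ∈ centralizer (ρ.ker : Set G)) (huu : u * u = 1)
    (h3 : (ρ x * ρ u * (ρ x)⁻¹ * ρ u) ^ 3 = 1) :
    (x * u * x⁻¹ * u) ^ 3 = 1 ∧ u * (x * u * x⁻¹ * u) * u⁻¹ = (x * u * x⁻¹ * u)⁻¹ := by
  have hi : u⁻¹ = u := inv_eq_of_mul_eq_one_right huu
  have h1 : u * (x * u * x⁻¹ * u) * u⁻¹ = (x * u * x⁻¹ * u)⁻¹ := by
    simp only [mul_inv_rev, inv_inv, hi, mul_assoc, huu, mul_one]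
  refine ⟨?_, h1⟩
  generalize hy : x * u * x⁻¹ * u = y at h1
  have hk : y ^ 3 ∈ ρ.ker := by
    rw [MonoidHom.mem_ker, map_pow, ← hy, map_mul, map_mul, map_mul, map_inv, h3]
  have h2 : u * y ^ 3 * u⁻¹ = (y ^ 3)⁻¹ := by rw [← conj_pow, h1, inv_pow]
  rw [← hu _ hk, mul_inv_cancel_right] at h2
  have h4 : y ^ 3 * y ^ 3 = 1 := by nth_rewrite 2 [h2]; exact mul_inv_cancel _
  exact (Tw.of_sq h4).eq_one (hodd.of_dvd_nat (orderOf_dvd_natCard _ hk))

theorem mk_invol [Finite G] {A : Type} [Group A] (ρ : G →* A) (hodd : Odd (Nat.card ρ.ker)) {u : G}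
    (h2 : ρ u * ρ u = 1) : ∃ m, u ^ m * u ^ m = 1 ∧ ρ (u ^ m) = ρ u := by
  have hk : u * u ∈ ρ.ker := by rw [MonoidHom.mem_ker, map_mul, h2]
  obtain ⟨j, hj⟩ := hodd.of_dvd_nat (orderOf_dvd_natCard _ hk)
  refine ⟨orderOf (u * u), ?_, ?_⟩
  · rw [← Commute.mul_pow (Commute.refl u), pow_orderOf_eq_one]
  · rw [map_pow, hj, pow_succ, pow_mul, pow_two, h2, one_pow, one_mul]

end grp

section act
variable {G Ω : Type u} [Group G] [MulAction G Ω] [Finite G] [Finite Ω]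

theorem F1_inv (g : G) : F1 Ω g⁻¹ = F1 Ω g := by
  ext x; rw [mem_F1, mem_F1, inv_smul_eq_iff, eq_comm]

theorem nc_conj (g c : G) : (F1 Ω (g * c * g⁻¹)).ncard = (F1 Ω c).ncard := by
  rw [F1_conj, Set.ncard_smul_set]

/-- real elements of order three fix at most three points -/
theorem nreal {c u : G} (hc : orderOf c = 3) (hN : Nm (zpowers c) ≤ Ce c)
    (hcf : ∀ d : G, orderOf d = orderOf c → 4 ≤ (F1 Ω d).ncard → ∃ g : G, g * d * g⁻¹ ∈ zpowers c)
    {h : G} (h3 : h ^ 3 = 1) (h1 : h ≠ 1) (hu : u * h * u⁻¹ = h⁻¹) : (F1 Ω h).ncard ≤ 3 := by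
  by_contra hc'
  haveI : Fact (Nat.Prime 3) := ⟨Nat.prime_three⟩
  have ho : orderOf h = 3 := orderOf_eq_prime h3 h1
  obtain ⟨g, hg⟩ := hcf h (ho.trans hc.symm) (by omega)
  have e : (g * u * g⁻¹) * (g * h * g⁻¹) * (g * u * g⁻¹)⁻¹ = (g * h * g⁻¹)⁻¹ := by
    calc _ = g * (u * h * u⁻¹) * g⁻¹ := by group
      _ = _ := by rw [hu]; group
  have hv : (g * u * g⁻¹) * c * (g * u * g⁻¹)⁻¹ = c⁻¹ := by
    rcases zp3 hc hg with h4 | h4 | h4
    · exact absurd (by rw [← orderOf_conj' g, h4, orderOf_one] at ho; exact ho) (by decide)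
    · rwa [h4] at e
    · rw [h4, inv_inv] at e
      exact inv_injective (by rw [inv_inv, conj_inv]; exact e)
  generalize g * u * g⁻¹ = v at hv
  have hvN : v ∈ Nm (zpowers c) := mem_Nm_of_finite (by
    rintro _ ⟨i, rfl⟩
    change v * c ^ i * v⁻¹ ∈ _
    rw [← conj_zpow, hv]
    exact zpow_mem (inv_mem (mem_zpowers c)) i)
  rw [(mem_Ce.1 (hN hvN)).eq, mul_inv_cancel_right] at hv
  have := eq_one_of_23 (by rw [← hc, pow_orderOf_eq_one]) hv
  rw [this, orderOf_one] at hc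
  exact absurd hc (by decide)

theorem core {c u y z : G} {T : Set Ω} (hc : orderOf c = 3) (huc : Commute u c) (hyc : Commute y c)
    (hzc : Commute z c) (hy3 : y ^ 3 = 1) (hz3 : z ^ 3 = 1) (huy : u * y * u⁻¹ = y⁻¹)
    (huz : u * z * u⁻¹ = z⁻¹)
    (nr : ∀ h : G, h ^ 3 = 1 → h ≠ 1 → u * h * u⁻¹ = h⁻¹ → (F1 Ω h).ncard ≤ 3)
    (hT : T.ncard = 3) (hTc : T ⊆ F1 Ω c) (hTy : T ⊆ F1 Ω y) {t : Ω} (ht : t ∈ T) (hzt : z • t ≠ t)
    (hy1 : y ≠ 1) (hzy : z * y * z⁻¹ * y⁻¹ ∈ zpowers c) (h6 : (F1 Ω (c * y)).ncard = 6) :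
    False := by
  have hc3 : c ^ 3 = 1 := by rw [← hc, pow_orderOf_eq_one]
  have hy' := nr y hy3 hy1 huy
  have e1 : u * (c * y) * u⁻¹ = c * y⁻¹ := by rw [← huy, ← mul_assoc, huc.eq]; group
  have h6' : (F1 Ω (c * y⁻¹)).ncard = 6 := by rw [← e1, nc_conj, h6]
  have hyz : Commute z y := by
    rcases zp3 hc hzy with h | h | h
    · exact mul_inv_eq_iff_eq_mul.1 (mul_inv_eq_one.1 h)
    · rw [← nc_conj z y, mul_inv_eq_iff_eq_mul.1 h] at hy'
      omega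
    · rw [← nc_conj z y, mul_inv_eq_iff_eq_mul.1 h, ← F1_inv, mul_inv_rev, inv_inv,
        hyc.inv_left.eq] at hy'
      omega
  have hsub : ∀ x ∈ F1 Ω (c * y), x ∈ F1 Ω c → x ∈ F1 Ω y := fun x hx hx' => by
    rw [mem_F1] at *
    rwa [← hyc.eq, mul_smul, hx'] at hx
  obtain ⟨p, hp, hp'⟩ : ∃ p ∈ F1 Ω (c * y), p ∉ F1 Ω c := by
    by_contra hcon
    push Not at hcon
    have := Set.ncard_le_ncard (fun x hx => hsub x hx (hcon x hx)) (Set.toFinite _)
    omega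
  have hcc : Commute c (c * y) := (Commute.refl c).mul_right hyc.symm
  have hnot : ∀ g : G, Commute g c → g • p ∉ F1 Ω c := fun g hg h => hp' (by
    have := smul_mem_F1 hg.inv_left h
    rwa [inv_smul_smul] at this)
  have n1 : p ≠ c • p := fun h => hp' h.symm
  have n2 : c • p ≠ c • c • p := fun h => n1 (smul_left_cancel c h)
  have n3 : p ≠ c • c • p := fun h => n1 (by
    have : c • c • c • p = p := by
      rw [← mul_smul, ← mul_smul, ← pow_two, ← pow_succ, hc3, one_smul]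
    rw [← h] at this
    exact this.symm)
  have hT3 : ({p, c • p, c • c • p} : Set Ω) = F1 Ω (c * y) \ F1 Ω c := by
    refine Set.eq_of_subset_of_ncard_le ?_ ?_ (Set.toFinite _)
    · rintro x (rfl | rfl | rfl)
      · exact ⟨hp, hp'⟩
      · exact ⟨smul_mem_F1 hcc hp, hnot c (Commute.refl c)⟩
      · exact ⟨smul_mem_F1 hcc (smul_mem_F1 hcc hp), by
          rw [← mul_smul]; exact hnot _ ((Commute.refl c).mul_left (Commute.refl c))⟩
    · have h1 := Set.ncard_inter_add_ncard_sdiff_eq_ncard (F1 Ω (c * y)) (F1 Ω c) (Set.toFinite _)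
      have h2 : T.ncard ≤ (F1 Ω (c * y) ∩ F1 Ω c).ncard := Set.ncard_le_ncard (fun x hx =>
        ⟨by rw [mem_F1, mul_smul, hTy hx, hTc hx], hTc hx⟩) (Set.toFinite _)
      rw [Set.ncard_eq_three.2 ⟨_, _, _, n1, n3, n2, rfl⟩]
      omega
  obtain ⟨j, hj⟩ : ∃ j : ℕ, z • p = c ^ j • p := by
    have : z • p ∈ ({p, c • p, c • c • p} : Set Ω) := by
      rw [hT3]; exact ⟨smul_mem_F1 (hzc.mul_right hyz) hp, hnot z hzc⟩
    rcases this with h | h | h
    · exact ⟨0, by rw [h, pow_zero, one_smul]⟩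
    · exact ⟨1, by rw [h, pow_one]⟩
    · exact ⟨2, by rw [h, pow_two, mul_smul]⟩
  have hyj : Commute z (y ^ j) := hyz.pow_right j
  have hh3 : (z * y ^ j) ^ 3 = 1 := by
    rw [hyj.mul_pow, hz3, ← pow_mul, mul_comm, pow_mul, hy3, one_pow, one_mul]
  have hh1 : z * y ^ j ≠ 1 := fun h => hzt (by
    have h1 : y ^ j • t = t := (MulAction.stabilizer G t).pow_mem (hTy ht) j
    rw [← h1, ← mul_smul, h, one_smul, h1])
  have hhu : u * (z * y ^ j) * u⁻¹ = (z * y ^ j)⁻¹ := by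
    rw [hyj.eq, mul_inv_rev, ← inv_pow, ← huy, ← huz, conj_pow, ← hyj.eq]; group
  have hle := nr _ hh3 hh1 hhu
  have hhc : Commute c (z * y ^ j) := (hzc.mul_left (hyc.pow_left j)).symm
  have hph : p ∈ F1 Ω (z * y ^ j) := by
    have h1 : (c * y) ^ j • p = p := (MulAction.stabilizer G p).pow_mem hp j
    rw [mem_F1, hyj.eq, mul_smul, hj, ← mul_smul, ← hyc.mul_pow, hyc.eq, h1]
  have hup : u • p ∈ F1 Ω (z * y ^ j) := by
    rw [← F1_inv, ← hhu, F1_conj]; exact Set.smul_mem_smul_set hph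
  have hup' : u • p ∉ ({p, c • p, c • c • p} : Set Ω) := by
    rw [hT3]
    rintro ⟨h1, h2⟩
    have h3 : u • p ∈ F1 Ω (c * y⁻¹) := by rw [← e1, F1_conj]; exact Set.smul_mem_smul_set hp
    generalize u • p = x at h1 h2 h3
    rw [mem_F1, mul_smul] at h1 h3
    have h4 : y • y • x = x := by
      rw [smul_left_cancel c (h1.trans h3.symm), smul_inv_smul]
    have h5 : y • x = x := by
      have : y • y • y • x = x := by
        rw [← mul_smul, ← mul_smul, ← pow_two, ← pow_succ, hy3, one_smul]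
      rwa [h4] at this
    rw [h5] at h1
    exact h2 h1
  have : (insert (u • p) ({p, c • p, c • c • p} : Set Ω)).ncard ≤ (F1 Ω (z * y ^ j)).ncard := by
    refine Set.ncard_le_ncard ?_ (Set.toFinite _)
    rintro x (rfl | rfl | rfl | rfl)
    exacts [hup, hph, smul_mem_F1 hhc hph, smul_mem_F1 hhc (smul_mem_F1 hhc hph)]
  rw [Set.ncard_insert_of_notMem hup', Set.ncard_eq_three.2 ⟨_, _, _, n1, n3, n2, rfl⟩] at this
  omega

theorem enum {T Φ : Set Ω} (h : T ⊆ Φ) (hT : T.ncard = 3) (hΦ : Φ.ncard = 6) :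
    ∃ e : Fin 6 → Ω, Injective e ∧ Set.range e = Φ ∧ T = {e 0, e 1, e 2} := by
  have h3 : (Φ \ T).ncard = 3 := by rw [Set.ncard_sdiff h (Set.toFinite _)]; omega
  obtain ⟨a, b, c, hab, hac, hbc, rfl⟩ := Set.ncard_eq_three.1 hT
  obtain ⟨d, e, f, hde, hdf, hef, h'⟩ := Set.ncard_eq_three.1 h3
  have hr : Set.range ![a, b, c, d, e, f] = Φ := by
    rw [← Set.union_sdiff_cancel h, h']
    ext x
    simp only [Matrix.range_cons, Matrix.range_empty, Set.mem_union, Set.mem_singleton_iff,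
      Set.mem_insert_iff, Set.mem_empty_iff_false]
    tauto
  refine ⟨![a, b, c, d, e, f], ?_, hr, rfl⟩
  rw [← Set.injOn_univ]
  refine Set.injOn_of_ncard_image_eq ?_
  rw [Set.image_univ, hr, hΦ, Set.ncard_univ, Nat.card_fin]

end act

theorem f6r (fr : FrStmt.{u}) (blk : BlkStmt.{u}) (cf : CfStmt.{u}) (_ord : OrdStmt.{u})
    (lift : LiftStmt.{u}) : F6rStmt.{u} := by
  intro G Ω _ _ _ _ K P hE F hF T hTF hT c hcF hcK hc h6 _ d hd hcd
  obtain ⟨hl, hcp, hcf, hN⟩ := cf G Ω K P hE F hF c hcF hcK (hc ▸ Nat.prime_three)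
  have hodd := (blk G Ω K P hE F hF).2.1
  have h3 : 3 ∣ (K F).relIndex (St G F) := hc ▸ (fr G _ _ (hE.fr F hF)).2.1 c hcF hcK
  have hmin : orderOf c = ((K F).relIndex (St G F)).minFac := by
    generalize (K F).relIndex (St G F) = n at hodd h3
    have h1 := Nat.minFac_le_of_dvd (by norm_num) h3
    have h2 := (Nat.minFac_prime (n := n) (by rintro rfl; omega)).two_le
    have h4 : n.minFac ≠ 2 := fun h => by
      have := Nat.minFac_dvd n
      rw [h] at this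
      obtain ⟨k, hk⟩ := hodd
      omega
    omega
  replace hN := hN hmin (by omega)
  have hFΦ : F ⊆ F1 Ω c := fun x hx => mem_St.1 hcF x hx
  obtain ⟨-, cp, -⟩ := hcp F hFΦ hF
  obtain ⟨e, he, hr, rfl⟩ := enum (hTF.trans hFΦ) hT h6
  obtain ⟨ρ, hρ, -, hρ'⟩ := hl.co 6 e he hr
  have hA := hρ' (Or.inl rfl)
  have hk : ρ.ker = (Nm (zpowers c) ⊓ St G F).subgroupOf (Nm (zpowers c)) := by
    ext n
    rw [MonoidHom.mem_ker, mem_subgroupOf]
    constructor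
    · intro h
      refine ⟨n.2, mem_St.2 fun x hx => ?_⟩
      obtain ⟨i, rfl⟩ : x ∈ Set.range e := hr ▸ hFΦ hx
      rw [hρ, h, Perm.one_apply]
    · intro h
      have h1 := hl.sharp (by omega) F hFΦ hF h
      refine Perm.ext fun i => he ?_
      rw [← hρ, Perm.one_apply]
      exact mem_St.1 h1 _ (hr ▸ ⟨i, rfl⟩)
  have ek : ρ.ker ≃* ↥(Nm (zpowers c) ⊓ St G F) :=
    (MulEquiv.subgroupCongr hk).trans (subgroupOfEquivOfLe inf_le_left)
  have ho : Odd (Nat.card ρ.ker) := by rwa [Nat.card_congr ek.toEquiv, cp.card]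
  have hz : IsZGroup ρ.ker := by
    have := cp.zg
    exact IsZGroup.of_injective (f := ek.toMonoidHom) ek.injective
  have hu3 : ∀ k ∈ ρ.ker, k ^ 3 = 1 → (k : G) ∈ zpowers c := fun k hk' h =>
    cp.uniq k (by rw [hk] at hk'; exact hk') (by rw [hc]; exact congrArg Subtype.val h)
  obtain ⟨u₀, hu₀, eu₀⟩ := Q4Lift6.lift6 lift ρ hA ho hz (swap 0 1 * swap 3 4) (by decide) 5
    (by decide)
  obtain ⟨x, hx, ex⟩ := Q4Lift6.lift6 lift ρ hA ho hz c[3, 4, 5]⁻¹ (by decide) 0 (by decide)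
  obtain ⟨w, hw, ew⟩ := Q4Lift6.lift6 lift ρ hA ho hz c[0, 1, 2] (by decide) 5 (by decide)
  obtain ⟨m, huu, eu⟩ := mk_invol ρ ho (u := u₀) (by rw [eu₀]; decide)
  rw [eu₀] at eu
  have hu := pow_mem hu₀ m
  generalize u₀ ^ m = u at huu eu hu
  obtain ⟨hy3, huy⟩ := mk_inv ρ ho hu huu (x := x) (by rw [ex, eu]; decide +kernel)
  obtain ⟨hz3, huz⟩ := mk_inv ρ ho hu huu (x := w) (by rw [ew, eu]; decide +kernel)
  have hy := mul_mem (mul_mem (mul_mem hx hu) (inv_mem hx)) hu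
  have ey : ρ (x * u * x⁻¹ * u) = c[3, 4, 5] := by
    rw [map_mul, map_mul, map_mul, map_inv, ex, eu]; decide
  have ez : ρ (w * u * w⁻¹ * u) = c[0, 1, 2]⁻¹ := by
    rw [map_mul, map_mul, map_mul, map_inv, ew, eu]; decide
  generalize x * u * x⁻¹ * u = y at hy3 huy hy ey
  generalize w * u * w⁻¹ * u = z at hz3 huz ez
  have hcom : ∀ n : Nm (zpowers c), Commute (n : G) c := fun n => mem_Ce.1 (hN n.2)
  have hkey : ∀ k ∈ ρ.ker, ∀ y' ∈ centralizer (ρ.ker : Set (Nm (zpowers c))), y' ^ 3 = 1 →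
      (k * y') ^ 3 = 1 → (k : G) ∈ zpowers c := fun k hk' y' hy' h1 h2 => by
    rw [Commute.mul_pow (hy' k hk'), h1, mul_one] at h2
    exact hu3 k hk' h2
  have nr : ∀ h : G, h ^ 3 = 1 → h ≠ 1 → u * h * (u : G)⁻¹ = h⁻¹ → (F1 Ω h).ncard ≤ 3 :=
    fun h => nreal hc hN hcf
  have hy3' : (y : G) ^ 3 = 1 := congrArg Subtype.val hy3
  have huy' : u * y * (u : G)⁻¹ = (y : G)⁻¹ := congrArg Subtype.val huy
  have hy1 : (y : G) ≠ 1 := fun h => by
    rw [show y = 1 from Subtype.ext h, map_one] at ey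
    exact absurd ey (by decide)
  have hn6 : (F1 Ω (c * y)).ncard ≠ 6 := fun h6' =>
    core (T := {e 0, e 1, e 2}) (t := e 0) hc (hcom u) (hcom y) (hcom z) hy3'
      (congrArg Subtype.val hz3) huy' (congrArg Subtype.val huz) nr hT (hTF.trans hFΦ)
      (by rintro _ (rfl | rfl | rfl) <;> (rw [mem_F1, hρ, ey]; rfl)) (Or.inl rfl)
      (by rw [hρ, ez]; exact fun h => absurd (he h) (by decide)) hy1
      (hkey (z * y * z⁻¹ * y⁻¹) (by
          rw [MonoidHom.mem_ker, map_mul, map_mul, map_mul, map_inv, map_inv, ey, ez]; decide)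
        y hy hy3 (by rw [inv_mul_cancel_right, conj_pow, hy3, mul_one, mul_inv_cancel])) h6'
  have hn6' : (F1 Ω (c * (y : G)⁻¹)).ncard ≠ 6 := by
    have e1 : u * (c * y) * (u : G)⁻¹ = c * (y : G)⁻¹ := by
      rw [← huy', ← mul_assoc, (hcom u).eq]; group
    rwa [← e1, nc_conj]
  have hy' := nr y hy3' hy1 huy'
  obtain ⟨g, rfl⟩ := isConj_iff.1 hcd
  have hd6 : (F1 Ω (g * c * g⁻¹)).ncard = 6 := by rw [nc_conj, h6]
  have hd3 : (g * c * g⁻¹) ^ 3 = 1 := by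
    rw [conj_pow, ← hc, pow_orderOf_eq_one, mul_one, mul_inv_cancel]
  generalize g * c * g⁻¹ = d at hd hd6 hd3
  obtain ⟨d, rfl⟩ : ∃ d' : Nm (zpowers c), (d' : G) = d := ⟨⟨d, Ce_le_Nm c hd.1⟩, rfl⟩
  have hd3' : d ^ 3 = 1 := Subtype.ext hd3
  have hfix : ∀ i, e i ∈ ({e 0, e 1, e 2} : Set Ω) → ρ d i = i := fun i hi =>
    he (by rw [← hρ]; exact mem_St.1 hd.2 _ hi)
  rcases perm6 (ρ d) (hfix 0 (by simp)) (hfix 1 (by simp)) (hfix 2 (by simp))
    (by rw [← map_pow, hd3', map_one]) with h | h | h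
  · exact hu3 d h hd3'
  · exfalso
    have h1 := hkey (d * y⁻¹) (by rw [MonoidHom.mem_ker, map_mul, map_inv, h, ey, mul_inv_cancel])
      y hy hy3 (by rw [inv_mul_cancel_right, hd3'])
    rcases zp3 hc h1 with h2 | h2 | h2
    · rw [mul_inv_eq_one.1 (show (d : G) * (y : G)⁻¹ = 1 from h2)] at hd6
      omega
    · exact hn6 (by rwa [mul_inv_eq_iff_eq_mul.1 (show (d : G) * (y : G)⁻¹ = c from h2)] at hd6)
    · rw [mul_inv_eq_iff_eq_mul.1 (show (d : G) * (y : G)⁻¹ = c⁻¹ from h2), ← F1_inv, mul_inv_rev,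
        inv_inv, (hcom y).inv_left.eq] at hd6
      exact hn6' hd6
  · exfalso
    have h1 := hkey (d * y) (by rw [MonoidHom.mem_ker, map_mul, h, ey, inv_mul_cancel])
      y⁻¹ (inv_mem hy) (by rw [inv_pow, hy3, inv_one]) (by rw [mul_inv_cancel_right, hd3'])
    rcases zp3 hc h1 with h2 | h2 | h2
    · rw [eq_inv_of_mul_eq_one_left (show (d : G) * (y : G) = 1 from h2), F1_inv] at hd6
      omega
    · exact hn6' (by rwa [eq_mul_inv_of_mul_eq (show (d : G) * (y : G) = c from h2)] at hd6)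
    · rw [eq_mul_inv_of_mul_eq (show (d : G) * (y : G) = c⁻¹ from h2), ← mul_inv_rev, F1_inv,
        (hcom y).eq] at hd6
      exact hn6 hd6

end Cfsg.Agent.H62.Q4F6r
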