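import Mathlib
import Cfsg.Agent.H62.Suborbit
import Cfsg.Agent.H84.CoreOf
import Cfsg.Agent.H3.Fitting

set_option autoImplicit false

namespace Cfsg.Agent.H62

open MulAction Cfsg

/-- The kernel of `G_a` on the suborbit through `b` is the core of `G_a ⊓ G_b` in `G_a`. -/
theorem mem_ker_suborbit_iff {G Ω : Type*} [Group G] [MulAction G Ω] (a b : Ω)
    (x : stabilizer G a) :
    x ∈ (toPermHom (stabilizer G a) (orbit (stabilizer G a) b)).ker ↔
      (x : G) ∈ coreIn (stabilizer G a) (stabilizer G a ⊓ stabilizer G b) := by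
  rw [MonoidHom.mem_ker, mem_coreIn]
  constructor
  · intro h
    refine ⟨x.2, fun m hm => ⟨?_, ?_⟩⟩
    · exact Subgroup.mul_mem _ (Subgroup.mul_mem _ hm x.2) (Subgroup.inv_mem _ hm)
    · have h1 := congrArg (fun σ : Equiv.Perm (orbit (stabilizer G a) b) =>
        ((σ ⟨(⟨m, hm⟩ : stabilizer G a)⁻¹ • b, mem_orbit _ _⟩ : orbit (stabilizer G a) b) : Ω)) h
      have h2 : (x : G) • m⁻¹ • b = m⁻¹ • b := h1
      show (m * x * m⁻¹) • b = b
      rw [mul_smul, mul_smul, h2, smul_inv_smul]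
  · rintro ⟨-, h⟩
    ext ⟨_, m, rfl⟩
    have h1 : ((m : G)⁻¹ * x * (m : G)⁻¹⁻¹) • b = b := (h (m : G)⁻¹ (Subgroup.inv_mem _ m.2)).2
    rw [inv_inv, mul_smul, mul_smul, inv_smul_eq_iff] at h1
    exact h1

theorem normalizer_eq_stabilizer {G Ω : Type*} [Group G] [MulAction G Ω] [FaithfulSMul G Ω]
    [IsPreprimitive G Ω] (K : Subgroup G) (a : Ω) (hK : K ≤ stabilizer G a)
    (h : stabilizer G a ≤ Subgroup.normalizer (K : Set G)) (hne : K ≠ ⊥) :
    Subgroup.normalizer (K : Set G) = stabilizer G a := by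
  refine le_antisymm (fun g hg => ?_) h
  by_contra hga
  exact hne (eq_bot_of_normalized K a hK h g hga hg)

/-- If `O_p(G_ab)` acts trivially on the suborbit `b^{G_a}`, it is trivial. -/
theorem pCoreOf_inf_eq_bot {G Ω : Type*} [Group G] [Finite G] [MulAction G Ω] [FaithfulSMul G Ω]
    [IsPreprimitive G Ω] (a b : Ω) (hab : a ≠ b) (p : ℕ) (hp : p.Prime)
    (h : pCoreOf p (stabilizer G a ⊓ stabilizer G b) ≤
      coreIn (stabilizer G a) (stabilizer G a ⊓ stabilizer G b)) :
    pCoreOf p (stabilizer G a ⊓ stabilizer G b) = ⊥ := by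
  haveI := Fact.mk hp
  set K := stabilizer G a ⊓ stabilizer G b with hK
  set A := coreIn (stabilizer G a) K with hA
  set Q := pCoreOf p K with hQ
  have hAK : A ≤ K := coreIn_le_right _ _
  have hQA : Q = pCoreOf p A := by
    apply le_antisymm
    · exact H84.pCoreOf_le_pCoreOf_of_le hAK h
    · exact H84.pCoreOf_le_pCoreOf_of_normal hAK (inf_le_left.trans (le_normalizer_coreIn _ _))
  have hQa : Q ≤ stabilizer G a := (H84.pCoreOf_le p K).trans inf_le_left
  have hQb : Q ≤ stabilizer G b := (H84.pCoreOf_le p K).trans inf_le_right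
  have hnQ : stabilizer G a ≤ Subgroup.normalizer (Q : Set G) := by
    rw [hQA]
    exact (le_normalizer_coreIn _ _).trans (H84.normalizer_le_normalizer_pCoreOf A)
  by_contra hne
  have hN := normalizer_eq_stabilizer Q a hQa hnQ hne
  obtain ⟨g, hg⟩ := exists_smul_eq G a b
  have hb : stabilizer G b = H84.cj g (stabilizer G a) := by
    rw [← hg, stabilizer_smul_eq_stabilizer_map_conj]
  set Q' := H84.cj g Q with hQ'
  have hQ'b : Q' ≤ stabilizer G b := by rw [hb]; exact Subgroup.map_mono hQa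
  have hnQ' : stabilizer G b ≤ Subgroup.normalizer (Q' : Set G) := by
    rw [hb, H84.le_normalizer_iff']
    rintro _ ⟨x, hx, rfl⟩ _ ⟨y, hy, rfl⟩
    refine ⟨x * y * x⁻¹, H84.conj_mem_of_le_normalizer hnQ hx hy, ?_⟩
    simp [mul_assoc]
  have hpQ : IsPGroup p Q := H84.isPGroup_pCoreOf p K
  have hpQ' : IsPGroup p Q' := hpQ.map _
  have hpP : IsPGroup p ↥(Q ⊔ Q') := hpQ.to_sup_of_normal_right' hpQ' (hQb.trans hnQ')
  have hPK : (Q ⊔ Q') ⊓ K ≤ Q := by
    refine H84.le_pCoreOf inf_le_right ?_ hpP.to_inf_left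
    exact H84.inf_le_normalizer_inf (H84.le_normalizer_sup (inf_le_left.trans hnQ)
      (inf_le_right.trans hnQ')) Subgroup.le_normalizer
  have hQP : Q = Q ⊔ Q' := by
    by_contra hlt
    have h1 := H3.lt_inf_normalizer_of_isNilpotent hpP.isNilpotent
      (lt_of_le_of_ne (le_sup_left : Q ≤ Q ⊔ Q') hlt)
    apply h1.not_ge
    refine le_trans ?_ hPK
    rw [hN]
    exact le_inf inf_le_left (le_inf inf_le_right (inf_le_left.trans (sup_le hQb hQ'b)))
  have hle : Q' ≤ Q := hQP ▸ le_sup_right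
  have heq : Q' = Q := Subgroup.eq_of_le_of_card_ge hle
    (by rw [hQ', Subgroup.card_map_of_injective (MulAut.conj g).injective])
  have hg' : g ∈ stabilizer G a := hN ▸ H84.mem_normalizer_of_cj_eq heq
  exact hab (hg'.symm.trans hg)

/-- If the two-point stabiliser induces on the suborbit a group with trivial Fitting subgroup, then
it has trivial Fitting subgroup. -/
theorem pCoreOf_inf_eq_bot_of_fitting {G Ω : Type*} [Group G] [Finite G] [MulAction G Ω]
    [FaithfulSMul G Ω] [IsPreprimitive G Ω] (a b : Ω) (hab : a ≠ b) (p : ℕ) (hp : p.Prime)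
    (hF : pCore p ↥(((stabilizer G b).subgroupOf (stabilizer G a)).map
      (toPermHom (stabilizer G a) (orbit (stabilizer G a) b))) = ⊥) :
    pCoreOf p (stabilizer G a ⊓ stabilizer G b) = ⊥ := by
  apply pCoreOf_inf_eq_bot a b hab p hp
  intro x hx
  have hxK := H84.pCoreOf_le p _ hx
  rw [← mem_ker_suborbit_iff a b ⟨x, hxK.1⟩, MonoidHom.mem_ker]
  have h1 : (pCoreOf p ((stabilizer G b).subgroupOf (stabilizer G a))).map
      (toPermHom (stabilizer G a) (orbit (stabilizer G a) b)) ≤ ⊥ := by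
    refine (H84.map_pCoreOf_le _ _).trans ?_
    rw [pCoreOf, hF, Subgroup.map_bot]
  apply Subgroup.mem_bot.1 (h1 ⟨⟨x, hxK.1⟩, ?_, rfl⟩)
  have h2 := H84.map_pCoreOf_of_injective (p := p) (stabilizer G a).subtype
    (stabilizer G a).subtype_injective ((stabilizer G b).subgroupOf (stabilizer G a))
  rw [Subgroup.subgroupOf_map_subtype, inf_comm] at h2
  rw [← h2] at hx
  obtain ⟨y, hy, hyx⟩ := hx
  have : y = ⟨x, hxK.1⟩ := Subtype.ext hyx
  rwa [← this]

end Cfsg.Agent.H62
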