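import Cfsg.Agent.H73.BdDefs

set_option autoImplicit false

namespace Cfsg.Agent.H62.BdLat

open Cfsg.Agent.H73.Bd

universe u

def cc (k : ℕ) : ℕ := k * (k + 1) ^ 2 + k ^ 2 + 1

def sc (k : ℕ) : ℕ → ℕ
  | 0 => 1
  | j + 1 => 4 * cc k * (sc k j) ^ k * sc k j

lemma cc_pos (k : ℕ) : 0 < cc k := by unfold cc; positivity

lemma sc_pos (k j : ℕ) : 0 < sc k j := by
  induction j with
  | zero => simp [sc]
  | succ j ih => have := cc_pos k; simp only [sc]; positivity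

lemma sc_le (k j : ℕ) : sc k j ≤ sc k (j + 1) := by
  have h1 := cc_pos k
  have h2 := sc_pos k j
  simp only [sc]
  exact Nat.le_mul_of_pos_left _ (by positivity)

lemma sc_mono (k : ℕ) : Monotone (sc k) := monotone_nat_of_le_succ (sc_le k)

section
variable {ι : Type u} [Fintype ι]

def A (d : ι → ℤ) (q N : ℕ) : Set (ι → ℝ) :=
  {y | ∃ (n : ι → ℤ) (w : ℤ), (∀ i, (q : ℤ) ∣ n i - w * d i) ∧ (∀ i, y i = (n i : ℝ)) ∧
    ∀ i, (N : ℝ) * |(n i : ℝ)| ≤ q}

lemma bnd {k : ℕ} (hk : Fintype.card ι ≤ k) (i0 : ι) (d : ι → ℤ) (q : ℕ)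
    (H : ∀ (u : ℤ) (n : ι → ℤ), (∀ i, (q : ℤ) ∣ n i - u * d i) → (q : ℤ) * n i0 ≤ ∑ i, n i ^ 2)
    (n : ι → ℤ) (w : ℤ) (hn : ∀ i, (q : ℤ) ∣ n i - w * d i) (r : ℝ)
    (hr : ∀ i, |(n i : ℝ)| ≤ r) : (q : ℝ) * |(n i0 : ℝ)| ≤ k * r ^ 2 := by
  have h1 := H w n hn
  have h2 := H (-w) (fun i => - n i) (fun i => by
    have e : -n i - -w * d i = -(n i - w * d i) := by ring
    show (q : ℤ) ∣ -n i - -w * d i
    rw [e]; exact (hn i).neg_right)
  simp only [neg_sq] at h2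
  have h1' : (q : ℝ) * (n i0 : ℝ) ≤ ∑ i, (n i : ℝ) ^ 2 := by exact_mod_cast h1
  have h2' : (q : ℝ) * (-(n i0 : ℝ)) ≤ ∑ i, (n i : ℝ) ^ 2 := by exact_mod_cast h2
  have h3 : ∑ i, (n i : ℝ) ^ 2 ≤ k * r ^ 2 := by
    calc ∑ i, (n i : ℝ) ^ 2 ≤ ∑ _i : ι, r ^ 2 := Finset.sum_le_sum fun i _ => by
            rw [← sq_abs]; exact pow_le_pow_left₀ (abs_nonneg _) (hr i) 2
      _ = (Fintype.card ι : ℝ) * r ^ 2 := by simp
      _ ≤ k * r ^ 2 := mul_le_mul_of_nonneg_right (by exact_mod_cast hk) (sq_nonneg _)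
  rcases abs_cases (n i0 : ℝ) with h | h <;> rw [h.1] <;> linarith

lemma step {k : ℕ} (hk : Fintype.card ι ≤ k) (i0 : ι) (d : ι → ℤ) (q : ℕ) (hq : 0 < q)
    (H : ∀ (u : ℤ) (n : ι → ℤ), (∀ i, (q : ℤ) ∣ n i - u * d i) → (q : ℤ) * n i0 ≤ ∑ i, n i ^ 2)
    (N N2 : ℕ) (hN2 : 0 < N2)
    (hs : Submodule.span ℝ (A d q N) ≤ Submodule.span ℝ (A d q N2))
    (n : ι → ℤ) (w : ℤ) (hn : ∀ i, (q : ℤ) ∣ n i - w * d i) (hb : ∀ i, (N : ℝ) * |(n i : ℝ)| ≤ q) :
    (N : ℝ) * N2 * |(n i0 : ℝ)| ≤ cc k * q := by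
  obtain ⟨m, hm, f, hf, hsp⟩ : ∃ m ≤ k, ∃ f : Fin m → ι → ℝ, (∀ j, f j ∈ A d q N2) ∧
      Submodule.span ℝ (Set.range f) = Submodule.span ℝ (A d q N2) := by
    obtain ⟨f, hf, hsp, -⟩ := Submodule.exists_fun_fin_finrank_span_eq ℝ (A d q N2)
    exact ⟨_, (Submodule.finrank_le _).trans (by simpa using hk), f, hf, hsp⟩
  have hmk : (m : ℝ) ≤ k := by exact_mod_cast hm
  have hy : (fun i => (n i : ℝ)) ∈ Submodule.span ℝ (Set.range f) := by
    rw [hsp]; exact hs (Submodule.subset_span ⟨n, w, hn, fun _ => rfl, hb⟩)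
  obtain ⟨c, hc⟩ := (Submodule.mem_span_range_iff_exists_fun ℝ).1 hy
  choose b wb hb1 hb2 hb3 using hf
  have hN2' : (0 : ℝ) < N2 := by exact_mod_cast hN2
  have hq' : (0 : ℝ) < q := by exact_mod_cast hq
  set s : ℝ := N / N2 with hs'
  set r : ℝ := q / N2 with hr
  have hr0 : 0 ≤ r := by positivity
  have hs0 : 0 ≤ s := by positivity
  have hbr : ∀ j i, |(b j i : ℝ)| ≤ r := fun j i => by
    rw [hr, le_div_iff₀ hN2', mul_comm]; exact hb3 j i
  set z : ι → ℤ := fun i => ∑ j, ⌊s * c j⌋ * b j i with hz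
  have hzL : ∀ i, (q : ℤ) ∣ z i - (∑ j, ⌊s * c j⌋ * wb j) * d i := fun i => by
    simp only [hz]
    rw [Finset.sum_mul, ← Finset.sum_sub_distrib]
    refine Finset.dvd_sum fun j _ => ?_
    have := (hb1 j i).mul_left ⌊s * c j⌋
    convert this using 1; ring
  have hdiff : ∀ i, |s * (n i : ℝ) - (z i : ℝ)| ≤ ∑ j, |(b j i : ℝ)| := fun i => by
    have h1 : (n i : ℝ) = ∑ j, c j * (b j i : ℝ) := by
      have := congrFun hc i
      simp only [Finset.sum_apply, Pi.smul_apply, smul_eq_mul, hb2] at this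
      exact this.symm
    have h2 : s * (n i : ℝ) - (z i : ℝ) = ∑ j, Int.fract (s * c j) * (b j i : ℝ) := by
      rw [h1, Finset.mul_sum]
      simp only [hz]
      push_cast
      rw [← Finset.sum_sub_distrib]
      refine Finset.sum_congr rfl fun j _ => ?_
      rw [Int.fract]; ring
    rw [h2]
    refine (Finset.abs_sum_le_sum_abs _ _).trans (Finset.sum_le_sum fun j _ => ?_)
    rw [abs_mul, abs_of_nonneg (Int.fract_nonneg _)]
    exact mul_le_of_le_one_left (abs_nonneg _) (Int.fract_lt_one _).le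
  have hsn : ∀ i, |s * (n i : ℝ)| ≤ r := fun i => by
    rw [abs_mul, abs_of_nonneg hs0, hs', hr, div_mul_eq_mul_div]
    exact div_le_div_of_nonneg_right (hb i) hN2'.le
  have hzr : ∀ i, |(z i : ℝ)| ≤ (k + 1) * r := fun i => by
    have h1 : ∑ j, |(b j i : ℝ)| ≤ k * r := by
      calc ∑ j, |(b j i : ℝ)| ≤ ∑ _j : Fin m, r := Finset.sum_le_sum fun j _ => hbr j i
        _ = m * r := by simp
        _ ≤ k * r := mul_le_mul_of_nonneg_right hmk hr0
    have h2 := hdiff i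
    have h3 := hsn i
    have h4 : |(z i : ℝ)| ≤ |s * (n i : ℝ)| + |s * (n i : ℝ) - (z i : ℝ)| := by
      have := abs_sub (s * (n i : ℝ)) (s * (n i : ℝ) - (z i : ℝ))
      simpa using this
    linarith
  have h1 := bnd hk i0 d q H z _ hzL _ hzr
  have h2 : (q : ℝ) * ∑ j, |(b j i0 : ℝ)| ≤ k * (k * r ^ 2) := by
    rw [Finset.mul_sum]
    calc ∑ j, (q : ℝ) * |(b j i0 : ℝ)| ≤ ∑ _j : Fin m, (k * r ^ 2 : ℝ) :=
          Finset.sum_le_sum fun j _ => bnd hk i0 d q H (b j) _ (hb1 j) r (hbr j)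
      _ = m * (k * r ^ 2) := by simp
      _ ≤ k * (k * r ^ 2) := mul_le_mul_of_nonneg_right hmk (by positivity)
  have h3 : |s * (n i0 : ℝ)| ≤ |(z i0 : ℝ)| + ∑ j, |(b j i0 : ℝ)| := by
    have := abs_add_le (z i0 : ℝ) (s * (n i0 : ℝ) - (z i0 : ℝ))
    have h := hdiff i0
    simp only [add_sub_cancel] at this
    linarith
  have h4 : (q : ℝ) * (s * |(n i0 : ℝ)|) ≤ cc k * r ^ 2 := by
    rw [abs_mul, abs_of_nonneg hs0] at h3
    have := mul_le_mul_of_nonneg_left h3 hq'.le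
    have h5 : (0 : ℝ) ≤ r ^ 2 := sq_nonneg _
    unfold cc
    push_cast
    nlinarith
  have h5 : (q : ℝ) * ((N : ℝ) * N2 * |(n i0 : ℝ)|) ≤ q * (cc k * q) := by
    have e1 : (q : ℝ) * ((N : ℝ) * N2 * |(n i0 : ℝ)|) = (q : ℝ) * (s * |(n i0 : ℝ)|) * N2 ^ 2 := by
      rw [hs']; field_simp
    have e2 : (q : ℝ) * (cc k * q) = cc k * r ^ 2 * N2 ^ 2 := by
      rw [hr]; field_simp
    rw [e1, e2]
    exact mul_le_mul_of_nonneg_right h4 (sq_nonneg _)
  exact le_of_mul_le_mul_left h5 hq'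

lemma exj {k : ℕ} (hk : Fintype.card ι ≤ k) (d : ι → ℤ) (q : ℕ) :
    ∃ j ≤ k, Submodule.span ℝ (A d q (sc k j)) ≤ Submodule.span ℝ (A d q (sc k (j + 1))) := by
  by_contra hcon
  push Not at hcon
  have hle : ∀ j, Submodule.span ℝ (A d q (sc k (j + 1))) ≤ Submodule.span ℝ (A d q (sc k j)) :=
    fun j => Submodule.span_mono (by
      rintro y ⟨n, w, h1, h2, h3⟩
      refine ⟨n, w, h1, h2, fun i => le_trans ?_ (h3 i)⟩
      exact mul_le_mul_of_nonneg_right (by exact_mod_cast sc_le k j) (abs_nonneg _))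
  have key : ∀ j, j ≤ k + 1 → Module.finrank ℝ (Submodule.span ℝ (A d q (sc k j))) + j ≤ k := by
    intro j
    induction j with
    | zero => intro _; exact (Submodule.finrank_le _).trans (by simpa using hk)
    | succ j ih =>
      intro hj
      have h1 := ih (by omega)
      have h2 := Submodule.finrank_lt_finrank_of_lt
        (lt_of_le_not_ge (hle j) (hcon j (by omega)))
      omega
  have := key (k + 1) le_rfl
  omega

end

theorem lat : LatStmt.{u} := by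
  classical
  intro k
  refine ⟨2 * (sc k k ^ k + 1), fun ι _ hk i0 d q hq hd H => ?_⟩
  obtain ⟨j, hj, hs⟩ := exj hk d q
  set N := sc k j with hN
  have hN0 : 0 < N := sc_pos k j
  set K := N ^ k with hK
  have hK0 : 0 < K := by positivity
  have hKle : K ≤ sc k k ^ k := Nat.pow_le_pow_left (sc_mono k hj) k
  set m := (q - 1) / K with hm
  have hq' : (0 : ℤ) < q := by exact_mod_cast hq
  have hmK : K * m ≤ q - 1 := Nat.mul_div_le _ _
  have hmK2 : q - 1 < K * (m + 1) := Nat.lt_mul_div_succ _ hK0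
  obtain ⟨a, ha, a', ha', hne, he⟩ := Finset.exists_ne_map_eq_of_card_lt_of_maps_to
    (s := Finset.range (K + 1)) (t := Fintype.piFinset fun _ : ι => Finset.Ico (0 : ℤ) N)
    (f := fun t i => (((t * m : ℕ) : ℤ) * d i % q) * N / q)
    (by
      simp only [Fintype.card_piFinset, Int.card_Ico, Finset.prod_const, Finset.card_univ,
        Finset.card_range, sub_zero, Int.toNat_natCast]
      exact Nat.lt_succ_of_le (Nat.pow_le_pow_right hN0 hk))
    (by
      intro t _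
      simp only [Finset.mem_coe, Fintype.mem_piFinset, Finset.mem_Ico]
      intro i
      have h1 := Int.emod_nonneg (((t * m : ℕ) : ℤ) * d i) hq'.ne'
      have h2 := Int.emod_lt_of_pos (((t * m : ℕ) : ℤ) * d i) hq'
      have hN' : (0 : ℤ) < N := by exact_mod_cast hN0
      refine ⟨Int.ediv_nonneg (by positivity) hq'.le, Int.ediv_lt_of_lt_mul hq' ?_⟩
      nlinarith)
  have ha1 : a ≤ K := by simpa [Nat.lt_succ_iff] using ha
  have ha2 : a' ≤ K := by simpa [Nat.lt_succ_iff] using ha'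
  set n : ι → ℤ := fun i => ((a * m : ℕ) : ℤ) * d i % q - ((a' * m : ℕ) : ℤ) * d i % q with hn
  have hnL : ∀ i, (q : ℤ) ∣ n i - (((a * m : ℕ) : ℤ) - ((a' * m : ℕ) : ℤ)) * d i := fun i => by
    simp only [hn, Int.emod_def]
    exact ⟨-(((a * m : ℕ) : ℤ) * d i / q) + ((a' * m : ℕ) : ℤ) * d i / q, by ring⟩
  have hnb : ∀ i, (N : ℝ) * |(n i : ℝ)| ≤ q := fun i => by
    have h0 : (((a * m : ℕ) : ℤ) * d i % q) * N / q = (((a' * m : ℕ) : ℤ) * d i % q) * N / q :=
      congrFun he i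
    set x := ((a * m : ℕ) : ℤ) * d i % q with hx
    set x' := ((a' * m : ℕ) : ℤ) * d i % q with hx'
    have e1 := Int.emod_add_mul_ediv (x * N) q
    have e2 := Int.emod_add_mul_ediv (x' * N) q
    have h1 := Int.emod_nonneg (x * N) hq'.ne'
    have h2 := Int.emod_lt_of_pos (x * N) hq'
    have h3 := Int.emod_nonneg (x' * N) hq'.ne'
    have h4 := Int.emod_lt_of_pos (x' * N) hq'
    rw [h0] at e1
    have h5 : |(N : ℤ) * n i| ≤ q := by
      have : (N : ℤ) * n i = x * N - x' * N := by simp only [hn]; ring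
      rw [this, abs_le]; constructor <;> linarith
    rw [abs_mul, abs_of_nonneg (by positivity : (0 : ℤ) ≤ N)] at h5
    exact_mod_cast h5
  have h1 := step hk i0 d q hq H N (sc k (j + 1)) (sc_pos _ _) hs n _ hnL hnb
  have hlt : ∀ t, t ≤ K → ((t * m : ℕ) : ℤ) * d i0 % q = ((t * m : ℕ) : ℤ) := fun t ht => by
    rw [hd, mul_one]
    refine Int.emod_eq_of_lt (by positivity) ?_
    have : t * m < q := by
      have := Nat.mul_le_mul_right m ht
      omega
    exact_mod_cast this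
  have h2 : (m : ℤ) ≤ |n i0| := by
    simp only [hn, hlt a ha1, hlt a' ha2]
    push_cast
    rw [← sub_mul, abs_mul, abs_of_nonneg (by positivity : (0 : ℤ) ≤ m)]
    have : (1 : ℤ) ≤ |(a : ℤ) - a'| := Int.one_le_abs (by
      intro h; exact hne (by exact_mod_cast sub_eq_zero.1 h))
    exact le_mul_of_one_le_left (by positivity) this
  have h2' : (m : ℝ) ≤ |(n i0 : ℝ)| := by exact_mod_cast h2
  have h3 : ((N * sc k (j + 1) * m : ℕ) : ℝ) ≤ ((cc k * q : ℕ) : ℝ) := by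
    push_cast
    exact le_trans (mul_le_mul_of_nonneg_left h2' (by positivity)) h1
  have h4 : N * sc k (j + 1) * m ≤ cc k * q := by exact_mod_cast h3
  have h5 : cc k * (4 * (K * m)) ≤ cc k * q := by
    refine le_trans ?_ h4
    have e : N * sc k (j + 1) * m = (N * N) * (cc k * (4 * (K * m))) := by
      simp only [sc, ← hN, ← hK]; ring
    rw [e]
    exact Nat.le_mul_of_pos_left _ (by positivity)
  have h6 := Nat.le_of_mul_le_mul_left h5 (cc_pos k)
  rw [Nat.mul_succ] at hmK2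
  omega

end Cfsg.Agent.H62.BdLat
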