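import Mathlib
import Cfsg.Agent.H62.EJ5
import Cfsg.Agent.H62.EJCv
import Cfsg.Agent.H7.EjS0
import Cfsg.Agent.H5.EjSc
import Cfsg.Agent.H5.EjFa
import Cfsg.Agent.H64.EjXT
import Cfsg.Agent.H49.EjEx
import Cfsg.Agent.H87.EJZ
import Cfsg.Agent.H47.EjTrG
import Cfsg.Agent.H38.EjTr
import Cfsg.Agent.Lead.EJV3
import Cfsg.Agent.H98.EjTr
import Cfsg.Agent.H75.EjBB
import Cfsg.Agent.H32.EjK
import Cfsg.Agent.H36.EjSm
import Cfsg.Agent.H39.EJHx2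
import Cfsg.Agent.H75.EjF4
import Cfsg.Agent.H69.EjSz
import Cfsg.Agent.H90.EjRu
import Cfsg.Agent.H43.EJM22F
import Cfsg.Agent.H64.EjL34V
import Cfsg.Agent.H64.EjL34
import Cfsg.Agent.H19.EjRk
import Cfsg.Agent.H21.EvSpA
import Cfsg.Agent.H60.EJSpB
import Cfsg.Agent.H8.EjA6A
import Cfsg.Agent.H90.EjA6B
import Cfsg.Agent.H12.EjSzRu
import Cfsg.Agent.H72.EjCvB
import Cfsg.Agent.H13.EjSpR
import Cfsg.Agent.H78.KtT
import Cfsg.Agent.H47.EjA6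
import Cfsg.Agent.H55.EjM11
import Cfsg.Agent.H55.EjM24
import Cfsg.Agent.H55.EjM12
import Cfsg.Agent.H55.EjJ2
import Cfsg.Agent.H55.EjHS
import Cfsg.Agent.H55.EjM22
import Cfsg.Agent.H43.EJG24
import Cfsg.Agent.H84.EjL5

/-! Quasithin groups of even type, not of even characteristic, VI: the pieces put together. -/

set_option autoImplicit false

namespace Cfsg.Agent.H62.EJ

universe u

theorem loc : Loc.{u} where
  s0 := H7.EjS.s0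
  tr := H7.EjS.tr
  rk := H19.EjRk.rk
  ex1 := H49.EjEx.ex1
  ex2 := H49.EjEx.ex2
  ex3 := H49.EjEx.ex3
  zs := H87.EJZ.zs
  cfs := H87.EJZ.cfs
  trG := H47.EjTr.trG H64.ejxt
  trSp := H38.EjTr.trSp H64.ejxt H47.EjTr.trO
  trA6 := H38.EjTr.trA6 H64.ejxt
  trZ := H98.EJ.trZ
  trV := Lead.EJV.trV H64.ejxt
  trM := H98.EJ.trM H64.ejxt
  trR := H98.EJ.trR H64.ejxt
  bb := H75.EjB.bb
  fa := H5.EJ.fa H5.EJ.sc H5.EJ.c2t
  spA := H21.EvSpA.spA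
  spB := H60.EJ.spB
  a6a := H8.EjA.a6a H7.EjS.tr
  a6b := H90.EjA6B.a6b H5.EJ.c2t
  sz := H12.EjS.sz H5.EJ.sc
  cvN := cvN
  cvO := cvO
  cvB := H72.Ej.cvB
  m4 := H12.EjS.m4
  ru := H12.EjS.ru

theorem kn : Kn.{u} where
  l2e := H32.EjK.kL2E
  u3e := H32.EjK.kU3E
  l3n := H36.EjS.kL3N
  sp4 := H13.EjSp.kSp4
  g2e := H39.EJX.kG2E
  d4 := H39.EJX.k3D4
  f4 := H75.EjF.k2F4
  tits := H78.KT.kTits
  l52 := H84.EJ.kL52
  a8 := H84.EJ.kA8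
  a6 := H47.EjA6.kAl6
  l2p := H36.EjS.kL2P
  l33 := H36.EjS.kL33
  u33 := H36.EjS.kU33
  m11 := H55.EjM11.kM11
  m24 := H55.EjM24.kM24
  sz := H69.EjSz.kSz
  szc := H69.EjSz.kSzC
  m12g := H55.EjM12.kgM12
  m12v := H55.EjM12.kvM12
  m12c := H55.EjM12.kcM12
  j2g := H55.EjJ2.kgJ2
  j2v := H55.EjJ2.kvJ2
  j2c := H55.EjJ2.kcJ2
  hsg := H55.EjHS.kgHS
  hsv := H55.EjHS.kvHS
  hsc := H55.EjHS.kcHS
  rug := H90.Ej.kRuG
  ruc := H90.Ej.kRuC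
  m22g := H55.EjM22.kgM22
  m22v := H55.EjM22.kM22V
  m22c := H55.EjM22.kM22C
  m22f := H43.EJF.kM22F
  l34v := H64.L34V.kL34V
  l34f := H64.L34.kL34F
  g24v := H43.EJG.kvG24
  g24c := H43.EJG.kcG24

end Cfsg.Agent.H62.EJ
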