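import Mathlib
import Cfsg.Agent.H62.ONS
import Cfsg.Agent.H5.Semiregular
import Cfsg.Agent.H5.Supersolvable
import Cfsg.Agent.S0035

/-! Irreducible linear groups in which every vector stabiliser is a maximal subgroup. -/

set_option autoImplicit false

namespace Cfsg.Agent.H62

open MulAction

/-- A faithful irreducible action by automorphisms with maximal stabilisers of non-trivial
elements. -/
structure ExtAff (H V : Type*) [Group H] [CommGroup V] [MulDistribMulAction H V] : Prop where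
  co : ∀ v : V, v ≠ 1 → IsCoatom (stabilizer H v)
  irr : ∀ W : Subgroup V, (∀ h : H, ∀ w ∈ W, h • w ∈ W) → W = ⊥ ∨ W = ⊤
  faith : ∀ h : H, (∀ v : V, h • v = v) → h = 1

/-- The fixed points of a subgroup. -/
def fixSub {H : Type*} (V : Type*) [Group H] [CommGroup V] [MulDistribMulAction H V]
    (K : Subgroup H) : Subgroup V where
  carrier := {w | ∀ k ∈ K, k • w = w}
  one_mem' := fun k _ => smul_one k
  mul_mem' := fun ha hb k hk => by rw [smul_mul', ha k hk, hb k hk]
  inv_mem' := fun ha k hk => by rw [smul_inv', ha k hk]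

theorem mem_fixSub {H V : Type*} [Group H] [CommGroup V] [MulDistribMulAction H V]
    {K : Subgroup H} {w : V} : w ∈ fixSub V K ↔ ∀ k ∈ K, k • w = w := Iff.rfl

theorem exists_invol_of_not_solvable {H : Type*} [Group H] [Finite H] (K : Subgroup H)
    (hFT : Odd (Nat.card K) → Group.IsSolvable K) (hK : ¬ Group.IsSolvable K) :
    ∃ t ∈ K, t ≠ 1 ∧ t * t = 1 := by
  have h2 : 2 ∣ Nat.card K := by
    by_contra h
    exact hK (hFT (Nat.odd_iff.2 (Nat.two_dvd_ne_zero.1 h)))
  haveI : Fact (Nat.Prime 2) := ⟨Nat.prime_two⟩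
  obtain ⟨t, ht⟩ := exists_prime_orderOf_dvd_card' 2 h2
  refine ⟨t, t.2, fun h => ?_, ?_⟩
  · have : t = 1 := Subtype.ext h
    rw [this, orderOf_one] at ht
    exact absurd ht (by decide)
  · have := pow_orderOf_eq_one t
    rw [ht, pow_two] at this
    exact congrArg Subtype.val this

namespace ExtAff

variable {H V : Type*} [Group H] [CommGroup V] [MulDistribMulAction H V]

theorem eq_bot_of_normal (h : ExtAff H V) (K : Subgroup H) [hK : K.Normal] {v : V} (hv : v ≠ 1)
    (hle : K ≤ stabilizer H v) : K = ⊥ := by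
  rcases h.irr (fixSub V K) (fun g w hw k hk => by
    have := hw _ (hK.conj_mem k hk g⁻¹)
    rw [inv_inv, mul_smul, mul_smul, inv_smul_eq_iff] at this
    exact this) with h1 | h1
  · have : v ∈ fixSub V K := fun k hk => hle hk
    rw [h1] at this
    exact absurd this hv
  · rw [eq_bot_iff]
    intro k hk
    exact h.faith k fun w => (h1 ▸ Subgroup.mem_top w : w ∈ fixSub V K) k hk

theorem faithful_orbit (h : ExtAff H V) {v : V} (hv : v ≠ 1) : FaithfulSMul H (orbit H v) := ⟨by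
  intro g g' hg
  have := h.eq_bot_of_normal (toPermHom H (orbit H v)).ker hv (fun k hk => by
    have := congrArg (fun σ : Equiv.Perm (orbit H v) => (σ ⟨v, mem_orbit_self v⟩ : V)) hk
    exact this)
  apply (MonoidHom.ker_eq_bot_iff _).1 this
  ext x
  exact congrArg Subtype.val (hg x)⟩

theorem stabilizer_orbit (v : V) :
    stabilizer H (⟨v, mem_orbit_self v⟩ : orbit H v) = stabilizer H v := by
  ext g
  exact Subtype.ext_iff

theorem preprimitive_orbit (h : ExtAff H V) {v : V} (hv : v ≠ 1) :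
    IsPreprimitive H (orbit H v) := by
  have hco := h.co v hv
  haveI : Nontrivial (orbit H v) := by
    obtain ⟨g, hg⟩ : ∃ g, g ∉ stabilizer H v := by
      by_contra hc
      push Not at hc
      exact hco.1 (eq_top_iff.2 fun g _ => hc g)
    exact ⟨⟨⟨g • v, mem_orbit v g⟩, ⟨v, mem_orbit_self v⟩, fun e => hg (Subtype.ext_iff.1 e)⟩⟩
  rw [← isCoatom_stabilizer_iff_preprimitive H (⟨v, mem_orbit_self v⟩ : orbit H v),
    stabilizer_orbit]
  exact hco

theorem exists_smul_eq_normal (h : ExtAff H V) (S : Subgroup H) [S.Normal] (hS : S ≠ ⊥) {v : V}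
    (hv : v ≠ 1) (g : H) : ∃ s ∈ S, s • v = g • v := by
  haveI := h.faithful_orbit hv
  haveI := h.preprimitive_orbit hv
  haveI := isPretransitive_of_normal_ne_bot (Ω := orbit H v) S hS
  obtain ⟨s, hs⟩ := exists_smul_eq S (⟨v, mem_orbit_self v⟩ : orbit H v) ⟨g • v, mem_orbit v g⟩
  exact ⟨s, s.2, Subtype.ext_iff.1 hs⟩

theorem eq_one_of_centralizes (h : ExtAff H V) (S : Subgroup H) [S.Normal] (hS : S ≠ ⊥) {v : V}
    (hv : v ≠ 1) {c : H} (hc : c ∈ Subgroup.centralizer (S : Set H)) (hcv : c • v = v) : c = 1 := by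
  haveI := h.faithful_orbit hv
  haveI := h.preprimitive_orbit hv
  haveI := isPretransitive_of_normal_ne_bot (Ω := orbit H v) S hS
  exact eq_one_of_mem_centralizer_of_smul_eq S c hc (⟨v, mem_orbit_self v⟩ : orbit H v)
    (Subtype.ext hcv)

theorem not_le_stab (h : ExtAff H V) {S T : Subgroup H} (hT : IsFactor S T) {v : V} (hv : v ≠ 1) :
    ¬ T ≤ stabilizer H v := by
  haveI := h.faithful_orbit hv
  haveI := h.preprimitive_orbit hv
  rw [← stabilizer_orbit]
  exact hT.not_le_stabilizer _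

theorem dichotomy (h : ExtAff H V) {S T : Subgroup H} (hT : IsFactor S T) {v : V} (hv : v ≠ 1) :
    (T ⊓ stabilizer H v = ⊥ ∧ ∀ t ∈ T, ∃ c ∈ cofac S T, (t * c) • v = v) ∨
    (∀ t ∈ T, ∀ c ∈ cofac S T, (t * c) • v = v → t • v = v) := by
  haveI := h.faithful_orbit hv
  haveI := h.preprimitive_orbit hv
  by_cases hR : IsFactor.proj S T (⟨v, mem_orbit_self v⟩ : orbit H v) = T
  · left
    refine ⟨?_, fun t ht => ?_⟩
    · rw [← stabilizer_orbit]
      exact hT.inf_eq_bot_of_proj_eq hR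
    · obtain ⟨-, c, hc, e⟩ : t ∈ IsFactor.proj S T (⟨v, mem_orbit_self v⟩ : orbit H v) :=
        hR.symm ▸ ht
      exact ⟨c, hc, Subtype.ext_iff.1 e⟩
  · right
    intro t ht c hc e
    have := hT.proj_le_stabilizer hR ⟨ht, c, hc, Subtype.ext e⟩
    rwa [stabilizer_orbit] at this

theorem sq_eq_one (h : ExtAff H V) (hsol : ¬ Group.IsSolvable H) {t : H} (ht1 : t ≠ 1)
    (ht : t * t = 1) (v : V) : v * v = 1 := by
  obtain ⟨u, hu⟩ : ∃ u : V, t • u ≠ u := by
    by_contra hc
    push Not at hc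
    exact ht1 (h.faith t hc)
  have hx1 : u⁻¹ * t • u ≠ 1 := fun e => hu (inv_mul_eq_one.1 e).symm
  have hx : t • (u⁻¹ * t • u) = (u⁻¹ * t • u)⁻¹ := by
    rw [smul_mul', smul_smul, ht, one_smul, smul_inv', mul_inv_rev, inv_inv]
  generalize u⁻¹ * t • u = x at hx hx1
  by_cases hxx : x * x = 1
  · let W : Subgroup V :=
      { carrier := {w | w * w = 1}
        one_mem' := mul_one 1
        mul_mem' := fun {a b} ha hb => by
          show a * b * (a * b) = 1
          rw [mul_mul_mul_comm, show a * a = 1 from ha, show b * b = 1 from hb, mul_one]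
        inv_mem' := fun {a} ha => by
          show a⁻¹ * a⁻¹ = 1
          rw [← mul_inv, show a * a = 1 from ha, inv_one] }
    rcases h.irr W (fun g w hw => by
      show g • w * g • w = 1
      rw [← smul_mul', show w * w = 1 from hw, smul_one]) with h1 | h1
    · have : x ∈ W := hxx
      rw [h1] at this
      exact absurd this hx1
    · exact (h1 ▸ Subgroup.mem_top v : v ∈ W)
  exfalso
  let M : Subgroup H :=
    { carrier := {g | g • x = x ∨ g • x = x⁻¹}
      one_mem' := Or.inl (one_smul _ _)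
      mul_mem' := by
        rintro a b (ha | ha) (hb | hb)
        · left; rw [mul_smul, hb, ha]
        · right; rw [mul_smul, hb, smul_inv', ha]
        · right; rw [mul_smul, hb, ha]
        · left; rw [mul_smul, hb, smul_inv', ha, inv_inv]
      inv_mem' := by
        rintro a (ha | ha)
        · left; rw [inv_smul_eq_iff, ha]
        · right; rw [inv_smul_eq_iff, smul_inv', ha, inv_inv] }
  have hM : M = ⊤ := (h.co x hx1).2 M (lt_of_le_of_ne (fun g hg => Or.inl hg) fun e => by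
    have : t ∈ stabilizer H x := e ▸ (Or.inr hx : t ∈ M)
    apply hxx
    have h3 : t • x = x := this
    rw [hx] at h3
    nth_rewrite 1 [← h3]
    exact inv_mul_cancel x)
  have hM' : ∀ g : H, (g • x = x ∧ g⁻¹ • x = x) ∨ (g • x = x⁻¹ ∧ g⁻¹ • x = x⁻¹) := fun g => by
    rcases (hM ▸ Subgroup.mem_top g : g ∈ M) with ha | ha
    · exact Or.inl ⟨ha, by rw [inv_smul_eq_iff, ha]⟩
    · exact Or.inr ⟨ha, by rw [inv_smul_eq_iff, smul_inv', ha, inv_inv]⟩
  have hc : commutator H = ⊥ := h.eq_bot_of_normal _ hx1 (by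
    rw [commutator_def, Subgroup.commutator_le]
    intro a _ b _
    show (a * b * a⁻¹ * b⁻¹) • x = x
    rcases hM' a with ⟨ha, ha'⟩ | ⟨ha, ha'⟩ <;> rcases hM' b with ⟨hb, hb'⟩ | ⟨hb, hb'⟩ <;>
      simp only [mul_smul, ha, hb, ha', hb', smul_inv', inv_inv])
  exact hsol ⟨⟨1, hc⟩⟩

theorem exists_fixed_of_invol [Nontrivial V] (h2 : ∀ v : V, v * v = 1) {t : H} (ht : t * t = 1) :
    ∃ u : V, u ≠ 1 ∧ t • u = u := by
  obtain ⟨u, hu⟩ := exists_ne (1 : V)
  by_cases e : t • u = u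
  · exact ⟨u, hu, e⟩
  · refine ⟨u * t • u, fun e' => e ?_, ?_⟩
    · exact mul_left_cancel (e'.trans (h2 u).symm)
    · rw [smul_mul', smul_smul, ht, one_smul, mul_comm]

theorem solvable_of_comm [Finite H] [Finite V] [Nontrivial V] (h : ExtAff H V) (S : Subgroup H)
    [S.Normal] (hS : S ≠ ⊥) (hc : IsMulCommutative S) : Group.IsSolvable H := by
  have hcyc : IsCyclic S := H5.Semireg.isCyclic_of_comm (A := S) (K := V) (fun a ha k hk => by
    by_contra hk1
    exact ha (Subtype.ext (h.eq_one_of_centralizes S hS hk1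
      (Subgroup.le_centralizer_iff_isMulCommutative.2 hc a.2) hk)))
  obtain ⟨v, hv⟩ := exists_ne (1 : V)
  haveI := h.faithful_orbit hv
  haveI := h.preprimitive_orbit hv
  haveI := isPretransitive_of_normal_ne_bot (Ω := orbit H v) S hS
  have h1 : commutator H ≤ S := (H5.commutator_le_centralizer_of_isCyclic S).trans
    (centralizer_le_of_transitive_comm (Ω := orbit H v) S hc)
  refine ⟨⟨2, ?_⟩⟩
  show ⁅commutator H, commutator H⁆ = ⊥
  rw [Subgroup.commutator_eq_bot_iff_le_centralizer]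
  exact h1.trans ((Subgroup.le_centralizer_iff_isMulCommutative.2 hc).trans
    (Subgroup.centralizer_le h1))

theorem false_of_factor_ne [Finite H] [Finite V] [Nontrivial V] (h : ExtAff H V)
    (h2 : ∀ v : V, v * v = 1) {S T : Subgroup H} (hT : IsFactor S T) (hne : T ≠ S)
    {t₀ : H} (ht₀ : t₀ ∈ T) (ht₀1 : t₀ ≠ 1) (ht₀2 : t₀ * t₀ = 1) : False := by
  haveI := hT.normal
  have hS : S ≠ ⊥ := fun e => hT.ne_bot (eq_bot_iff.2 (e ▸ hT.le))
  obtain ⟨u₀, hu₀, hu₀t⟩ := exists_fixed_of_invol (V := V) h2 ht₀2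
  obtain ⟨v, hv, hmax⟩ := Set.exists_max_image {v : V | v ≠ 1}
    (fun v => Nat.card (T ⊓ stabilizer H v : Subgroup H)) (Set.toFinite _) ⟨u₀, hu₀⟩
  set R : Subgroup H := T ⊓ stabilizer H v with hR
  have hmax' : ∀ u : V, u ≠ 1 → R ≤ stabilizer H u → T ⊓ stabilizer H u = R := fun u hu hle =>
    (Subgroup.eq_of_le_of_card_ge (le_inf inf_le_left hle) (hmax u hu)).symm
  have hR1 : R ≠ ⊥ := by
    intro e
    have := hmax u₀ hu₀
    rw [e, Subgroup.card_bot, Subgroup.card_le_one_iff_eq_bot] at this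
    have h3 : t₀ ∈ T ⊓ stabilizer H u₀ := ⟨ht₀, hu₀t⟩
    rw [this] at h3
    exact ht₀1 h3
  have hprod := (h.dichotomy hT hv).resolve_left fun e => hR1 e.1
  -- an involution of `T` outside `R`
  obtain ⟨t₁, ht₁, ht₁2, ht₁v⟩ : ∃ t ∈ T, t * t = 1 ∧ t • v ≠ v := by
    by_contra hc
    push Not at hc
    let L : Subgroup H :=
      { carrier := {x | x ∈ T ∧ ∀ s ∈ T, (s * x * s⁻¹) • v = v}
        one_mem' := ⟨T.one_mem, fun s _ => by simp⟩
        mul_mem' := by
          rintro a b ⟨ha, ha'⟩ ⟨hb, hb'⟩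
          refine ⟨T.mul_mem ha hb, fun s hs => ?_⟩
          have e : s * (a * b) * s⁻¹ = (s * a * s⁻¹) * (s * b * s⁻¹) := by group
          rw [e, mul_smul, hb' s hs, ha' s hs]
        inv_mem' := by
          rintro a ⟨ha, ha'⟩
          refine ⟨T.inv_mem ha, fun s hs => ?_⟩
          have e : s * a⁻¹ * s⁻¹ = (s * a * s⁻¹)⁻¹ := by group
          rw [e, inv_smul_eq_iff, ha' s hs] }
    rcases hT.simple' L (fun x hx => hx.1) (fun t ht x hx =>
      ⟨hT.conj_mem t (hT.le ht) x hx.1, fun s hs => by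
        have e : s * (t * x * t⁻¹) * s⁻¹ = (s * t) * x * (s * t)⁻¹ := by group
        rw [e]
        exact hx.2 _ (T.mul_mem hs ht)⟩) with h1 | h1
    · have : t₀ ∈ L := ⟨ht₀, fun s hs => hc _ (hT.conj_mem s (hT.le hs) _ ht₀) (by
        calc s * t₀ * s⁻¹ * (s * t₀ * s⁻¹) = s * (t₀ * t₀) * s⁻¹ := by group
          _ = 1 := by rw [ht₀2]; group)⟩
      rw [h1] at this
      exact ht₀1 this
    · apply h.not_le_stab hT hv
      intro x hx
      have := (h1.symm ▸ hx : x ∈ L).2 1 T.one_mem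
      simpa using this
  -- a conjugate involution in the cofactor
  obtain ⟨t₂, ht₂, ht₂2, ht₂v⟩ : ∃ t ∈ cofac S T, t * t = 1 ∧ t • v ≠ v := by
    obtain ⟨g, hg⟩ := hT.exists_conj_cofac hne
    obtain ⟨s, hs, hsg⟩ := h.exists_smul_eq_normal S hS hv g
    refine ⟨s⁻¹ * (g * t₁ * g⁻¹) * s⁻¹⁻¹, hT.conj_mem_cofac (S.inv_mem hs) (hg t₁ ht₁), ?_, ?_⟩
    · calc _ = s⁻¹ * g * (t₁ * t₁) * g⁻¹ * s := by group
        _ = 1 := by rw [ht₁2]; group
    · intro e
      rw [inv_inv, mul_smul, mul_smul, hsg, inv_smul_eq_iff, hsg, smul_smul, inv_mul_cancel_right,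
        mul_smul, smul_left_cancel_iff] at e
      exact ht₁v e
  have hcomm : ∀ c ∈ cofac S T, ∀ t ∈ T, ∀ x : V, c • t • x = t • c • x := fun c hc t ht x => by
    rw [smul_smul, smul_smul, hc.1 t ht]
  have hw1 : v * (t₁ * t₂) • v ≠ 1 := fun e =>
    ht₁v (hprod t₁ ht₁ t₂ ht₂ (mul_left_cancel (e.trans (h2 v).symm)))
  have hww : (t₁ * t₂) • (v * (t₁ * t₂) • v) = v * (t₁ * t₂) • v := by
    have e : t₁ * t₂ * (t₁ * t₂) = 1 := by
      calc t₁ * t₂ * (t₁ * t₂) = t₁ * (t₂ * t₁) * t₂ := by group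
        _ = (t₁ * t₁) * (t₂ * t₂) := by rw [← ht₂.1 t₁ ht₁]; group
        _ = 1 := by rw [ht₁2, ht₂2, mul_one]
    rw [smul_mul', smul_smul, e, one_smul, mul_comm]
  have hX : ∀ c ∈ cofac S T, ∀ x ∈ fixSub V R, c • x ∈ fixSub V R := fun c hc x hx k hk => by
    rw [← hcomm c hc k hk.1, hx k hk]
  have hvX : v ∈ fixSub V R := fun k hk => hk.2
  rcases h.dichotomy hT hw1 with ⟨-, hdiag⟩ | hp
  swap
  · have e1 := hp t₁ ht₁ t₂ ht₂ hww
    rw [smul_mul', smul_smul, ← mul_assoc, ht₁2, one_mul] at e1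
    have hu1 : v * t₂ • v ≠ 1 := fun e => ht₂v (mul_left_cancel (e.trans (h2 v).symm))
    have huX : v * t₂ • v ∈ fixSub V R := Subgroup.mul_mem _ hvX (hX t₂ ht₂ v hvX)
    have e2 := hmax' _ hu1 fun k hk => huX k hk
    have e3 : t₁ ∈ T ⊓ stabilizer H (v * t₂ • v) := ⟨ht₁, by
      show t₁ • (v * t₂ • v) = _
      rw [smul_mul', smul_smul]
      calc t₁ • v * (t₁ * t₂) • v
          = (t₁ • v * t₂ • v) * (t₂ • v * (t₁ * t₂) • v) := by
            rw [mul_assoc, ← mul_assoc (t₂ • v), h2, one_mul]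
        _ = v * t₂ • v * ((t₁ * t₂) • v * (t₁ * t₂) • v) := by rw [e1]; ac_rfl
        _ = _ := by rw [h2, mul_one]⟩
    rw [e2] at e3
    exact ht₁v e3.2
  -- products of fixed point subgroups
  let f : H → (fixSub V R × fixSub V R →* V) := fun g =>
    (fixSub V R).subtype.coprod ((MulDistribMulAction.toMonoidHom V g).comp (fixSub V R).subtype)
  have hf : ∀ g (x : fixSub V R × fixSub V R), f g x = x.1 * g • (x.2 : V) := fun g x => rfl
  have hsurj : Function.Surjective (f t₁) := by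
    rw [← MonoidHom.range_eq_top]
    have hY : ∀ c ∈ cofac S T, ∀ y ∈ (f t₁).range, c • y ∈ (f t₁).range := by
      rintro c hc _ ⟨⟨x, y⟩, rfl⟩
      exact ⟨(⟨_, hX c hc x x.2⟩, ⟨_, hX c hc y y.2⟩), by
        rw [hf, hf, smul_mul', hcomm c hc t₁ ht₁]⟩
    have hwY : v * (t₁ * t₂) • v ∈ (f t₁).range :=
      ⟨(⟨v, hvX⟩, ⟨_, hX t₂ ht₂ v hvX⟩), by rw [hf, mul_smul]⟩
    generalize v * (t₁ * t₂) • v = w at hwY hdiag hw1
    have hall : ∀ g : H, g • w ∈ (f t₁).range := by
      intro g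
      obtain ⟨s, hs, hsg⟩ := h.exists_smul_eq_normal S hS hw1 g
      obtain ⟨t, ht, c, hc, rfl⟩ := hT.decomp s hs
      obtain ⟨c', hc', e⟩ := hdiag t ht
      rw [← hsg]
      have e2 : (t * c) • w = (c * c'⁻¹) • w := by
        have e3 : t * c = (c * c'⁻¹) * (t * c') := by
          rw [hc'.1 t ht, hc.1 t ht]; group
        rw [e3, mul_smul, e]
      rw [e2]
      exact hY _ (Subgroup.mul_mem _ hc (Subgroup.inv_mem _ hc')) _ hwY
    let W : Subgroup V :=
      { carrier := {y | ∀ g : H, g • y ∈ (f t₁).range}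
        one_mem' := fun g => by rw [smul_one]; exact Subgroup.one_mem _
        mul_mem' := fun ha hb g => by rw [smul_mul']; exact Subgroup.mul_mem _ (ha g) (hb g)
        inv_mem' := fun ha g => by rw [smul_inv']; exact Subgroup.inv_mem _ (ha g) }
    rcases h.irr W (fun g y hy g' => by rw [smul_smul]; exact hy _) with h1 | h1
    · have : w ∈ W := hall
      rw [h1] at this
      exact absurd this hw1
    · rw [eq_top_iff]
      intro y _
      have := (h1 ▸ Subgroup.mem_top y : y ∈ W) 1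
      rwa [one_smul] at this
  -- `R` is self-normalising
  have hself : ∀ g ∈ T, (∀ k ∈ R, g * k * g⁻¹ ∈ R) → g • v = v := by
    intro g hg hgR
    have hN : Subgroup.normalizer ((S ⊓ stabilizer H v : Subgroup H) : Set H) = stabilizer H v := by
      by_contra hc
      have h1 := (h.co v hv).2 _ (lt_of_le_of_ne (fun m hm => by
        apply Subgroup.mem_normalizer_fintype
        intro n hn
        exact ⟨hT.normal.conj_mem n hn.1 m, Subgroup.mul_mem _ (Subgroup.mul_mem _ hm hn.2)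
          (Subgroup.inv_mem _ hm)⟩) (Ne.symm hc))
      haveI := Subgroup.normalizer_eq_top_iff.1 h1
      have h3 := h.eq_bot_of_normal (S ⊓ stabilizer H v) hv inf_le_right
      exact hR1 (eq_bot_iff.2 (h3 ▸ inf_le_inf_right _ hT.le))
    rw [← mem_stabilizer_iff, ← hN]
    apply Subgroup.mem_normalizer_fintype
    intro n hn
    refine ⟨hT.normal.conj_mem n hn.1 g, ?_⟩
    obtain ⟨t, ht, c, hc, rfl⟩ := hT.decomp n hn.1
    have h1 : t • v = v := hprod t ht c hc hn.2
    have h3 : c • v = v := by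
      have : (t * c) • v = v := hn.2
      rwa [hc.1 t ht, mul_smul, h1] at this
    have e : g * (t * c) * g⁻¹ = (g * t * g⁻¹) * c := by
      rw [mul_assoc g (t * c), mul_assoc t c, ← hc.1 _ (T.inv_mem hg)]; group
    rw [e]
    exact Subgroup.mul_mem _ (hgR t ⟨ht, h1⟩).2 h3
  have hTI : ∀ g ∈ T, g • v ≠ v → ∀ k ∈ R, g⁻¹ * k * g ∈ R → k = 1 := by
    intro g hg hgv k hk hk'
    by_cases hinj : Function.Injective (f g)
    · have hbij : Function.Bijective (f g) :=
        hinj.bijective_of_nat_card_le (Nat.card_le_card_of_surjective _ hsurj)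
      apply h.faith
      intro y
      obtain ⟨⟨x, x'⟩, rfl⟩ := hbij.2 y
      have e : k • g • (x' : V) = g • (x' : V) := by
        have := x'.2 _ hk'
        rwa [mul_smul, mul_smul, inv_smul_eq_iff] at this
      rw [hf, smul_mul', x.2 k hk, e]
    · exfalso
      rw [injective_iff_map_eq_one] at hinj
      push Not at hinj
      obtain ⟨⟨x, x'⟩, e, hne1⟩ := hinj
      rw [hf] at e
      have e' : g • (x' : V) = x := mul_left_cancel (e.trans (h2 x).symm)
      have hx1 : (x : V) ≠ 1 := by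
        intro e1
        apply hne1
        have : (x' : V) = 1 := by
          rw [e1, smul_eq_iff_eq_inv_smul, smul_one] at e'
          exact e'
        exact Prod.ext (Subtype.ext e1) (Subtype.ext this)
      have e2 := hmax' x hx1 fun k hk => x.2 k hk
      apply hgv
      refine hself g hg fun k hk => ?_
      rw [← e2]
      refine ⟨hT.conj_mem g (hT.le hg) k hk.1, ?_⟩
      show (g * k * g⁻¹) • (x : V) = x
      rw [← e', smul_smul, inv_mul_cancel_right, mul_smul, x'.2 k hk]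
  have hRT : R.subgroupOf T ≠ ⊤ := fun e =>
    h.not_le_stab hT hv ((Subgroup.subgroupOf_eq_top.1 e).trans inf_le_right)
  have hR1' : R.subgroupOf T ≠ ⊥ := fun e =>
    hR1 (((Subgroup.subgroupOf_eq_bot).1 e).eq_bot_of_le inf_le_left)
  obtain ⟨N, -, hN, hcompl⟩ := S0035.result (R.subgroupOf T) ⟨hR1', hRT, fun g hg => by
    rw [eq_bot_iff]
    rintro k ⟨hk, hk'⟩
    refine Subtype.ext (hTI g g.2 (fun e => hg ⟨g.2, e⟩) k hk ?_)
    have hk'' := Subgroup.mem_pointwise_smul_iff_inv_smul_mem.1 hk'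
    simpa [Subgroup.mem_subgroupOf] using hk''⟩
  haveI := hT.isSimpleGroup
  rcases hN.eq_bot_or_eq_top with e | e
  · rw [e] at hcompl
    exact hRT (Subgroup.isComplement'_bot_left.1 hcompl)
  · rw [e] at hcompl
    exact hR1' (Subgroup.isComplement'_top_left.1 hcompl)

theorem almost_simple [Finite H] [Finite V] [Nontrivial V] (h : ExtAff H V)
    (hFT : ∀ K : Subgroup H, Odd (Nat.card K) → Group.IsSolvable K)
    (hsol : ¬ Group.IsSolvable H) :
    (∀ v : V, v * v = 1) ∧ ∃ T : Subgroup H, T.Normal ∧ IsSimpleGroup T ∧ ¬ IsMulCommutative T ∧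
      Subgroup.centralizer (T : Set H) = ⊥ := by
  have htop : ¬ Group.IsSolvable (⊤ : Subgroup H) := fun hs =>
    hsol (Group.isSolvable_of_surjective (f := (⊤ : Subgroup H).subtype) fun x => ⟨⟨x, trivial⟩, rfl⟩)
  obtain ⟨t, -, ht1, ht2⟩ := exists_invol_of_not_solvable ⊤ (hFT ⊤) htop
  have h2 := h.sq_eq_one hsol ht1 ht2
  refine ⟨h2, ?_⟩
  obtain ⟨S, hSn, hS, -, hmin⟩ := H2.exists_minimal_normal_le (⊤ : Subgroup H) (fun e => htop (by
    rw [e]; infer_instance))
  have hc : ¬ IsMulCommutative S := fun hc => hsol (h.solvable_of_comm S hS hc)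
  obtain ⟨T, hT⟩ := exists_isFactor S hmin hc
  haveI := hT.isSimpleGroup
  obtain ⟨t₀, ht₀, ht₀1, ht₀2⟩ := exists_invol_of_not_solvable T (hFT T) fun hs =>
    hT.noncommT (IsSimpleGroup.comm_iff_isSolvable.2 hs |> fun hh => ⟨⟨hh⟩⟩)
  by_cases hne : T = S
  · subst hne
    refine ⟨T, hSn, inferInstance, hc, ?_⟩
    by_contra hC
    obtain ⟨u, hu, hu'⟩ := exists_fixed_of_invol (V := V) h2 ht₀2
    exact ht₀1 (h.eq_one_of_centralizes _ hC hu (fun c hc => (hc t₀ ht₀).symm) hu')
  · exact (h.false_of_factor_ne h2 hT hne ht₀ ht₀1 ht₀2).elim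

end ExtAff

end Cfsg.Agent.H62
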