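import Mathlib
import Cfsg.Agent.H62.ONS
import Cfsg.Agent.H86.NPC
import Cfsg.Agent.H8.Tate
import Cfsg.Agent.S0108

/-! The key lemma for extremely primitive groups: a perfect group without normal `p`-subgroups
cannot carry an action by automorphisms and anti-automorphisms, containing all inner
automorphisms, in which all stabilisers of non-identity elements are maximal. -/

set_option autoImplicit false

namespace Cfsg.Agent.H62

open MulAction Cfsg
open scoped Pointwise

theorem isNilpotent_of_pow_mem_center {C : Type*} [Group C] [Finite C] (p : ℕ) [Fact p.Prime]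
    (h : ∀ x : C, x ^ p ∈ Subgroup.center C) : Group.IsNilpotent C := by
  have h1 : IsPGroup p (C ⧸ Subgroup.center C) := by
    intro x
    obtain ⟨x, rfl⟩ := QuotientGroup.mk_surjective x
    exact ⟨1, by rw [pow_one, ← QuotientGroup.mk_pow, QuotientGroup.eq_one_iff]; exact h x⟩
  exact Group.of_quotient_center_nilpotent h1.isNilpotent

theorem false_of_coatom_stabilizers {T A Ω : Type*} [Group T] [Finite T] [Group A] [MulAction A Ω]
    [Nontrivial T] (hperf : Group.IsPerfect T)
    (hO : ∀ p : ℕ, p.Prime → ∀ L : Subgroup T, L.Normal → IsPGroup p L → L = ⊥)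
    (f : T → Ω) (hf : Function.Injective f)
    (hφ : ∀ a : A, ∃ φ : T →* T, (∀ t, a • f t = f (φ t)) ∨ (∀ t, a • f t = f (φ t)⁻¹))
    (hinn : ∀ u : T, ∃ a : A, ∀ t, a • f t = f (u * t * u⁻¹))
    (hmax : ∀ t : T, t ≠ 1 → IsCoatom (stabilizer A (f t))) : False := by
  obtain ⟨p, hp, hp2, hpd⟩ : ∃ p : ℕ, p.Prime ∧ p ≠ 2 ∧ p ∣ Nat.card T := by
    by_contra hcon
    push Not at hcon
    have h2 : IsPGroup 2 T := by
      rw [IsPGroup.iff_card]
      exact ⟨_, Nat.eq_prime_pow_of_unique_prime_dvd Nat.card_pos.ne' fun {d} hd hdd => by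
        by_contra h; exact hcon d hd h hdd⟩
    exact Group.IsPerfect.not_isNilpotent (G := T) h2.isNilpotent
  haveI := Fact.mk hp
  apply H86.not_dvd_card_of_perfect_of_npc hperf _ hpd
  have coat : ∀ {x y : T}, x ≠ 1 → y ≠ 1 → stabilizer A (f x) ≤ stabilizer A (f y) →
      stabilizer A (f x) = stabilizer A (f y) := fun hx hy hle =>
    (hle.eq_or_lt.resolve_right fun h => (hmax _ hy).1 ((hmax _ hx).2 _ h))
  have F1 : ∀ (x : T) (n : ℕ), stabilizer A (f x) ≤ stabilizer A (f (x ^ n)) := by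
    intro x n a ha
    obtain ⟨φ, h | h⟩ := hφ a
    · have := hf ((h x).symm.trans ha)
      rw [mem_stabilizer_iff, h, map_pow, this]
    · have := hf ((h x).symm.trans ha)
      rw [mem_stabilizer_iff, h, map_pow, ← inv_pow, this]
  have F3 : ∀ x t : T, Commute x t →
      stabilizer A (f x) ⊓ stabilizer A (f (x * t)) ≤ stabilizer A (f t) := by
    rintro x t hc a ⟨ha, hb⟩
    obtain ⟨φ, h | h⟩ := hφ a
    · have h1 := hf ((h x).symm.trans ha)
      have h2 := hf ((h _).symm.trans hb)
      rw [map_mul, h1, mul_right_inj] at h2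
      rw [mem_stabilizer_iff, h, h2]
    · have h1 := hf ((h x).symm.trans ha)
      have h2 := hf ((h _).symm.trans hb)
      rw [map_mul, mul_inv_rev, h1, hc.eq, mul_left_inj] at h2
      rw [mem_stabilizer_iff, h, h2]
  obtain ⟨P⟩ : Nonempty (Sylow p T) := inferInstance
  have hP0 := P.ne_bot_of_dvd_card hpd
  obtain ⟨t, htP, htZ, ht1, htp⟩ : ∃ t ∈ P, (∀ y ∈ P, y * t = t * y) ∧ t ≠ 1 ∧ t ^ p = 1 := by
    haveI : Nontrivial P := (Subgroup.nontrivial_iff_ne_bot _).2 hP0
    haveI := P.isPGroup'.center_nontrivial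
    have h1 : IsPGroup p (Subgroup.center P) := P.isPGroup'.to_subgroup _
    obtain ⟨n, hn0, hn⟩ := h1.nontrivial_iff_card.1 inferInstance
    obtain ⟨z, hz⟩ := exists_prime_orderOf_dvd_card' (G := Subgroup.center P) p
      (hn ▸ dvd_pow_self p hn0.ne')
    refine ⟨z.1.1, z.1.2, fun y hy => congrArg Subtype.val (Subgroup.mem_center_iff.1 z.2 ⟨y, hy⟩),
      fun h => ?_, ?_⟩
    · have : z = 1 := Subtype.ext (Subtype.ext h)
      rw [this, orderOf_one] at hz
      exact hp.one_lt.ne hz
    · have := pow_orderOf_eq_one z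
      rw [hz] at this
      exact congrArg (fun w : Subgroup.center P => (w.1.1 : T)) this
  set C : Subgroup T := Subgroup.centralizer {t} with hC
  have memC : ∀ {x : T}, x ∈ C ↔ t * x = x * t := by
    intro x
    simp [hC, Subgroup.mem_centralizer_iff]
  have F4 : ∀ (u x : T) (a : A), (∀ s, a • f s = f (u * s * u⁻¹)) →
      (a ∈ stabilizer A (f x) ↔ u * x = x * u) := by
    intro u x a ha
    rw [mem_stabilizer_iff, ha, hf.eq_iff, mul_inv_eq_iff_eq_mul]
  have hPC : (P : Subgroup T) ≤ C := fun y hy => memC.2 (htZ y hy).symm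
  have hnil : Group.IsNilpotent C := by
    apply isNilpotent_of_pow_mem_center p
    intro x
    by_cases hx : (x : T) ^ p = 1
    · rw [show x ^ p = 1 from Subtype.ext hx]; exact Subgroup.one_mem _
    apply Subgroup.pow_mem
    have hc : Commute (x : T) t := (memC.1 x.2).symm
    have hx1 : (x : T) ≠ 1 := fun h => hx (by rw [h, one_pow])
    have e0 : ((x : T) * t) ^ p = (x : T) ^ p := by rw [hc.mul_pow, htp, mul_one]
    have hxt : (x : T) * t ≠ 1 := fun h => hx (by rw [← e0, h, one_pow])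
    have e1 := coat hx1 hx (F1 x p)
    have e2 := coat hxt (e0 ▸ hx) (F1 _ p)
    rw [e0, ← e1] at e2
    have e3 := F3 x t hc
    rw [e2, inf_idem] at e3
    have e4 := coat hx1 ht1 e3
    rw [Subgroup.mem_center_iff]
    intro u
    obtain ⟨a, ha⟩ := hinn u
    exact Subtype.ext ((F4 u x a ha).1 (e4 ▸ (F4 u t a ha).2 (memC.1 u.2).symm))
  have hnpc : ∀ L : Subgroup T, L ≤ C → HasNormalPComplement p L := fun L hL =>
    haveI := H3.isNilpotent_of_le hL hnil
    H8.hasNormalPComplement_of_isNilpotent p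
  have huniq : ∀ Q : Subgroup T, Q ≤ C → IsPGroup p Q → Q ≤ P := by
    intro Q hQ hQp
    have h1 : ((P.subtype hPC : Sylow p C) : Subgroup C).Normal := inferInstance
    have h2 : IsPGroup p ↥(Q ⊔ (P : Subgroup T)) := by
      apply hQp.to_sup_of_normal_right' P.isPGroup'
      exact hQ.trans ((Subgroup.normal_subgroupOf_iff_le_normalizer hPC).1 h1)
    rw [← P.is_maximal' h2 le_sup_right]
    exact le_sup_left
  set J := thompsonSubgroupOf p (P : Subgroup T) with hJ
  have hMB : stabilizer A (f t) ≤ stabilizer A (f '' (J : Set T)) := by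
    intro a ha
    obtain ⟨φ, h⟩ := hφ a
    have hinj : Function.Injective φ := by
      intro x y hxy
      apply hf
      apply smul_left_cancel a
      rcases h with h | h <;> rw [h, h, hxy]
    have hφt : φ t = t ∨ φ t = t⁻¹ := by
      rcases h with h | h
      · exact Or.inl (hf ((h t).symm.trans ha))
      · exact Or.inr (inv_eq_iff_eq_inv.1 (hf ((h t).symm.trans ha)))
    have h1 : (P : Subgroup T).map φ = P := by
      apply Subgroup.eq_of_le_of_card_ge _ (by rw [Subgroup.card_map_of_injective hinj])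
      apply huniq _ _ (P.isPGroup'.map φ)
      rintro _ ⟨y, hy, rfl⟩
      have e := congrArg φ (htZ y hy)
      rw [map_mul, map_mul] at e
      rw [memC]
      rcases hφt with h2 | h2
      · rw [h2] at e; exact e.symm
      · rw [h2] at e
        exact (Commute.inv_left_iff.1 (show Commute t⁻¹ (φ y) from e.symm))
    have h2 : J.map φ = J := by rw [hJ, H6.map_thompsonSubgroupOf_of_injective hinj, h1]
    rw [mem_stabilizer_iff]
    ext ω
    constructor
    · rintro ⟨_, ⟨y, hy, rfl⟩, rfl⟩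
      have hy' : φ y ∈ J := h2 ▸ ⟨y, hy, rfl⟩
      rcases h with h | h
      · exact ⟨_, hy', (h y).symm⟩
      · exact ⟨_, J.inv_mem hy', (h y).symm⟩
    · rintro ⟨y, hy, rfl⟩
      rw [← h2] at hy
      obtain ⟨z, hz, rfl⟩ := hy
      rcases h with h | h
      · exact ⟨_, ⟨z, hz, rfl⟩, h z⟩
      · exact ⟨_, ⟨z⁻¹, J.inv_mem hz, rfl⟩, by simpa using h z⁻¹⟩
  have hB : stabilizer A (f '' (J : Set T)) ≠ ⊤ := by
    intro htop
    have hJn : J.Normal := ⟨fun y hy u => by
      obtain ⟨a, ha⟩ := hinn u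
      have h1 : a • (f '' (J : Set T)) = f '' (J : Set T) := by
        rw [← mem_stabilizer_iff, htop]; trivial
      have h2 : a • f y ∈ f '' (J : Set T) := h1 ▸ Set.smul_mem_smul_set ⟨y, hy, rfl⟩
      obtain ⟨z, hz, hz2⟩ := h2
      rw [ha] at hz2
      exact hf hz2 ▸ hz⟩
    refine H6.thompsonSubgroupOf_ne_bot (p := p) (P := (P : Subgroup T)) ?_
      (hO p hp J hJn (P.isPGroup'.to_le (H6.thompsonSubgroupOf_le _)))
    exact P.dvd_card_of_dvd_card hpd
  have hBM : stabilizer A (f t) = stabilizer A (f '' (J : Set T)) :=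
    hMB.eq_or_lt.resolve_right fun h => hB ((hmax t ht1).2 _ h)
  refine (S0108.result hp2 P).2 ⟨hnpc _ fun u hu => ?_, hnpc _ fun u hu => ?_⟩
  · obtain ⟨a, ha⟩ := hinn u
    refine memC.2 ((F4 u t a ha).1 ?_).symm
    rw [hBM, mem_stabilizer_iff]
    ext ω
    constructor
    · rintro ⟨_, ⟨y, hy, rfl⟩, rfl⟩
      exact ⟨_, (Subgroup.mem_normalizer_iff.1 hu y).1 hy, (ha y).symm⟩
    · rintro ⟨y, hy, rfl⟩
      refine ⟨_, ⟨u⁻¹ * y * u, ?_, rfl⟩, by simpa [mul_assoc] using ha (u⁻¹ * y * u)⟩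
      exact (Subgroup.mem_normalizer_iff.1 hu _).2 (by simpa [mul_assoc] using hy)
  · exact memC.2 (hu t ⟨htP, fun y hy => htZ y hy⟩)

end Cfsg.Agent.H62
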