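import Cfsg.Agent.H78.G40A
import Cfsg.Agent.H1.Card

/-! Project L40G: the centraliser of `z`. -/

set_option autoImplicit false

namespace Cfsg.Agent.H62.G40Czg

open Subgroup Cfsg.Agent.H83 Cfsg.Agent.H46.L40 Cfsg.Agent.H78.G40

universe u

theorem sq_map {X : Type} [Group X] {G : Type u} [Group G] {ψ : X →* G}
    (hψ : Function.Injective ψ) {Y Z : Subgroup X} (h : Sq Y Z) : Sq (Y.map ψ) (Z.map ψ) := by
  obtain ⟨W, _, π, h1, h2, h3⟩ := h
  let E := Y.equivMapOfInjective ψ hψ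
  refine ⟨W, inferInstance, π.comp E.symm.toMonoidHom, h1.comp E.symm.surjective, fun y => ?_, h3⟩
  obtain ⟨x, rfl⟩ := E.surjective y
  rw [MonoidHom.comp_apply, MulEquiv.coe_toMonoidHom, E.symm_apply_apply, h2]
  exact (mem_map_iff_mem hψ).symm

theorem czg (gh : GhS.{u}) : CzgS.{u} := by
  intro gz o4 X _ e σ τ θ Z Y T fz G _ _ S ψ ti hV zu hZ
  have hz : ψ (e z0) = S.z := ti.he z0
  have ha : ψ (e a0) = S.a := ti.he a0
  have hR : ∀ x, ψ x ∈ S.R := fun x => ti.rg ▸ ⟨x, rfl⟩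
  have hR' : ∀ r ∈ S.R, ∃ x, ψ x = r := fun r hr => by rwa [← ti.rg] at hr
  have cz : ∀ x, ψ x * S.z = S.z * ψ x ↔ x * e z0 = e z0 * x := fun x => by
    rw [← hz, ← map_mul, ← map_mul, ti.inj.eq_iff]
  have hH : ∀ x, x ∈ Cz (e z0) → ψ x ∈ S.X ⊓ Cz S.z := fun x hx =>
    ⟨S.fn.le (hR x), mem_centralizer_singleton_iff.2 ((cz x).2 (mem_centralizer_singleton_iff.1 hx))⟩
  have hP : ∀ A ≤ Cz (e z0), A.map ψ ≤ S.X ⊓ Cz S.z ⊓ PP S.R := by
    rintro A hA _ ⟨x, hx, rfl⟩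
    exact ⟨hH x (hA hx), mem_sup_left (hR x)⟩
  have az : S.a * S.z = S.z * S.a := by
    rw [← map_mul, ← map_mul, show a0 * z0 = z0 * a0 by decide +kernel]
  have aa : S.a * S.a = 1 := by rw [← map_mul, chk.2.2.1, map_one]
  have aH : S.a ∈ S.X ⊓ Cz S.z := ⟨S.LX a0, mem_centralizer_singleton_iff.2 az⟩
  have tH : S.t ∈ normalizer ((S.X ⊓ Cz S.z : Subgroup G) : Set G) := by
    have := S.Xn
    refine zpowers_le.1 (le_norm_inf (le_top.trans (normalizer_eq_top S.X).ge)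
      (le_norm_of_le (zpowers_le.2 (mem_centralizer_singleton_iff.2 (S.tL z0)))))
  refine (gz gh G (S.X ⊓ Cz S.z) (S.X ⊓ Cz S.z ⊓ PP S.R) (Y.map ψ) (Z.map ψ) (T.map ψ) S.a
    inf_le_left (hP Z (fz.ZT.trans fz.Tz)) hZ (fz.Z2.map ψ) (fun I hI hn ho => ?_) (hP Y fz.Yz)
    (fun p hp => ?_) (sq_map ti.inj fz.sq) (ha ▸ mem_map_of_mem ψ fz.aY)
    (fun h => fz.aZ ((mem_map_iff_mem ti.inj).1 (ha ▸ h))) (aa ▸ one_mem _) ?_
    (ha ▸ mem_map_of_mem ψ fz.aT) ?_ fun h hh hp => ⟨hh, ?_⟩).trans inf_le_right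
  · have h1 : cj S.t I ≤ S.X ⊓ Cz S.z := cj_le_of_norm hI tH
    have h2 : S.X ⊓ Cz S.z ≤ normalizer (cj S.t I : Set G) := by
      rw [← cj_normalizer, ← cj_eq_self tH]
      exact cj_mono _ hn
    have h3 := sup_le hI h1
    refine le_inf hI (le_sup_left.trans (o4 G S hV (I ⊔ cj S.t I) (h3.trans inf_le_left) ?_ ?_
      (le_norm_sup hn h2 aH) (h3.trans inf_le_right)))
    · exact Odd.of_dvd_nat (ho.mul (card_cj S.t I ▸ ho))
        (H1.card_sup_dvd_of_le_normalizer (hI.trans h2))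
    · rw [← cj_eq_self_iff, cj_sup, ← cj_mul, S.fn.tt, cj_one, sup_comm]
  · obtain ⟨r, hr, c, hc, rfl⟩ := (mem_sup_right_norm (le_norm_cent le_normalizer)).1 hp.2
    obtain ⟨x, rfl⟩ := hR' r hr
    have h1 : c * S.z = S.z * c := (hc _ (hz ▸ hR _)).symm
    have h2 : ψ x * S.z = S.z * ψ x := by
      have := mem_centralizer_singleton_iff.1 hp.1.2
      rw [mul_assoc, h1, ← mul_assoc, ← mul_assoc] at this
      exact mul_right_cancel this
    refine mul_mem (le_normalizer_map ψ (mem_map_of_mem ψ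
      (fz.nY (mem_centralizer_singleton_iff.2 ((cz x).1 h2))))) ?_
    exact centralizer_le_normalizer _ (cent_anti ((map_le_range ψ Y).trans ti.rg.le) hc)
  · have := Finite.of_injective ψ ti.inj
    have h1 := fz.syl.map ψ
    rw [← MonoidHom.range_eq_map, ti.rg] at h1
    exact (S.fn.syl _ h1).mono ((hP T fz.Tz).trans inf_le_left) inf_le_left
  · rintro _ ⟨x, hx, rfl⟩
    have := mem_map_of_mem ψ (fz.ca x hx)
    simpa only [map_mul, map_inv, ha] using this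
  · have hz' := mem_centralizer_singleton_iff.1 hh.2
    have h1 : h * S.a * h⁻¹ ∈ S.R := S.fn.two _ hp.2 ⟨1, by rw [conj_pow, pow_one, sq, aa]; group⟩
    have h2 : h * S.φ r0 * S.z * (h * S.φ r0)⁻¹ = h * S.a * h⁻¹ := by
      rw [mul_assoc h, ← map_mul, chk.2.2.2.2.2.1, map_mul]
      group
    obtain ⟨r, hr, h3⟩ := zu (h * S.φ r0) (mul_mem hh.1 (S.LX r0)) (h2 ▸ h1)
    obtain ⟨y, rfl⟩ := hR' r hr
    have h4 : ψ (y * e z0 * y⁻¹) = h * S.a * h⁻¹ := by rw [← h2, h3, map_mul, map_mul, map_inv, hz]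
    obtain ⟨p, p1, p2⟩ := fz.fus (y * e z0 * y⁻¹) (isConj_iff.2 ⟨y, rfl⟩) ((cz _).1 (by
      rw [h4]
      exact (((show Commute h S.z from hz').mul_left az).mul_left
        (show Commute h S.z from hz').inv_left).eq)) fun h5 => by
      rw [h5, hz, eq_mul_inv_iff_mul_eq, ← hz', mul_right_inj] at h4
      exact absurd (S.inj h4) (by decide +kernel)
    rw [p2, map_mul, map_mul, map_inv, ha] at h4
    have h5 : (ψ p)⁻¹ * h ∈ PP S.R := by
      refine hV ⟨S.X.mul_mem (S.X.inv_mem (S.fn.le (hR p))) hh.1,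
        le_centralizer_iff.1 (show S.V ≤ centralizer (zpowers ((ψ p)⁻¹ * h) : Set G) from ?_)
          (mem_zpowers _)⟩
      rw [Dat.V, V0, MonoidHom.map_closure, closure_le]
      rintro _ ⟨_, rfl | rfl, rfl⟩
      · rintro _ ⟨k, rfl⟩
        exact (((show Commute (ψ p) S.z from (cz p).2 p1).inv_left.mul_left hz').zpow_left k).eq
      · rintro _ ⟨k, rfl⟩
        refine (Commute.zpow_left (show (ψ p)⁻¹ * h * S.a = S.a * ((ψ p)⁻¹ * h) from ?_) k).eq
        calc (ψ p)⁻¹ * h * S.a = (ψ p)⁻¹ * (h * S.a * h⁻¹) * h := by group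
          _ = _ := by rw [← h4]; group
    simpa using mul_mem (mem_sup_left (hR p) : ψ p ∈ PP S.R) h5

end Cfsg.Agent.H62.G40Czg
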