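import Cfsg.Agent.H44.K5Defs

set_option autoImplicit false

namespace Cfsg.Agent.H62.K5Herm

open Matrix Cfsg.Agent.H44.K5

def bl {n : ℕ} (c : ℤ) (r : Fin n → ℤ) (V : Matrix (Fin n) (Fin n) ℤ) :
    Matrix (Fin (n + 1)) (Fin (n + 1)) ℤ :=
  Matrix.of (Fin.cons (Fin.cons c r) fun i => Fin.cons 0 (V i))

lemma det_bl {n : ℕ} (c : ℤ) (r : Fin n → ℤ) (V : Matrix (Fin n) (Fin n) ℤ) :
    (bl c r V).det = c * V.det := by
  rw [Matrix.det_succ_column_zero, Fin.sum_univ_succ]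
  have : (bl c r V).submatrix (Fin.succAbove 0) Fin.succ = V := by
    ext i j; simp [bl]
  rw [this]
  simp [bl]

lemma ent {n : ℕ} (U A : Matrix (Fin n) (Fin n) ℤ) (i j : Fin n) :
    (Uᵀ * A * U) i j = (fun k => U k i) ⬝ᵥ A *ᵥ (fun k => U k j) := by
  rw [Matrix.mul_assoc]
  simp [Matrix.mul_apply, dotProduct, mulVec]

lemma bil {n : ℕ} (B : Matrix (Fin (n + 1)) (Fin (n + 1)) ℤ) (hB : Bᵀ = B) (k l : ℤ) (x y : Fin n → ℤ) :
    (Fin.cons k x : Fin (n + 1) → ℤ) ⬝ᵥ B *ᵥ (Fin.cons l y : Fin (n + 1) → ℤ) =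
      k * B 0 0 * l + k * (∑ j, B 0 j.succ * y j) + (∑ i, B 0 i.succ * x i) * l +
        x ⬝ᵥ (B.submatrix Fin.succ Fin.succ) *ᵥ y := by
  have hs : ∀ i, B i 0 = B 0 i := fun i => by
    have := congrFun (congrFun hB 0) i; simpa using this
  simp only [dotProduct, mulVec, Fin.sum_univ_succ, Fin.cons_zero, Fin.cons_succ, submatrix_apply,
    mul_add, Finset.sum_add_distrib, hs, Finset.sum_mul]
  have : ∑ i, x i * (B 0 i.succ * l) = ∑ i, B 0 i.succ * x i * l :=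
    Finset.sum_congr rfl fun i _ => by ring
  rw [this]; ring

def sch {n : ℕ} (B : Matrix (Fin (n + 1)) (Fin (n + 1)) ℤ) : Matrix (Fin n) (Fin n) ℤ :=
  Matrix.of fun i j => B 0 0 * B i.succ j.succ - B 0 i.succ * B 0 j.succ

lemma sch_q {n : ℕ} (B : Matrix (Fin (n + 1)) (Fin (n + 1)) ℤ) (x : Fin n → ℤ) :
    x ⬝ᵥ sch B *ᵥ x = B 0 0 * (x ⬝ᵥ (B.submatrix Fin.succ Fin.succ) *ᵥ x) -
      (∑ j, B 0 j.succ * x j) ^ 2 := by
  rw [sq, Finset.sum_mul_sum]
  simp only [dotProduct, mulVec, sch, of_apply, submatrix_apply,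
    Finset.mul_sum, ← Finset.sum_sub_distrib]
  exact Finset.sum_congr rfl fun i _ => Finset.sum_congr rfl fun j _ => by ring

lemma key {n : ℕ} (B : Matrix (Fin (n + 1)) (Fin (n + 1)) ℤ) (hB : Bᵀ = B) (k : ℤ) (x : Fin n → ℤ) :
    B 0 0 * ((Fin.cons k x : Fin (n + 1) → ℤ) ⬝ᵥ B *ᵥ (Fin.cons k x : Fin (n + 1) → ℤ)) =
      (k * B 0 0 + ∑ j, B 0 j.succ * x j) ^ 2 + x ⬝ᵥ sch B *ᵥ x := by
  rw [bil B hB, sch_q]; ring

lemma det_sch {n : ℕ} (B : Matrix (Fin (n + 2)) (Fin (n + 2)) ℤ) (hB : Bᵀ = B) (ha : B 0 0 ≠ 0) :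
    (sch B).det = B 0 0 ^ n * B.det := by
  have hs : ∀ i, B i 0 = B 0 i := fun i => by
    have := congrFun (congrFun hB 0) i; simpa using this
  have h1 : (bl 1 (fun j => - B 0 j.succ) (Matrix.diagonal fun _ : Fin (n + 1) => B 0 0))ᵀ * B =
      bl (B 0 0) (fun j => B 0 j.succ) (sch B) := by
    ext i j
    rw [Matrix.mul_apply, Fin.sum_univ_succ]
    refine Fin.cases ?_ (fun i => ?_) i <;> refine Fin.cases ?_ (fun j => ?_) j <;>
      simp [bl, sch, Matrix.diagonal_apply, hs] <;> ring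
  have h2 := congrArg Matrix.det h1
  rw [det_mul, det_transpose, det_bl, det_bl, det_diagonal] at h2
  simp only [Finset.prod_const, Finset.card_univ, Fintype.card_fin] at h2
  apply mul_left_cancel₀ ha
  rw [← h2]; ring

theorem herm : HermStmt := by
  intro n
  induction n with
  | zero => intro A _ _; exact ⟨1, by simp, by simp⟩
  | succ n ih =>
    intro A hA hp
    classical
    have hcol : ∀ U : Matrix (Fin (n + 2)) (Fin (n + 2)) ℤ, IsUnit U.det → ∀ x : Fin (n + 2) → ℤ,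
        x ≠ 0 → 0 < x ⬝ᵥ (Uᵀ * A * U) *ᵥ x := fun U hU x hx => by
      have h0 : U *ᵥ x ≠ 0 := fun h => hx (Matrix.eq_zero_of_mulVec_eq_zero hU.ne_zero h)
      have := hp _ h0
      rwa [← mulVec_mulVec, ← mulVec_mulVec, dotProduct_mulVec x, vecMul_transpose]
    have hpos : ∀ U : Matrix (Fin (n + 2)) (Fin (n + 2)) ℤ, IsUnit U.det → 0 < (Uᵀ * A * U) 0 0 :=
      fun U hU => by simpa using hcol U hU (Pi.single 0 1) (by simp)
    have hex : ∃ m : ℕ, ∃ U : Matrix (Fin (n + 2)) (Fin (n + 2)) ℤ, IsUnit U.det ∧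
        (Uᵀ * A * U) 0 0 = m := ⟨_, 1, by simp, (Int.toNat_of_nonneg (hpos 1 (by simp)).le).symm⟩
    obtain ⟨U, hU, hUm⟩ := Nat.find_spec hex
    have hmin : ∀ W : Matrix (Fin (n + 2)) (Fin (n + 2)) ℤ, IsUnit W.det →
        (Uᵀ * A * U) 0 0 ≤ (Wᵀ * (Uᵀ * A * U) * W) 0 0 := fun W hW => by
      have hUW : IsUnit (U * W).det := by rw [det_mul]; exact hU.mul hW
      have e : Wᵀ * (Uᵀ * A * U) * W = (U * W)ᵀ * A * (U * W) := by
        simp [transpose_mul, Matrix.mul_assoc]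
      have h1 := Nat.find_min' hex ⟨U * W, hUW, (Int.toNat_of_nonneg (hpos _ hUW).le).symm⟩
      have h2 := hpos _ hUW
      rw [e, hUm]; omega
    refine ⟨U, hU, ?_⟩
    have hdet : (Uᵀ * A * U).det = A.det := by
      rw [det_mul, det_mul, det_transpose]
      rcases Int.isUnit_iff.1 hU with h | h <;> rw [h] <;> ring
    have hB : (Uᵀ * A * U)ᵀ = Uᵀ * A * U := by simp [transpose_mul, Matrix.mul_assoc, hA]
    have hBp := hcol U hU
    have ha := hpos U hU
    rw [← hdet]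
    generalize Uᵀ * A * U = B at *
    have hs : ∀ i j, B i j = B j i := fun i j => by
      have := congrFun (congrFun hB j) i; simpa using this
    obtain ⟨V, hV, hle⟩ := ih (sch B) (by ext i j; simp [sch, hs i.succ j.succ, mul_comm]) (fun x hx => by
      have h1 := key B hB (-∑ j, B 0 j.succ * x j) (B 0 0 • x)
      have h2 := hBp (Fin.cons (-∑ j, B 0 j.succ * x j) (B 0 0 • x)) (fun h => by
        apply hx; ext i
        have := congrFun h i.succ
        simpa [ha.ne'] using this)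
      have h3 : ∑ j, B 0 j.succ * (B 0 0 • x) j = B 0 0 * ∑ j, B 0 j.succ * x j := by
        rw [Finset.mul_sum]; exact Finset.sum_congr rfl fun j _ => by simp; ring
      rw [h3, mulVec_smul, smul_dotProduct, dotProduct_smul, smul_eq_mul, smul_eq_mul] at h1
      by_contra hneg
      push Not at hneg
      have := mul_pos ha h2
      nlinarith [mul_pos ha ha])
    rw [det_sch B hB ha.ne', ent] at hle
    set x : Fin (n + 1) → ℤ := fun k => V k 0 with hx
    set β := ∑ j, B 0 j.succ * x j with hβ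
    obtain ⟨k, hk1, hk2⟩ : ∃ k : ℤ, -B 0 0 ≤ 2 * (k * B 0 0 + β) ∧ 2 * (k * B 0 0 + β) ≤ B 0 0 := by
      have e1 := Int.emod_add_mul_ediv (2 * β + B 0 0) (2 * B 0 0)
      have e2 := Int.emod_nonneg (2 * β + B 0 0) (by omega : 2 * B 0 0 ≠ 0)
      have e3 := Int.emod_lt_of_pos (2 * β + B 0 0) (by omega : 0 < 2 * B 0 0)
      refine ⟨-((2 * β + B 0 0) / (2 * B 0 0)), ?_, ?_⟩ <;> nlinarith
    have h1 := hmin ((bl 1 (fun _ => k) V).submatrix id (Equiv.swap 0 (Fin.succ 0))) (by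
      rw [det_permute', det_bl, one_mul]
      exact (Units.isUnit _ |>.map (Int.castRingHom ℤ)).mul hV)
    rw [ent] at h1
    have e : (fun j => ((bl 1 (fun _ => k) V).submatrix id (Equiv.swap 0 (Fin.succ 0))) j 0) =
        (Fin.cons k x : Fin (n + 2) → ℤ) := by
      ext j
      simp only [submatrix_apply, id, Equiv.swap_apply_left]
      refine Fin.cases ?_ (fun j => ?_) j <;> simp only [bl, of_apply, Fin.cons_zero, Fin.cons_succ, hx]
    rw [e] at h1
    have h2 := key B hB k x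
    rw [← hβ] at h2
    set s := x ⬝ᵥ sch B *ᵥ x with hsd
    set a := B 0 0 with had
    have h3 : 3 * a ^ 2 ≤ 4 * s := by nlinarith [mul_le_mul_of_nonneg_left h1 ha.le]
    have h4 := pow_le_pow_left₀ (by positivity) h3 (n + 1)
    have em : (n + 1) * (n + 1 + 1) / 2 = n * (n + 1) / 2 + (n + 1) := by
      have : (n + 1) * (n + 1 + 1) = n * (n + 1) + (n + 1) * 2 := by ring
      rw [this, Nat.add_mul_div_right _ _ (by norm_num)]
    rw [em]
    generalize n * (n + 1) / 2 = m at *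
    refine le_of_mul_le_mul_left ?_ (pow_pos ha n)
    calc a ^ n * (a ^ (n + 1 + 1) * 3 ^ (m + (n + 1))) = (3 * a ^ 2) ^ (n + 1) * 3 ^ m := by ring
      _ ≤ (4 * s) ^ (n + 1) * 3 ^ m := mul_le_mul_of_nonneg_right h4 (by positivity)
      _ = 4 ^ (n + 1) * (s ^ (n + 1) * 3 ^ m) := by ring
      _ ≤ 4 ^ (n + 1) * (4 ^ m * (a ^ n * B.det)) := mul_le_mul_of_nonneg_left hle (by positivity)
      _ = a ^ n * (4 ^ (m + (n + 1)) * B.det) := by ring

end Cfsg.Agent.H62.K5Herm
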