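import Cfsg.Agent.H89.OlDefs

/-!
# Groups of order 32 whose commutator subgroup is a central four-group
-/

set_option autoImplicit false

namespace Cfsg.Agent.H62.OlGc3

open Subgroup Cfsg.Agent.H18 Cfsg.Agent.H89.Ol
open scoped commutatorElement

universe u

variable {G : Type u} [Group G] {P : Subgroup G}

theorem mem_Cz_zp {x y : G} : y ∈ Cz (zpowers x) ↔ x * y = y * x := by
  refine ⟨fun h => mem_Cz.1 h x (mem_zpowers x), fun h => mem_Cz.2 ?_⟩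
  rintro _ ⟨k, rfl⟩
  exact (Commute.zpow_left h k).eq

theorem idx2 [Finite G] {D C : Subgroup G} (h : D ≤ C) (hc : Nat.card C = 2 * Nat.card D)
    {a b : G} (ha : a ∈ C) (hb : b ∈ C) (na : a ∉ D) (nb : b ∉ D) : a * b ∈ D := by
  have h1 := (D.subgroupOf C).card_mul_index
  rw [Nat.card_congr (subgroupOfEquivOfLe h).toEquiv, hc, mul_comm 2] at h1
  have h2 : (D.subgroupOf C).index = 2 := Nat.eq_of_mul_eq_mul_left Nat.card_pos h1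
  exact (mul_mem_iff_of_index_two h2 (a := ⟨a, ha⟩) (b := ⟨b, hb⟩)).2 (iff_of_false na nb)

theorem cen (hc : P ≤ Cz ⁅P, P⁆) {d y : G} (hd : d ∈ ⁅P, P⁆) (hy : y ∈ P) : d * y = y * d :=
  mem_Cz.1 (hc hy) d hd

theorem com_right (hc : P ≤ Cz ⁅P, P⁆) {x y z : G} (hx : x ∈ P) (hy : y ∈ P) (hz : z ∈ P) :
    ⁅x, y * z⁆ = ⁅x, y⁆ * ⁅x, z⁆ := by
  have := cen hc (commutator_mem_commutator hx hz) hy
  calc ⁅x, y * z⁆ = ⁅x, y⁆ * (y * ⁅x, z⁆) * y⁻¹ := by simp only [commutatorElement_def]; group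
    _ = _ := by rw [← this]; group

theorem com_left (hc : P ≤ Cz ⁅P, P⁆) {x y z : G} (hx : x ∈ P) (hy : y ∈ P) (hz : z ∈ P) :
    ⁅x * y, z⁆ = ⁅y, z⁆ * ⁅x, z⁆ := by
  have := cen hc (commutator_mem_commutator hy hz) hx
  calc ⁅x * y, z⁆ = (x * ⁅y, z⁆) * x⁻¹ * ⁅x, z⁆ := by simp only [commutatorElement_def]; group
    _ = _ := by rw [← this]; group

theorem com_symm (h2 : ∀ c ∈ ⁅P, P⁆, c * c = 1) {x y : G} (hx : x ∈ P) (hy : y ∈ P) :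
    ⁅x, y⁆ = ⁅y, x⁆ := by
  rw [← commutatorElement_inv, inv_eq_iff_mul_eq_one]
  exact h2 _ (commutator_mem_commutator hy hx)

/-- The commutator with a fixed element. -/
def phi (hc : P ≤ Cz ⁅P, P⁆) {x : G} (hx : x ∈ P) : P →* G :=
  MonoidHom.mk' (fun y => ⁅x, (y : G)⁆) fun y z => com_right hc hx y.2 z.2

theorem phi_le (hc : P ≤ Cz ⁅P, P⁆) {x : G} (hx : x ∈ P) : (phi hc hx).range ≤ ⁅P, P⁆ := by
  rintro _ ⟨y, rfl⟩
  exact commutator_mem_commutator hx y.2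

theorem phi_card (hc : P ≤ Cz ⁅P, P⁆) {x : G} (hx : x ∈ P) :
    CP P x * Nat.card (phi hc hx).range = Nat.card P := by
  have e : (phi hc hx).ker = (P ⊓ Cz (zpowers x)).subgroupOf P := by
    ext y
    rw [MonoidHom.mem_ker, mem_subgroupOf, mem_inf, mem_Cz_zp, and_iff_right y.2]
    exact commutatorElement_eq_one_iff_mul_comm
  rw [← index_ker, e, CP, ← Nat.card_congr (subgroupOfEquivOfLe inf_le_left).toEquiv]
  exact card_mul_index _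

theorem cp_iff [Finite G] (h32 : Nat.card P = 32) (h4 : Nat.card (⁅P, P⁆ : Subgroup G) = 4)
    (hc : P ≤ Cz ⁅P, P⁆) {x : G} (hx : x ∈ P) :
    CP P x = 8 ↔ (phi hc hx).range = ⁅P, P⁆ := by
  have := phi_card hc hx
  rw [h32] at this
  refine ⟨fun h => eq_of_le_of_card_ge (phi_le hc hx) ?_, fun h => ?_⟩
  · rw [h] at this; omega
  · rw [h, h4] at this; omega

theorem eq_of_two [Finite G] {D R : Subgroup G} (h4 : Nat.card D = 4) (h : R ≤ D) {a b : G}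
    (ha : a ∈ R) (hb : b ∈ R) (a1 : a ≠ 1) (b1 : b ≠ 1) (ab : a ≠ b) : R = D := by
  refine eq_of_le_of_card_ge h ?_
  have h1 := card_dvd_of_le h
  have h3 : 2 < Nat.card R := by
    have := Fintype.ofFinite R
    rw [Nat.card_eq_fintype_card]
    exact Fintype.two_lt_card_iff.2 ⟨1, ⟨a, ha⟩, ⟨b, hb⟩, fun e => a1 (congrArg Subtype.val e).symm,
      fun e => b1 (congrArg Subtype.val e).symm, fun e => ab (congrArg Subtype.val e)⟩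
  rw [h4] at h1 ⊢
  have := Nat.le_of_dvd (by norm_num) h1
  interval_cases Nat.card R <;> simp_all

theorem exists_full [Finite G] (h4 : Nat.card (⁅P, P⁆ : Subgroup G) = 4)
    (h2 : ∀ c ∈ ⁅P, P⁆, c * c = 1) (hc : P ≤ Cz ⁅P, P⁆) :
    ∃ x, ∃ hx : x ∈ P, (phi hc hx).range = ⁅P, P⁆ := by
  by_contra! hn
  have H : ∀ x ∈ P, ∀ g ∈ P, ∀ h ∈ P, ⁅x, g⁆ ≠ 1 → ⁅x, h⁆ ≠ 1 → ⁅x, g⁆ = ⁅x, h⁆ :=
    fun x hx g hg h hh a b => by
      by_contra ab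
      exact hn x hx (eq_of_two h4 (phi_le hc hx) ⟨⟨g, hg⟩, rfl⟩ ⟨⟨h, hh⟩, rfl⟩ a b ab)
  have key : ∀ z ∈ ⁅P, P⁆, ∃ a ∈ P, ∃ b ∈ P, ⁅a, b⁆ ≠ 1 ∧ ⁅a, b⁆ ≠ z := fun z hz => by
    by_contra! h
    have h1 : ⁅P, P⁆ ≤ zpowers z := commutator_le.2 fun a ha b hb => by
      by_cases e : ⁅a, b⁆ = 1
      · rw [e]; exact one_mem _
      · rw [h a ha b hb e]; exact mem_zpowers z
    have h3 := card_le_of_le h1
    rw [h4, Nat.card_zpowers] at h3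
    have := orderOf_le_of_pow_eq_one two_pos ((sq z).trans (h2 z hz))
    omega
  obtain ⟨a, ha, b, hb, n1, -⟩ := key 1 (one_mem _)
  obtain ⟨c, hc', d, hd, n2, n3⟩ := key _ (commutator_mem_commutator ha hb)
  have t : ∀ a ∈ P, ∀ b ∈ P, ∀ c ∈ P, ∀ d ∈ P, ⁅a, b⁆ ≠ 1 → ⁅c, d⁆ ≠ 1 → ⁅c, d⁆ ≠ ⁅a, b⁆ →
      ⁅a, c⁆ = 1 := fun a ha b hb c hc d hd n1 n2 n3 => by
    by_contra e
    refine n3 ((H c hc d hd a ha n2 ?_).trans ?_)
    · rwa [com_symm h2 hc ha]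
    · rw [com_symm h2 hc ha]; exact H a ha c hc b hb e n1
  have e1 : ⁅a, d⁆ = 1 := t a ha b hb d hd c hc' n1 (by rwa [com_symm h2 hd hc'])
    (by rwa [com_symm h2 hd hc'])
  have e2 : ⁅c, b⁆ = 1 := t c hc' d hd b hb a ha n2 (by rwa [com_symm h2 hb ha])
    (by rw [com_symm h2 hb ha]; exact n3.symm)
  have e3 : ⁅a * c, b⁆ = ⁅a, b⁆ := by rw [com_left hc ha hc' hb, e2, one_mul]
  have e4 : ⁅a * c, d⁆ = ⁅c, d⁆ := by rw [com_left hc ha hc' hd, e1, mul_one]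
  have := H _ (mul_mem ha hc') b hb d hd (e3 ▸ n1) (e4 ▸ n2)
  exact n3 (by rw [← e4, ← this, e3])

theorem conj_mem {Q : Subgroup G} {n a : G} (hn : n ∈ Nz Q) (ha : a ∈ Q) : n * a * n⁻¹ ∈ Q :=
  (mem_normalizer_iff.1 hn a).1 ha

theorem cp_conj {n x : G} (hn : n ∈ Nz P) : CP P (n * x * n⁻¹) = CP P x := by
  have e : cs n (P ⊓ Cz (zpowers x)) = P ⊓ Cz (zpowers (n * x * n⁻¹)) := by
    rw [cs_inf, mem_Nz_iff_cs.1 hn, ← Cz_cs, cs, MonoidHom.map_zpowers]; rfl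
  rw [CP, ← e, card_cs]

/-- An element outside `Q` whose commutators with `Q` are carried into `P'`. -/
theorem exists_y [Finite G] (h32 : Nat.card P = 32) (h4 : Nat.card (⁅P, P⁆ : Subgroup G) = 4)
    (h2 : ∀ c ∈ ⁅P, P⁆, c * c = 1) (hc : P ≤ Cz ⁅P, P⁆) {Q : Subgroup G} (hQ : Q ≤ P)
    (hne : ¬ P ≤ Q) (hD : ⁅P, P⁆ ≤ Q) {n x : G} (hn : n ∈ Nz Q) (hx : x ∈ Q) (h8 : CP P x = 8) :
    ∃ y ∈ P, y ∉ Q ∧ ∀ a ∈ Q, n * ⁅a, y⁆ * n⁻¹ ∈ ⁅P, P⁆ := by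
  by_cases hZ : ∀ d ∈ ⁅P, P⁆, n * d * n⁻¹ ∈ ⁅P, P⁆
  · obtain ⟨y, hy, ny⟩ := SetLike.not_le_iff_exists.1 hne
    exact ⟨y, hy, ny, fun a ha => hZ _ (commutator_mem_commutator (hQ ha) hy)⟩
  push Not at hZ
  obtain ⟨d, hd, nd⟩ := hZ
  have cQ : ⁅P, P⁆ ≤ Cz Q := le_Cz_comm.1 (hQ.trans hc)
  have z1 : ∀ d ∈ ⁅P, P⁆, n * d * n⁻¹ ∈ Cz Q := fun d hd => conj_mem (Nz_le_Nz_Cz Q hn) (cQ hd)
  have inC : ∀ w ∈ Q, w ∈ Cz Q → w ∈ P ⊓ Cz (zpowers x) := fun w a b =>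
    ⟨hQ a, mem_Cz_zp.2 (mem_Cz.1 b x hx)⟩
  have DC : ⁅P, P⁆ ≤ P ⊓ Cz (zpowers x) := fun d hd => inC d (hD hd) (cQ hd)
  have ix : ∀ {a b : G}, a ∈ P ⊓ Cz (zpowers x) → b ∈ P ⊓ Cz (zpowers x) → a ∉ ⁅P, P⁆ →
      b ∉ ⁅P, P⁆ → a * b ∈ ⁅P, P⁆ := idx2 DC (by rw [h4]; exact h8)
  have wC : ∀ d ∈ ⁅P, P⁆, n * d * n⁻¹ ∈ P ⊓ Cz (zpowers x) := fun d hd =>
    inC _ (conj_mem hn (hD hd)) (z1 d hd)
  have full := (cp_iff h32 h4 hc (hQ hx)).1 h8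
  obtain ⟨c, hcD, c1, hcn⟩ : ∃ c ∈ ⁅P, P⁆, c ≠ 1 ∧ n * c * n⁻¹ ∈ ⁅P, P⁆ := by
    obtain ⟨e, he, e1, e2⟩ : ∃ e ∈ ⁅P, P⁆, e ≠ 1 ∧ e ≠ d := by
      by_contra! h
      have h1 : ⁅P, P⁆ ≤ zpowers d := fun a ha => by
        by_cases e : a = 1
        · rw [e]; exact one_mem _
        · rw [h a ha e]; exact mem_zpowers d
      have h3 := card_le_of_le h1
      rw [h4, Nat.card_zpowers] at h3
      have := orderOf_le_of_pow_eq_one two_pos ((sq d).trans (h2 d hd))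
      omega
    by_cases ne : n * e * n⁻¹ ∈ ⁅P, P⁆
    · exact ⟨e, he, e1, ne⟩
    · refine ⟨d * e, mul_mem hd he, fun h => e2 (mul_left_cancel (h.trans (h2 d hd).symm)), ?_⟩
      have := ix (wC d hd) (wC e he) nd ne
      rwa [show n * d * n⁻¹ * (n * e * n⁻¹) = n * (d * e) * n⁻¹ by group] at this
  obtain ⟨⟨y, hy⟩, ey⟩ : c ∈ (phi hc (hQ hx)).range := full ▸ hcD
  change ⁅x, y⁆ = c at ey
  have one : ∀ d ∈ ⁅P, P⁆, ⁅d, y⁆ = 1 := fun d hd =>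
    commutatorElement_eq_one_iff_mul_comm.2 (cen hc hd hy)
  have xD : x ∉ ⁅P, P⁆ := fun h => c1 (ey ▸ one x h)
  have xC : x ∈ P ⊓ Cz (zpowers x) := ⟨hQ hx, mem_Cz_zp.2 rfl⟩
  have xQ : x ∈ Cz Q := by
    have := mul_mem (cQ (ix xC (wC d hd) xD nd)) (inv_mem (z1 d hd))
    rwa [mul_inv_cancel_right] at this
  refine ⟨y, hy, fun h => c1 (ey ▸ commutatorElement_eq_one_iff_mul_comm.2
    (mem_Cz.1 xQ y h).symm), fun a ha => ?_⟩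
  by_cases aD : a ∈ ⁅P, P⁆
  · rw [one a aD, mul_one, mul_inv_cancel]; exact one_mem _
  · have h1 := ix ⟨hQ ha, mem_Cz_zp.2 (mem_Cz.1 xQ a ha).symm⟩ (inv_mem xC) aD
      (fun h => xD (inv_mem_iff.1 h))
    have h3 := com_left hc (mul_mem (hQ ha) (inv_mem (hQ hx))) (hQ hx) hy
    rw [inv_mul_cancel_right, one _ h1, mul_one, ey] at h3
    rw [h3]; exact hcn

/-- **GC3** -/
theorem gc3 (ch : CHStmt.{u}) : GC3Stmt.{u} := by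
  intro G _ _ P h32 h4 h2 hc
  obtain ⟨u, hu, fu⟩ := exists_full h4 h2 hc
  have u8 := (cp_iff h32 h4 hc hu).2 fu
  have hP : IsPGroup 2 P := IsPGroup.of_card (n := 5) (by rw [h32]; norm_num)
  have DP : ⁅P, P⁆ ≤ P := commutator_le.2 fun a ha b hb =>
    mul_mem (mul_mem (mul_mem ha hb) (inv_mem ha)) (inv_mem hb)
  refine ⟨{x | x ∈ P ∧ CP P x = 8}, u, hu, ⟨hu, u8⟩, fun v _ hv => (hv.2.trans u8.symm).le, ?_,
    by rw [u8, h4, h32], fun Q N es => ?_⟩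
  · have u1 : u ≠ 1 := by
      rintro rfl
      rw [CP, zpowers_one_eq_bot, Cz_bot, inf_top_eq, h32] at u8
      omega
    have h1 := orderOf_pos u
    have h3 := mt orderOf_eq_one_iff.1 u1
    omega
  obtain ⟨n, hn, x, hx, xX, nx⟩ := es.bad
  have nQ := es.nz hn
  have hD : ⁅P, P⁆ ≤ Q := fun d hd => by
    by_contra nd
    have cd : d ∈ Cz Q := le_Cz_comm.1 (es.le.trans hc) hd
    exact nx (es.se n hn d ⟨DP hd, Cz_le_Nz Q cd⟩ nd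
      (mem_sup_right (conj_mem (Nz_le_Nz_Cz Q nQ) cd)) x hx xX)
  have com : ∀ a g : G, a⁻¹ * (g * a * g⁻¹) = ⁅a⁻¹, g⁆ := fun a g => by
    simp only [commutatorElement_def]; group
  have PN : P ≤ Nz Q := by
    refine le_normalizer_iff.2 fun g hg a ha => ?_
    have := mul_mem ha (hD (commutator_mem_commutator (inv_mem (es.le ha)) hg))
    rwa [← com, mul_inv_cancel_left] at this
  by_cases hne : P ≤ Q
  · have e : Q = P := le_antisymm es.le hne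
    subst e
    exact nx ⟨conj_mem nQ hx, (cp_conj nQ).trans xX.2⟩
  obtain ⟨y, hy, ny, hy2⟩ := exists_y h32 h4 h2 hc es.le hne hD nQ hx xX.2
  have yN : n * y * n⁻¹ ∈ N := mul_mem (mul_mem hn (es.sN ⟨hy, PN hy⟩)) (inv_mem hn)
  have h3 : ∀ a ∈ Q, a⁻¹ * (n * y * n⁻¹ * a * (n * y * n⁻¹)⁻¹) ∈
      ⁅P, P⁆ ⊓ Cz (zpowers (n * y * n⁻¹)) := fun a ha => by
    have ha' : n⁻¹ * a⁻¹ * n⁻¹⁻¹ ∈ Q := conj_mem (inv_mem nQ) (inv_mem ha)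
    have e : a⁻¹ * (n * y * n⁻¹ * a * (n * y * n⁻¹)⁻¹) = n * ⁅n⁻¹ * a⁻¹ * n⁻¹⁻¹, y⁆ * n⁻¹ := by
      simp only [commutatorElement_def]; group
    rw [e]
    refine ⟨hy2 _ ha', mem_Cz_zp.2 ?_⟩
    have := cen hc (commutator_mem_commutator (es.le ha') hy) hy
    generalize ⁅n⁻¹ * a⁻¹ * n⁻¹⁻¹, y⁆ = c at this ⊢
    calc n * y * n⁻¹ * (n * c * n⁻¹) = n * (y * c) * n⁻¹ := by group
      _ = _ := by rw [← this]; group
  refine nx (es.se n hn y ⟨hy, PN hy⟩ ny (ch G P Q N (⁅P, P⁆ ⊓ Cz (zpowers (n * y * n⁻¹))) ⁅P, P⁆ _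
    _ hP es inf_le_left hD (fun s hs => ?_) yN ⟨fun a ha => ?_, fun a ha => h3 a (hD ha),
      fun a ha => (h3 a ha).1⟩) x hx xX)
  · have f : ∀ a ∈ ⁅P, P⁆, s * a * s⁻¹ = a := fun a ha => by
      rw [← cen hc ha hs.1, mul_inv_cancel_right]
    refine ⟨fun a ha => f a ha.1, fun a ha => ?_, fun a ha => ?_⟩
    · rw [f a ha, inv_mul_cancel]; exact one_mem _
    · rw [com]; exact commutator_mem_commutator (inv_mem (es.le ha)) hs.1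
  · rw [mem_Cz_zp.1 ha.2, mul_inv_cancel_right]

end Cfsg.Agent.H62.OlGc3
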