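import Cfsg.Agent.H58.Q4K

/-! Project Q4 (S3404): the lifting lemma for a group mapping onto an alternating group. -/

set_option autoImplicit false

namespace Cfsg.Agent.H62.Q4Lift6

open Subgroup Equiv Function Cfsg.Agent.H58.Q4

universe u

/-- even permutations supported on five points lift to the centraliser of the kernel -/
theorem liftG (lift : LiftStmt.{u}) {N : Type u} [Group N] [Finite N] {α : Type} [Fintype α]
    [DecidableEq α] (ρ : N →* Perm α) {p : α → Prop} [DecidablePred p] (f : Fin 5 ≃ Subtype p)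
    (hr : ρ.range = alternatingGroup α) (hodd : Odd (Nat.card ρ.ker)) (hz : IsZGroup ρ.ker)
    (σ : Perm α) (hs : Perm.sign σ = 1) (hσ : ∀ x, σ x ≠ x → p x) :
    ∃ n ∈ centralizer (ρ.ker : Set N), ρ n = σ := by
  let ι : Perm (Fin 5) →* Perm α := Perm.extendDomainHom f
  have hι : Injective ι := Perm.extendDomainHom_injective f
  have hsg : ∀ s, Perm.sign (ι s) = Perm.sign s := fun s => Perm.sign_extendDomain s f
  let M : Subgroup N := ι.range.comap ρ
  let r : M →* Perm (Fin 5) := (MonoidHom.ofInjective hι).symm.toMonoidHom.comp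
    ((ρ.comp M.subtype).codRestrict ι.range fun m => m.2)
  have hr5 : ∀ m : M, ι (r m) = ρ m := fun m =>
    MonoidHom.apply_ofInjective_symm hι ⟨ρ m, m.2⟩
  have hk : r.ker = ρ.ker.subgroupOf M := by
    ext m
    rw [MonoidHom.mem_ker, mem_subgroupOf, MonoidHom.mem_ker, ← hr5, map_eq_one_iff ι hι]
  have hle : ρ.ker ≤ M := fun n hn => ⟨1, by rw [map_one]; exact (MonoidHom.mem_ker.1 hn).symm⟩
  have hrg : r.range = alternatingGroup (Fin 5) := by
    ext s
    rw [Perm.mem_alternatingGroup]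
    constructor
    · rintro ⟨m, rfl⟩
      rw [← hsg, hr5, ← Perm.mem_alternatingGroup, ← hr]
      exact ⟨m, rfl⟩
    · intro h
      obtain ⟨n, hn⟩ : ι s ∈ ρ.range := by rw [hr, Perm.mem_alternatingGroup, hsg, h]
      exact ⟨⟨n, s, hn.symm⟩, hι (by rw [hr5]; exact hn)⟩
  have e : r.ker ≃* ρ.ker := (MulEquiv.subgroupCongr hk).trans (subgroupOfEquivOfLe hle)
  obtain ⟨E, -, h2, h3⟩ := lift M r hrg (by rwa [Nat.card_congr e.toEquiv])
    (IsZGroup.of_injective (f := e.toMonoidHom) e.injective)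
  have hp : ∀ x, p (σ x) ↔ p x := fun x => by
    by_cases h : σ x = x
    · rw [h]
    · exact iff_of_true (hσ _ fun h' => h (σ.injective h')) (hσ x h)
  have hσ' : ι (f.symm.permCongr (σ.subtypePerm hp)) = σ := by
    refine Eq.trans ?_ (Perm.ofSubtype_subtypePerm hp hσ)
    ext x
    by_cases h : p x
    · rw [Perm.ofSubtype_apply_of_mem _ h]
      refine (Perm.extendDomain_apply_subtype _ f h).trans ?_
      simp
    · rw [Perm.ofSubtype_apply_of_not_mem _ h]
      exact Perm.extendDomain_apply_not_subtype _ f h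
  obtain ⟨n, hn⟩ : σ ∈ ρ.range := by rw [hr, Perm.mem_alternatingGroup, hs]
  have hnM : n ∈ M := ⟨_, hσ'.trans hn.symm⟩
  have : (⟨n, hnM⟩ : M) ∈ E ⊔ r.ker := h2 ▸ mem_top _
  obtain ⟨a, ha, b, hb, hab⟩ := mem_sup_of_normal_right.1 this
  refine ⟨a, fun k hk' => ?_, ?_⟩
  · exact congrArg Subtype.val (h3 ha ⟨k, hle hk'⟩ (by rw [hk]; exact hk'))
  · rw [← hr5, ← hn, ← hr5 ⟨n, hnM⟩, ← hab, map_mul, MonoidHom.mem_ker.1 hb, mul_one]

/-- even permutations of six points with a fixed point lift to the centraliser of the kernel -/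
theorem lift6 (lift : LiftStmt.{u}) {N : Type u} [Group N] [Finite N] (ρ : N →* Perm (Fin 6))
    (hr : ρ.range = alternatingGroup (Fin 6)) (hodd : Odd (Nat.card ρ.ker)) (hz : IsZGroup ρ.ker)
    (σ : Perm (Fin 6)) (hs : Perm.sign σ = 1) (i : Fin 6) (hi : σ i = i) :
    ∃ n ∈ centralizer (ρ.ker : Set N), ρ n = σ :=
  liftG lift ρ (finSuccAboveEquiv i) hr hodd hz σ hs fun x hx e => hx (by rw [e, hi])

end Cfsg.Agent.H62.Q4Lift6
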