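import Mathlib
import Cfsg.Agent.H62.T3Ba1

/-! Residues are buildings; the Moufang property of the residues of rank three. -/

set_option autoImplicit false

namespace Cfsg.Agent.H62.T3M

open Cfsg.Agent.H35 Cfsg.Agent.Lead.T3 Cfsg.Agent.H62.T3B Equiv

universe u

variable {I W : Type} [Group W] (X : Cox I W) {I' : Type} (e : I' → I)

/-- The generators of a standard parabolic subgroup. -/
def subGen : InvGen I' (X.WJ (Set.range e)) where
  s a := ⟨X.s (e a), InvGen.s_mem_closure ⟨a, rfl⟩⟩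
  s_mul_s a := Subtype.ext (X.s_mul_s _)
  closure_eq := by
    apply Subgroup.map_injective (X.WJ (Set.range e)).subtype_injective
    rw [MonoidHom.map_closure, ← Set.range_comp, ← MonoidHom.range_eq_map, Subgroup.range_subtype]
    exact congrArg Subgroup.closure (Set.range_comp X.s e)

theorem sub_wp (l : List I') : ((subGen X e).wp l : W) = X.wp (l.map e) := by
  induction l with
  | nil => simp
  | cons a l ih => simp [← ih]; rfl

theorem sub_len (w : X.WJ (Set.range e)) : (subGen X e).len w = X.len w := by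
  apply le_antisymm
  · obtain ⟨l, hl, hr, h⟩ := X.exch.exists_isRed_of_mem_closure w.2
    obtain ⟨l', rfl⟩ : ∃ l' : List I', l'.map e = l := (Set.range_list_map e).ge hl
    have : (subGen X e).wp l' = w := Subtype.ext ((sub_wp X e l').trans h)
    rw [← h, hr, ← this, List.length_map]
    exact (subGen X e).len_wp_le l'
  · obtain ⟨l, hl, rfl⟩ := (subGen X e).exists_red w
    rw [← hl, sub_wp]
    simpa using X.len_wp_le (l.map e)

/-- The Coxeter system of a standard parabolic subgroup. -/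
def subCox (he : Function.Injective e) : Cox I' (X.WJ (Set.range e)) where
  toInvGen := subGen X e
  exch i l hl h := by
    have h1 : X.IsRed (l.map e) := by
      rw [InvGen.IsRed, ← sub_wp, ← sub_len, List.length_map]; exact hl
    rw [sub_len, Subgroup.coe_mul, sub_wp, ← List.length_map e] at h
    obtain ⟨a, j, b, h2, h3⟩ := X.exch (e i) _ h1 h
    obtain ⟨a', t, rfl, rfl, h4⟩ := List.map_eq_append_iff.1 h2
    obtain ⟨j', b', rfl, rfl, rfl⟩ := List.map_eq_cons_iff.1 h4
    exact ⟨a', j', b', rfl, Subtype.ext (by rw [Subgroup.coe_mul, Subgroup.coe_mul, sub_wp]; exact h3)⟩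
  inj a b h := he (X.inj (congrArg Subtype.val h))

variable {X e} (he : Function.Injective e)

theorem sub_m (a b : I') : (subCox X e he).m a b = X.m (e a) (e b) :=
  (Subgroup.orderOf_coe _).symm

theorem sub_rt (v w : X.WJ (Set.range e)) (a : I') :
    w ∈ (subCox X e he).rt v a ↔ (w : W) ∈ X.rt v (e a) := by
  show (subGen X e).len _ < (subGen X e).len _ ↔ _
  rw [sub_len, sub_len]
  rfl

variable {C : Type u} (B : Bld X C) (c : C)

theorem adj_mem {K : Set I} {i : I} (hi : i ∈ K) {x y : C} (hx : x ∈ B.res K c)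
    (h : B.δ x y = X.s i) : y ∈ B.res K c :=
  res_trans B hx (show B.δ x y ∈ X.WJ K from h ▸ InvGen.s_mem_closure hi)

/-- A residue as a building. -/
def subBld : Bld (subCox X e he) (B.res (Set.range e) c) where
  δ x y := ⟨B.δ x y, res_trans B (res_symm B x.2) y.2⟩
  eq_one x y := by rw [Subtype.ext_iff, Subtype.ext_iff]; exact B.eq_one _ _
  symm x y := Subtype.ext (B.symm _ _)
  step i x y z h := (B.step (e i) x y z (congrArg Subtype.val h)).imp Subtype.ext Subtype.ext
  step_up i x y z h h' := Subtype.ext (B.step_up (e i) x y z (congrArg Subtype.val h) (by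
    have h'' : (subGen X e).len _ ≤ (subGen X e).len _ := h'
    rwa [sub_len, sub_len] at h''))
  ex i y z := by
    obtain ⟨x, h1, h2⟩ := B.ex (e i) y z
    exact ⟨⟨x, adj_mem B c (Set.mem_range_self i) y.2 (adj_symm B h1)⟩, Subtype.ext h1, Subtype.ext h2⟩
  thick i x := by
    obtain ⟨y, z, n, h1, h2⟩ := B.thick (e i) x
    exact ⟨⟨y, adj_mem B c (Set.mem_range_self i) x.2 h1⟩, ⟨z, adj_mem B c (Set.mem_range_self i) x.2 h2⟩,
      fun h => n (congrArg Subtype.val h), Subtype.ext h1, Subtype.ext h2⟩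

theorem mou_of_sub {c' : B.res (Set.range e) c} (h : (subBld he B c).Mou Set.univ c') :
    B.Mou (Set.range e) c := by
  classical
  rintro σ hσ h1 v hv _ ⟨a, rfl⟩ x hx y hy
  have hm : ∀ w ∈ X.WJ (Set.range e), σ w ∈ B.res (Set.range e) c := fun w hw =>
    res_trans B h1 (show B.δ _ _ ∈ X.WJ _ by rw [hσ]; simpa using hw)
  have top : ∀ w, w ∈ (subCox X e he).WJ Set.univ := fun w => by
    show w ∈ Subgroup.closure _
    rw [Set.image_univ, (subCox X e he).closure_eq]; trivial
  obtain ⟨g, ⟨⟨-, g2⟩, g3, g4⟩, hg⟩ := h (fun w => ⟨σ w, hm _ w.2⟩)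
    (fun u w => Subtype.ext (hσ _ _)) (top _) ⟨v, hv⟩ (top _) a trivial
    ⟨x, adj_mem B c (Set.mem_range_self a) (hm v hv) hx⟩ (Subtype.ext hx)
    ⟨y, adj_mem B c (Set.mem_range_self a) (hm v hv) hy⟩ (Subtype.ext hy)
  have ap : ∀ z (hz : z ∈ B.res (Set.range e) c), Perm.ofSubtype g z = g ⟨z, hz⟩ := fun z hz =>
    Perm.ofSubtype_apply_of_mem g hz
  refine ⟨Perm.ofSubtype g, ⟨⟨fun z hz => ?_, fun z hz z' hz' => ?_⟩, fun w hw ha => ?_, ?_⟩, ?_⟩
  · rw [res_eq B h1] at hz
    exact Perm.ofSubtype_apply_of_not_mem g hz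
  · rw [res_eq B h1] at hz hz'
    rw [ap z hz, ap z' hz']
    exact congrArg Subtype.val (g2 _ (top _) _ (top _))
  · rw [ap _ (hm w hw)]
    exact congrArg Subtype.val (g3 ⟨w, hw⟩ (top _) ((sub_rt he _ _ _).2 ha))
  · rintro w hw _ ⟨b, rfl⟩ ha hb z hz
    have hz' := adj_mem B c (Set.mem_range_self b) (hm w hw) hz
    rw [ap z hz']
    exact congrArg Subtype.val (g4 ⟨w, hw⟩ (top _) b trivial ((sub_rt he _ _ _).2 ha)
      ((sub_rt he _ _ _).2 hb) ⟨z, hz'⟩ (Subtype.ext hz))
  · rw [ap x (adj_mem B c (Set.mem_range_self a) (hm v hv) hx), hg]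

theorem m_self (i : I) : X.m i i = 1 := by
  show orderOf _ = 1
  rw [X.s_mul_s, orderOf_one]

theorem m_symm (i j : I) : X.m i j = X.m j i := by
  show orderOf _ = orderOf _
  rw [← orderOf_inv, mul_inv_rev, InvGen.inv_s, InvGen.inv_s]

theorem mouStmt (wall : WallStmt) (mou1 : Mou1Stmt.{u}) : MouStmt.{u} := by
  intro I W _ _ X C _ B i j k h c
  have h1 : X.m i j = 3 := h.elim (·.1) (·.1)
  have h2 : X.m j k = 3 ∨ X.m j k = 4 := h.imp (·.2.1) (·.2.1)
  have h3 : X.m i k = 2 := h.elim (·.2.2) (·.2.2)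
  have ne : ∀ a b, X.m a b ≠ 1 → a ≠ b := fun a b h e => h (e ▸ m_self a)
  have n1 := ne i j (by omega)
  have n2 := ne j k (by omega)
  have n3 := ne i k (by omega)
  have he : Function.Injective ![i, j, k] := by
    intro a b
    fin_cases a <;> fin_cases b <;> simp [n1, n2, n3, n1.symm, n2.symm, n3.symm]
  have hr : Set.range ![i, j, k] = {i, j, k} := by
    ext; simp [Matrix.range_cons]; tauto
  rw [← hr]
  refine mou_of_sub he B c (c' := ⟨c, mem_res B _ c⟩) (mou1 (subBld he B c) inferInstance ?_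
    (wall _ (h.imp ?_ ?_)) _)
  · intro a b n
    rw [sub_m]
    have := m_symm (X := X) i j
    have := m_symm (X := X) j k
    have := m_symm (X := X) i k
    fin_cases a <;> fin_cases b <;> simp at n ⊢ <;> omega
  all_goals exact fun h => ⟨(sub_m he _ _).trans h.1, (sub_m he _ _).trans h.2.1,
    (sub_m he _ _).trans h.2.2⟩

end Cfsg.Agent.H62.T3M
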